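import Mathlib

/-!
# Abstract orthogonal geometry: isometries and reflections of a symmetric bilinear form (helper7)

Pure Mathlib.  `isoB B` is the group of linear automorphisms preserving the bilinear form `B`;
`rflB B u` is the reflection in `u` (the identity when `B u u = 0`).
-/

set_option autoImplicit false

namespace Cfsg.Agent.Lib.H7BalM

variable {K : Type*} [Field K] {V : Type*} [AddCommGroup V] [Module K V]
  (B : LinearMap.BilinForm K V)

/-- the isometry group of a bilinear form -/
def isoB : Subgroup (V ≃ₗ[K] V) where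
  carrier := {h | ∀ u v, B (h u) (h v) = B u v}
  one_mem' := fun _ _ => rfl
  mul_mem' := by
    intro a b ha hb u v
    rw [LinearEquiv.mul_apply, LinearEquiv.mul_apply, ha, hb]
  inv_mem' := by
    intro a ha u v
    have := ha (a⁻¹ u) (a⁻¹ v)
    rw [← LinearEquiv.mul_apply, ← LinearEquiv.mul_apply, mul_inv_cancel] at this
    exact this.symm

theorem mem_isoB (h : V ≃ₗ[K] V) : h ∈ isoB B ↔ ∀ u v, B (h u) (h v) = B u v := Iff.rfl

theorem inv_apply_self' (h : V ≃ₗ[K] V) (v : V) : h⁻¹ (h v) = v := by
  rw [← LinearEquiv.mul_apply, inv_mul_cancel]; rfl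

theorem apply_inv_self' (h : V ≃ₗ[K] V) (v : V) : h (h⁻¹ v) = v := by
  rw [← LinearEquiv.mul_apply, mul_inv_cancel]; rfl

theorem isoB_adjoint (h : V ≃ₗ[K] V) (hh : h ∈ isoB B) (u v : V) :
    B (h⁻¹ u) v = B u (h v) := by
  have := hh (h⁻¹ u) v
  rw [apply_inv_self'] at this
  exact this.symm

/-- the reflection, as a function -/
def rflFun (u x : V) : V := x - (2 * B x u / B u u) • u

theorem rflFun_rflFun (u x : V) : rflFun B u (rflFun B u x) = x := by
  unfold rflFun
  by_cases h : B u u = 0
  · simp [h]
  · rw [map_sub, LinearMap.sub_apply, map_smul, LinearMap.smul_apply, smul_eq_mul]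
    have : 2 * (B x u - 2 * B x u / B u u * B u u) / B u u = -(2 * B x u / B u u) := by
      field_simp
      ring
    rw [this, neg_smul]
    abel

/-- the reflection in `u` -/
def rflB (u : V) : V ≃ₗ[K] V where
  toFun := rflFun B u
  invFun := rflFun B u
  map_add' x y := by
    unfold rflFun
    rw [map_add, LinearMap.add_apply, mul_add, add_div, add_smul]
    abel
  map_smul' c x := by
    unfold rflFun
    rw [map_smul, LinearMap.smul_apply, smul_eq_mul, RingHom.id_apply, smul_sub, smul_smul]
    congr 2
    ring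
  left_inv := rflFun_rflFun B u
  right_inv := rflFun_rflFun B u

theorem rflB_apply (u x : V) : rflB B u x = x - (2 * B x u / B u u) • u := rfl

theorem rflB_mul_self (u : V) : rflB B u * rflB B u = 1 := by
  ext x
  rw [LinearEquiv.mul_apply]
  exact rflFun_rflFun B u x

theorem rflB_inv (u : V) : (rflB B u)⁻¹ = rflB B u :=
  inv_eq_of_mul_eq_one_right (rflB_mul_self B u)

theorem rflB_apply_self (u : V) (hu : B u u ≠ 0) : rflB B u u = -u := by
  rw [rflB_apply, mul_div_assoc, div_self hu, mul_one, two_smul]
  abel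

theorem rflB_apply_orth (u x : V) (h : B x u = 0) : rflB B u x = x := by
  rw [rflB_apply, h, mul_zero, zero_div, zero_smul, sub_zero]

/-- conjugating a reflection by an isometry -/
theorem conj_rflB (h : V ≃ₗ[K] V) (hh : h ∈ isoB B) (u : V) :
    h * rflB B u * h⁻¹ = rflB B (h u) := by
  ext x
  rw [LinearEquiv.mul_apply, LinearEquiv.mul_apply, rflB_apply, rflB_apply, map_sub, map_smul,
    apply_inv_self', isoB_adjoint B h hh, hh u u]

/-- an isometry commuting with a reflection preserves its axis up to sign -/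
theorem apply_eq_or_neg_of_comm (h : V ≃ₗ[K] V) (hh : h ∈ isoB B) (u : V) (hu : B u u ≠ 0)
    (h2 : (2 : K) ≠ 0) (hc : h * rflB B u = rflB B u * h) : h u = u ∨ h u = -u := by
  have h1 : rflB B (h u) = rflB B u := by
    rw [← conj_rflB B h hh, hc, mul_inv_cancel_right]
  have hu' : B (h u) (h u) ≠ 0 := by rw [hh u u]; exact hu
  have h3 : rflB B (h u) (h u) = rflB B u (h u) := by rw [h1]
  rw [rflB_apply_self B (h u) hu', rflB_apply] at h3
  obtain ⟨c, hc'⟩ : ∃ c : K, c = 2 * B (h u) u / B u u := ⟨_, rfl⟩
  rw [← hc'] at h3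
  -- `2 (h u) = c u`
  have h4 : (2 : K) • h u = c • u := by
    rw [two_smul]
    have h5 : h u - c • u = -h u := h3.symm
    calc h u + h u = h u - (-(h u)) := by abel
      _ = h u - (h u - c • u) := by rw [h5]
      _ = c • u := by abel
  have h5 : h u = (c / 2) • u := by
    have : h u = (2 : K)⁻¹ • ((2 : K) • h u) := by
      rw [smul_smul, inv_mul_cancel₀ h2, one_smul]
    rw [this, h4, smul_smul]
    congr 1
    field_simp
  have h6 : (c / 2) ^ 2 = 1 := by
    have h7 := hh u u
    rw [h5] at h7
    simp only [map_smul, LinearMap.smul_apply, smul_eq_mul] at h7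
    have h8 : ((c / 2) ^ 2 - 1) * B u u = 0 := by linear_combination h7
    rcases mul_eq_zero.1 h8 with h9 | h9
    · exact sub_eq_zero.1 h9
    · exact absurd h9 hu
  have h7 : (c / 2 - 1) * (c / 2 + 1) = 0 := by linear_combination h6
  rcases mul_eq_zero.1 h7 with h8 | h8
  · left
    rw [h5, sub_eq_zero.1 h8, one_smul]
  · right
    rw [h5, eq_neg_of_add_eq_zero_left h8, neg_smul, one_smul]

variable (hs : B.IsSymm)
include hs

theorem rflB_mem (u : V) : rflB B u ∈ isoB B := by
  intro x y
  rw [rflB_apply, rflB_apply]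
  by_cases h : B u u = 0
  · simp [h]
  · simp only [map_sub, map_smul, LinearMap.sub_apply, LinearMap.smul_apply, smul_eq_mul]
    rw [hs.eq u y]
    field_simp
    ring

theorem rflB_comm_of_orth (u v : V) (h : B u v = 0) :
    rflB B u * rflB B v = rflB B v * rflB B u := by
  have h' : B v u = 0 := by rw [hs.eq]; exact h
  ext x
  simp only [LinearEquiv.mul_apply, rflB_apply, map_sub, map_smul, LinearMap.sub_apply,
    LinearMap.smul_apply, smul_eq_mul, h, h', mul_zero, sub_zero, zero_div, zero_smul]
  abel

end Cfsg.Agent.Lib.H7BalM
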