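import Cfsg.Agent.Lib.Helper7.BalM.AbsA

/-!
# Abstract orthogonal geometry: orthogonal bases (helper7)

Pure Mathlib.  Tools for a basis `b` which is orthogonal and anisotropic for a symmetric bilinear
form `B`: vectors are determined by their products with the basis vectors, maps are isometries
when they preserve the Gram matrix, binary forms over finite fields are universal, central
automorphisms are scalar.
-/

set_option autoImplicit false

namespace Cfsg.Agent.Lib.H7BalM

open Module Polynomial

variable {K : Type*} [Field K] {V : Type*} [AddCommGroup V] [Module K V]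
  (B : LinearMap.BilinForm K V)

theorem rflB_neg (u : V) : rflB B (-u) = rflB B u := by
  ext x
  rw [rflB_apply, rflB_apply]
  simp only [map_neg, LinearMap.neg_apply, neg_neg, smul_neg]
  rw [mul_neg, neg_div, neg_smul, neg_neg]

/-- an isometry fixing `u` up to sign commutes with the reflection in `u` -/
theorem comm_rflB_of_apply (h : V ≃ₗ[K] V) (hh : h ∈ isoB B) (u : V)
    (hu : h u = u ∨ h u = -u) : h * rflB B u = rflB B u * h := by
  have h1 := conj_rflB B h hh u
  have h3 : rflB B (h u) = rflB B u := by
    rcases hu with hu | hu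
    · rw [hu]
    · rw [hu, rflB_neg]
  rw [h3] at h1
  calc h * rflB B u = (h * rflB B u * h⁻¹) * h := by group
    _ = rflB B u * h := by rw [h1]

/-- squares to one: odd powers -/
theorem pow_odd_of_mul_self {G : Type*} [Group G] (y : G) (hy : y * y = 1) (k : ℕ) (hk : Odd k) :
    y ^ k = y := by
  obtain ⟨t, rfl⟩ := hk
  rw [pow_succ, pow_mul, pow_two, hy, one_pow, one_mul]

section basis

variable {ι : Type*} [Fintype ι] [DecidableEq ι] (b : Basis ι K V)
  (horth : ∀ i j, i ≠ j → B (b i) (b j) = 0) (hani : ∀ i, B (b i) (b i) ≠ 0)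

include horth in
theorem B_basis_right (v : V) (i : ι) : B v (b i) = b.repr v i * B (b i) (b i) := by
  conv_lhs => rw [← b.sum_repr v]
  rw [map_sum, LinearMap.sum_apply, Finset.sum_eq_single i]
  · rw [map_smul, LinearMap.smul_apply, smul_eq_mul]
  · intro j _ hji
    rw [map_smul, LinearMap.smul_apply, horth j i hji, smul_zero]
  · intro h
    exact absurd (Finset.mem_univ i) h

include horth hani in
/-- vectors are determined by their products with an orthogonal anisotropic basis -/
theorem ext_B (u v : V) (h : ∀ i, B u (b i) = B v (b i)) : u = v := by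
  apply b.repr.injective
  ext i
  have h1 : b.repr u i * B (b i) (b i) = b.repr v i * B (b i) (b i) := by
    rw [← B_basis_right B b horth u i, ← B_basis_right B b horth v i]
    exact h i
  exact mul_right_cancel₀ (hani i) h1

/-- a linear automorphism preserving the Gram matrix of a basis is an isometry -/
theorem mem_isoB_of_basis (h : V ≃ₗ[K] V)
    (H : ∀ i j, B (h (b i)) (h (b j)) = B (b i) (b j)) : h ∈ isoB B := by
  have h1 : B.compl₁₂ (h : V →ₗ[K] V) (h : V →ₗ[K] V) = B := by
    apply LinearMap.ext_basis b b
    intro i j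
    rw [LinearMap.compl₁₂_apply]
    exact H i j
  intro u v
  have := congrArg (fun f : LinearMap.BilinForm K V => f u v) h1
  simpa using this

end basis

/-- binary diagonal forms over finite fields of odd characteristic are universal -/
theorem exists_sq_add_sq [Finite K] (h2 : (2 : K) ≠ 0) (a c d : K) (ha : a ≠ 0) (hc : c ≠ 0) :
    ∃ s t : K, a * s ^ 2 + c * t ^ 2 = d := by
  classical
  have := Fintype.ofFinite K
  have hchar : ringChar K ≠ 2 := by
    intro h
    have : CharP K 2 := by rw [← h]; exact ringChar.charP K
    exact h2 (by exact_mod_cast CharP.cast_eq_zero K 2)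
  have hodd : Fintype.card K % 2 = 1 := FiniteField.odd_card_of_char_ne_two hchar
  have hf : (C a * X ^ 2 : K[X]).degree = 2 := by
    rw [degree_C_mul_X_pow 2 ha]; rfl
  have hg : (C c * X ^ 2 - C d : K[X]).degree = 2 := by
    rw [degree_sub_eq_left_of_degree_lt]
    · rw [degree_C_mul_X_pow 2 hc]; rfl
    · rw [degree_C_mul_X_pow 2 hc]
      exact lt_of_le_of_lt degree_C_le (by decide)
  obtain ⟨s, t, hst⟩ := FiniteField.exists_root_sum_quadratic hf hg hodd
  refine ⟨s, t, ?_⟩
  simp only [eval_mul, eval_C, eval_pow, eval_X, eval_sub] at hst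
  linear_combination hst

/-- a linear automorphism commuting with all linear automorphisms is scalar -/
theorem scalar_of_central {ι : Type*} [Nontrivial ι] (b : Basis ι K V) (g : V ≃ₗ[K] V)
    (hg : g ∈ Subgroup.center (V ≃ₗ[K] V)) : ∃ c : K, ∀ v, g v = c • v := by
  have h1 : ∀ i j (r : K), i ≠ j →
      Commute (g : V →ₗ[K] V) (LinearMap.transvection (b.coord i) (r • b j)) := by
    intro i j r hij
    have h0 : b.coord i (r • b j) = 0 := by
      rw [map_smul, Basis.coord_apply, Basis.repr_self]
      simp [Finsupp.single_apply, hij.symm]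
    have h3 := Subgroup.mem_center_iff.1 hg (LinearEquiv.transvection h0)
    rw [commute_iff_eq]
    ext v
    have h4 := congrArg (fun f : V ≃ₗ[K] V => f v) h3
    simp only [LinearEquiv.mul_apply] at h4
    rw [Module.End.mul_apply, Module.End.mul_apply]
    exact h4.symm
  obtain ⟨a, ha⟩ := LinearMap.commute_transvections_iff_of_basis b h1
  refine ⟨(a : K), fun v => ?_⟩
  have := congrArg (fun f : V →ₗ[K] V => f v) ha
  simpa [Subring.smul_def] using this

/-- scalar automorphisms are central -/
theorem central_of_scalar (g : V ≃ₗ[K] V) (c : K) (hg : ∀ v, g v = c • v) :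
    g ∈ Subgroup.center (V ≃ₗ[K] V) := by
  rw [Subgroup.mem_center_iff]
  intro h
  ext v
  rw [LinearEquiv.mul_apply, LinearEquiv.mul_apply, hg, hg, map_smul]

end Cfsg.Agent.Lib.H7BalM
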