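import Cfsg.Agent.Lib.Helper7.BalM.AbsB
import Cfsg.Agent.Lib.Helper8.BalL.OddA

/-!
# Odd-order normal subgroups of a centraliser in an orthogonal group are scalar (helper7)

`K` a finite field of odd characteristic, `B` a symmetric bilinear form with an orthogonal
anisotropic basis `b`, `z` an involution which is diagonal (`± 1`) in that basis with no
eigen-block of size exactly two.  A subgroup `N` of isometries commuting with `z`, normalised by
all isometries commuting with `z`, all of whose elements have a scalar odd power, consists of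
scalars.  The proof is helper8's sign-group argument (`core_of_sign_group`) plus the
commutator-with-a-reflection trick killing the rotations of a single plane.
-/

set_option autoImplicit false
set_option linter.unusedSectionVars false
set_option linter.unusedSimpArgs false

namespace Cfsg.Agent.Lib.H7BalM

open Module

variable {K : Type*} [Field K] {V : Type*} [AddCommGroup V] [Module K V]
  (B : LinearMap.BilinForm K V)
  {ι : Type*} [Fintype ι] [DecidableEq ι] (b : Basis ι K V)

/-- the sign group of a basis -/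
def signGrp : Subgroup (V ≃ₗ[K] V) where
  carrier := {e | ∀ i, e (b i) = b i ∨ e (b i) = -(b i)}
  one_mem' := fun i => Or.inl rfl
  mul_mem' := by
    intro e₁ e₂ h₁ h₂ i
    rw [LinearEquiv.mul_apply]
    rcases h₂ i with h | h <;> rcases h₁ i with h' | h'
    · left; rw [h, h']
    · right; rw [h, h']
    · right; rw [h, map_neg, h']
    · left; rw [h, map_neg, h', neg_neg]
  inv_mem' := by
    intro e h i
    rcases h i with h' | h'
    · left
      conv_lhs => rw [← h']
      exact inv_apply_self' e (b i)
    · right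
      have : e⁻¹ (e (b i)) = e⁻¹ (-(b i)) := by rw [h']
      rw [inv_apply_self', map_neg] at this
      exact neg_eq_iff_eq_neg.1 this.symm

theorem mem_signGrp (e : V ≃ₗ[K] V) :
    e ∈ signGrp b ↔ ∀ i, e (b i) = b i ∨ e (b i) = -(b i) := Iff.rfl

theorem signGrp_mul_self (e : V ≃ₗ[K] V) (he : e ∈ signGrp b) : e * e = 1 := by
  apply LinearEquiv.toLinearMap_injective
  apply b.ext
  intro i
  show e (e (b i)) = b i
  rcases he i with h | h
  · rw [h, h]
  · rw [h, map_neg, h, neg_neg]

theorem signGrp_comm (e₁ e₂ : V ≃ₗ[K] V) (h₁ : e₁ ∈ signGrp b) (h₂ : e₂ ∈ signGrp b) :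
    e₁ * e₂ = e₂ * e₁ := by
  apply LinearEquiv.toLinearMap_injective
  apply b.ext
  intro i
  show e₁ (e₂ (b i)) = e₂ (e₁ (b i))
  rcases h₁ i with h | h <;> rcases h₂ i with h' | h' <;>
    simp only [h, h', map_neg, neg_neg]

variable (horth : ∀ i j, i ≠ j → B (b i) (b j) = 0)

include horth in
theorem signGrp_le_isoB : signGrp b ≤ isoB B := by
  intro e he
  apply mem_isoB_of_basis B b
  intro i j
  by_cases hij : i = j
  · subst hij
    rcases he i with h | h
    · rw [h]
    · simp only [h, map_neg, LinearMap.neg_apply, neg_neg]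
  · rw [horth i j hij]
    rcases he i with h | h <;> rcases he j with h' | h' <;>
      simp only [h, h', map_neg, LinearMap.neg_apply, neg_neg, horth i j hij, neg_zero]

include horth in
theorem rflB_basis_mem (i : ι) (hi : B (b i) (b i) ≠ 0) : rflB B (b i) ∈ signGrp b := by
  intro j
  by_cases hij : j = i
  · subst hij
    right
    exact rflB_apply_self B (b j) hi
  · left
    exact rflB_apply_orth B (b i) (b j) (horth j i hij)

theorem exists_fourth (h4 : 4 ≤ Fintype.card ι) (i j k : ι) : ∃ l, l ≠ i ∧ l ≠ j ∧ l ≠ k := by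
  by_contra hcon
  push Not at hcon
  have h1 : (Finset.univ : Finset ι) ⊆ {i, j, k} := by
    intro l _
    simp only [Finset.mem_insert, Finset.mem_singleton]
    by_cases h : l = i
    · exact Or.inl h
    · by_cases h' : l = j
      · exact Or.inr (Or.inl h')
      · exact Or.inr (Or.inr (hcon l h h'))
  have h3 := Finset.card_le_card h1
  have h5 : ({i, j, k} : Finset ι).card ≤ 3 := Finset.card_le_three
  rw [Finset.card_univ] at h3
  omega


variable (hani : ∀ i, B (b i) (b i) ≠ 0) (hs : B.IsSymm) (h2 : (2 : K) ≠ 0)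

/-- "fixed up to sign" -/
def Fx (g : V ≃ₗ[K] V) (i : ι) : Prop := g (b i) = b i ∨ g (b i) = -(b i)

include horth hani in
/-- L2: if `g (b i)` is orthogonal to all other basis vectors then it is `± b i` -/
theorem fx_of_orth (g : V ≃ₗ[K] V) (hg : g ∈ isoB B) (i : ι)
    (h : ∀ l, l ≠ i → B (g (b i)) (b l) = 0) : Fx b g i := by
  obtain ⟨p, hp⟩ : ∃ p : K, p = B (g (b i)) (b i) / B (b i) (b i) := ⟨_, rfl⟩
  have h1 : g (b i) = p • b i := by
    apply ext_B B b horth hani
    intro l
    by_cases hl : l = i
    · subst hl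
      rw [map_smul, LinearMap.smul_apply, smul_eq_mul, hp, div_mul_cancel₀ _ (hani l)]
    · rw [h l hl, map_smul, LinearMap.smul_apply, horth i l (Ne.symm hl), smul_zero]
  have h3 := hg (b i) (b i)
  rw [h1] at h3
  simp only [map_smul, LinearMap.smul_apply, smul_eq_mul] at h3
  have h4 : (p - 1) * (p + 1) * B (b i) (b i) = 0 := by linear_combination h3
  rcases mul_eq_zero.1 h4 with h5 | h5
  · rcases mul_eq_zero.1 h5 with h6 | h6
    · left
      rw [h1, sub_eq_zero.1 h6, one_smul]
    · right
      rw [h1, eq_neg_of_add_eq_zero_left h6, neg_smul, one_smul]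
  · exact absurd h5 (hani i)

include horth hani hs h2 in
/-- L1: commuting with `ρ_i ρ_j` makes `g (b i)` orthogonal to the other basis vectors -/
theorem orth_of_comm_pair (g : V ≃ₗ[K] V) (i j : ι) (hij : i ≠ j)
    (hc : g * (rflB B (b i) * rflB B (b j)) = rflB B (b i) * rflB B (b j) * g)
    (l : ι) (hli : l ≠ i) (hlj : l ≠ j) : B (g (b i)) (b l) = 0 := by
  have hy : rflB B (b i) * rflB B (b j) ∈ isoB B :=
    (isoB B).mul_mem (rflB_mem B hs _) (rflB_mem B hs _)
  have h1 : (rflB B (b i) * rflB B (b j)) (b i) = -(b i) := by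
    rw [LinearEquiv.mul_apply, rflB_apply_orth B (b j) (b i) (horth i j hij),
      rflB_apply_self B (b i) (hani i)]
  have h3 : (rflB B (b i) * rflB B (b j)) (b l) = b l := by
    rw [LinearEquiv.mul_apply, rflB_apply_orth B (b j) (b l) (horth l j hlj),
      rflB_apply_orth B (b i) (b l) (horth l i hli)]
  have h4 : (rflB B (b i) * rflB B (b j)) (g (b i)) = -(g (b i)) := by
    have := congrArg (fun f : V ≃ₗ[K] V => f (b i)) hc
    simp only [LinearEquiv.mul_apply] at this
    rw [LinearEquiv.mul_apply, ← this]
    have h5 := h1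
    rw [LinearEquiv.mul_apply] at h5
    rw [h5, map_neg]
  have h5 := hy (g (b i)) (b l)
  rw [h4, h3, map_neg, LinearMap.neg_apply] at h5
  have h6 : (2 : K) * B (g (b i)) (b l) = 0 := by linear_combination -h5
  rcases mul_eq_zero.1 h6 with h7 | h7
  · exact absurd h7 h2
  · exact h7

include horth hani hs h2 in
/-- L4: a moved index has exactly one moved partner -/
theorem two_moved (g : V ≃ₗ[K] V) (hg : g ∈ isoB B)
    (htri : ∀ e₁ ∈ signGrp b, ∀ e₂ ∈ signGrp b,
      g * e₁ = e₁ * g ∨ g * e₂ = e₂ * g ∨ g * (e₁ * e₂) = (e₁ * e₂) * g)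
    (i : ι) (hi : ¬ Fx b g i) :
    ∃ j, j ≠ i ∧ ¬ Fx b g j ∧
      g * (rflB B (b i) * rflB B (b j)) = rflB B (b i) * rflB B (b j) * g ∧
      ∀ k, k ≠ i → k ≠ j → Fx b g k := by
  have hpair : ∀ j, j ≠ i → ¬ Fx b g j →
      g * (rflB B (b i) * rflB B (b j)) = rflB B (b i) * rflB B (b j) * g := by
    intro j hji hj
    rcases htri _ (rflB_basis_mem B b horth i (hani i)) _ (rflB_basis_mem B b horth j (hani j))
      with h | h | h
    · exact absurd (apply_eq_or_neg_of_comm B g hg (b i) (hani i) h2 h) hi
    · exact absurd (apply_eq_or_neg_of_comm B g hg (b j) (hani j) h2 h) hj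
    · exact h
  have hex : ∃ j, j ≠ i ∧ ¬ Fx b g j := by
    by_contra hcon
    push Not at hcon
    apply hi
    apply fx_of_orth B b horth hani g hg i
    intro l hl
    have h1 := hg (b i) (b l)
    rcases hcon l hl with h | h
    · rw [h] at h1
      rw [h1, horth i l (Ne.symm hl)]
    · rw [h, map_neg] at h1
      have : B (g (b i)) (b l) = -B (b i) (b l) := by rw [← h1, neg_neg]
      rw [this, horth i l (Ne.symm hl), neg_zero]
  obtain ⟨j, hji, hj⟩ := hex
  refine ⟨j, hji, hj, hpair j hji hj, ?_⟩
  intro k hki hkj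
  by_contra hk
  apply hi
  apply fx_of_orth B b horth hani g hg i
  intro l hl
  by_cases hlj : l = j
  · subst hlj
    exact orth_of_comm_pair B b horth hani hs h2 g i k (Ne.symm hki) (hpair k hki hk) l hl
      (Ne.symm hkj)
  · exact orth_of_comm_pair B b horth hani hs h2 g i j (Ne.symm hji) (hpair j hji hj) l hl hlj

include horth hani hs h2 in
/-- L5: commuting with `ρ_i ρ_j` makes `g` preserve the plane of `b i, b j` -/
theorem plane_form (g : V ≃ₗ[K] V) (i j : ι) (hij : i ≠ j)
    (hc : g * (rflB B (b i) * rflB B (b j)) = rflB B (b i) * rflB B (b j) * g) :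
    ∃ p q r s : K, g (b i) = p • b i + q • b j ∧ g (b j) = r • b i + s • b j := by
  have hc' : g * (rflB B (b j) * rflB B (b i)) = rflB B (b j) * rflB B (b i) * g := by
    rw [← rflB_comm_of_orth B hs (b i) (b j) (horth i j hij)]
    exact hc
  refine ⟨B (g (b i)) (b i) / B (b i) (b i), B (g (b i)) (b j) / B (b j) (b j),
    B (g (b j)) (b i) / B (b i) (b i), B (g (b j)) (b j) / B (b j) (b j), ?_, ?_⟩
  · apply ext_B B b horth hani
    intro l
    simp only [map_add, map_smul, LinearMap.add_apply, LinearMap.smul_apply, smul_eq_mul]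
    by_cases hli : l = i
    · subst hli
      rw [horth j l (Ne.symm hij), mul_zero, add_zero, div_mul_cancel₀ _ (hani l)]
    · by_cases hlj : l = j
      · subst hlj
        rw [horth i l hij, mul_zero, zero_add, div_mul_cancel₀ _ (hani l)]
      · rw [horth i l (Ne.symm hli), horth j l (Ne.symm hlj), mul_zero, mul_zero, add_zero]
        exact orth_of_comm_pair B b horth hani hs h2 g i j hij hc l hli hlj
  · apply ext_B B b horth hani
    intro l
    simp only [map_add, map_smul, LinearMap.add_apply, LinearMap.smul_apply, smul_eq_mul]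
    by_cases hli : l = i
    · subst hli
      rw [horth j l (Ne.symm hij), mul_zero, add_zero, div_mul_cancel₀ _ (hani l)]
    · by_cases hlj : l = j
      · subst hlj
        rw [horth i l hij, mul_zero, zero_add, div_mul_cancel₀ _ (hani l)]
      · rw [horth i l (Ne.symm hli), horth j l (Ne.symm hlj), mul_zero, mul_zero, add_zero]
        exact orth_of_comm_pair B b horth hani hs h2 g j i (Ne.symm hij) hc' l hlj hli

end Cfsg.Agent.Lib.H7BalM
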