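import Cfsg.Agent.Lib.Helper7.BalM.AbsC

/-!
# Odd-order normal subgroups of a centraliser in an orthogonal group are scalar, II (helper7)

The commutator-with-a-reflection trick and the main theorem `odd_normal_scalar`.
-/

set_option autoImplicit false
set_option linter.unusedSectionVars false
set_option linter.unusedSimpArgs false

namespace Cfsg.Agent.Lib.H7BalM

open Module

variable {K : Type*} [Field K] {V : Type*} [AddCommGroup V] [Module K V]
  (B : LinearMap.BilinForm K V) (hs : B.IsSymm) (h2 : (2 : K) ≠ 0)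

include hs h2 in
/-- the commutator of `g` with a reflection in `w ⊥ g w` is a non-scalar involution -/
theorem kill_of_vector (z : V ≃ₗ[K] V) (hzB : z ∈ isoB B)
    (N : Subgroup (V ≃ₗ[K] V)) (hN : N ≤ isoB B)
    (hnorm : ∀ h ∈ isoB B, h * z = z * h → ∀ g ∈ N, h * g * h⁻¹ ∈ N)
    (hodd : ∀ g ∈ N, ∃ k, Odd k ∧ ∃ c : K, ∀ v, (g ^ k) v = c • v)
    (g : V ≃ₗ[K] V) (hg : g ∈ N) (w : V) (hw : B w w ≠ 0) (hwg : B w (g w) = 0)
    (hzw : z w = w ∨ z w = -w) (u : V) (hu0 : u ≠ 0) (huw : B u w = 0)
    (hgu : g u = u ∨ g u = -u) : False := by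
  have hgB : g ∈ isoB B := hN hg
  have hρB : rflB B w ∈ isoB B := rflB_mem B hs w
  have hρz : rflB B w * z = z * rflB B w := (comm_rflB_of_apply B z hzB w hzw).symm
  have h1 : g⁻¹ * rflB B w * g = rflB B (g⁻¹ w) := by
    have := conj_rflB B g⁻¹ ((isoB B).inv_mem hgB) w
    rwa [inv_inv] at this
  have haw : B (g⁻¹ w) w = 0 := by rw [isoB_adjoint B g hgB]; exact hwg
  have hwa : B w (g⁻¹ w) = 0 := by rw [hs.eq]; exact haw
  have hyN : g⁻¹ * rflB B w * g * rflB B w ∈ N := by
    have h3 := hnorm _ hρB hρz g hg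
    rw [rflB_inv] at h3
    have h4 := N.mul_mem (N.inv_mem hg) h3
    have : g⁻¹ * (rflB B w * g * rflB B w) = g⁻¹ * rflB B w * g * rflB B w := by group
    rwa [this] at h4
  rw [h1] at hyN
  have hyy : rflB B (g⁻¹ w) * rflB B w * (rflB B (g⁻¹ w) * rflB B w) = 1 := by
    have hc := rflB_comm_of_orth B hs (g⁻¹ w) w haw
    calc rflB B (g⁻¹ w) * rflB B w * (rflB B (g⁻¹ w) * rflB B w)
        = rflB B (g⁻¹ w) * (rflB B w * rflB B (g⁻¹ w)) * rflB B w := by group
      _ = rflB B (g⁻¹ w) * (rflB B (g⁻¹ w) * rflB B w) * rflB B w := by rw [hc]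
      _ = (rflB B (g⁻¹ w) * rflB B (g⁻¹ w)) * (rflB B w * rflB B w) := by group
      _ = 1 := by rw [rflB_mul_self, rflB_mul_self, one_mul]
  have hua : B u (g⁻¹ w) = 0 := by
    rw [hs.eq, isoB_adjoint B g hgB]
    rcases hgu with h | h
    · rw [h, hs.eq]; exact huw
    · rw [h, map_neg, hs.eq, huw, neg_zero]
  have hyu : (rflB B (g⁻¹ w) * rflB B w) u = u := by
    rw [LinearEquiv.mul_apply, rflB_apply_orth B w u huw, rflB_apply_orth B (g⁻¹ w) u hua]
  have hyw : (rflB B (g⁻¹ w) * rflB B w) w = -w := by
    rw [LinearEquiv.mul_apply, rflB_apply_self B w hw, map_neg,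
      rflB_apply_orth B (g⁻¹ w) w hwa]
  obtain ⟨k, hk, c, hc⟩ := hodd _ hyN
  rw [pow_odd_of_mul_self _ hyy k hk] at hc
  have hc1 : c = 1 := by
    have h3 := hc u
    rw [hyu] at h3
    have h4 : (c - 1) • u = 0 := by rw [sub_smul, one_smul, ← h3, sub_self]
    rcases smul_eq_zero.1 h4 with h5 | h5
    · exact sub_eq_zero.1 h5
    · exact absurd h5 hu0
  have h3 := hc w
  rw [hyw, hc1, one_smul] at h3
  have h4 : (2 : K) • w = 0 := by
    rw [two_smul]
    nth_rewrite 1 [← h3]
    rw [neg_add_cancel]
  rcases smul_eq_zero.1 h4 with h5 | h5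
  · exact h2 h5
  · apply hw
    rw [h5, map_zero]


variable {ι : Type*} [Fintype ι] [DecidableEq ι] (b : Basis ι K V)
  (horth : ∀ i j, i ≠ j → B (b i) (b j) = 0) (hani : ∀ i, B (b i) (b i) ≠ 0)

include hs h2 horth hani in
/-- L7: a one-plane element of `N` is impossible -/
theorem plane_contra [Finite K] (z : V ≃ₗ[K] V) (ζ : ι → K) (hζ : ∀ i, ζ i = 1 ∨ ζ i = -1)
    (hz : ∀ i, z (b i) = ζ i • b i)
    (hcol : ∀ i j, i ≠ j → ζ i = ζ j → ∃ k, k ≠ i ∧ k ≠ j ∧ ζ k = ζ i)
    (h4 : 4 ≤ Fintype.card ι)
    (N : Subgroup (V ≃ₗ[K] V)) (hN : N ≤ isoB B) (hNz : ∀ g ∈ N, g * z = z * g)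
    (hnorm : ∀ h ∈ isoB B, h * z = z * h → ∀ g ∈ N, h * g * h⁻¹ ∈ N)
    (hodd : ∀ g ∈ N, ∃ k, Odd k ∧ ∃ c : K, ∀ v, (g ^ k) v = c • v)
    (g : V ≃ₗ[K] V) (hg : g ∈ N) (i j : ι) (hij : i ≠ j) (hi : ¬ Fx b g i)
    (p q r s : K) (hgi : g (b i) = p • b i + q • b j) (hgj : g (b j) = r • b i + s • b j)
    (hfix : ∀ k, k ≠ i → k ≠ j → Fx b g k) : False := by
  have hgB : g ∈ isoB B := hN hg
  have hji : j ≠ i := Ne.symm hij
  have hzB : z ∈ isoB B := by
    apply signGrp_le_isoB B b horth
    intro l
    rcases hζ l with h | h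
    · left; rw [hz, h, one_smul]
    · right; rw [hz, h, neg_smul, one_smul]
  -- `q ≠ 0`
  have hq : q ≠ 0 := by
    intro hq0
    apply hi
    apply fx_of_orth B b horth hani g hgB i
    intro l hl
    rw [hgi, hq0, zero_smul, add_zero, map_smul, LinearMap.smul_apply, horth i l (Ne.symm hl),
      smul_zero]
  -- the relations
  have e1 : p ^ 2 * B (b i) (b i) + q ^ 2 * B (b j) (b j) = B (b i) (b i) := by
    have := hgB (b i) (b i)
    rw [hgi] at this
    simp only [map_add, map_smul, LinearMap.add_apply, LinearMap.smul_apply, smul_eq_mul,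
      horth i j hij, horth j i hji, mul_zero, add_zero, zero_add] at this
    linear_combination this
  have e2 : r ^ 2 * B (b i) (b i) + s ^ 2 * B (b j) (b j) = B (b j) (b j) := by
    have := hgB (b j) (b j)
    rw [hgj] at this
    simp only [map_add, map_smul, LinearMap.add_apply, LinearMap.smul_apply, smul_eq_mul,
      horth i j hij, horth j i hji, mul_zero, add_zero, zero_add] at this
    linear_combination this
  have e3 : p * r * B (b i) (b i) + q * s * B (b j) (b j) = 0 := by
    have := hgB (b i) (b j)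
    rw [hgi, hgj] at this
    simp only [map_add, map_smul, LinearMap.add_apply, LinearMap.smul_apply, smul_eq_mul,
      horth i j hij, horth j i hji, mul_zero, add_zero, zero_add] at this
    linear_combination this
  -- the colours agree
  have hζij : ζ i = ζ j := by
    have hL : (g * z) (b i) = ζ i • (p • b i + q • b j) := by
      rw [LinearEquiv.mul_apply, hz, map_smul, hgi]
    have hR : (z * g) (b i) = p • ζ i • b i + q • ζ j • b j := by
      rw [LinearEquiv.mul_apply, hgi, map_add, map_smul, map_smul, hz, hz]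
    have h1 : B (ζ i • (p • b i + q • b j)) (b j) = B (p • ζ i • b i + q • ζ j • b j) (b j) := by
      rw [← hL, ← hR, hNz g hg]
    simp only [map_add, map_smul, LinearMap.add_apply, LinearMap.smul_apply, smul_eq_mul,
      horth i j hij, mul_zero, zero_add] at h1
    have h3 : (ζ i - ζ j) * (q * B (b j) (b j)) = 0 := by linear_combination h1
    rcases mul_eq_zero.1 h3 with h5 | h5
    · exact sub_eq_zero.1 h5
    · exact absurd h5 (mul_ne_zero hq (hani j))
  -- the determinant
  have hD : (p * s - q * r) ^ 2 = 1 := by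
    have h1 : B (b i) (b i) * B (b j) (b j) * ((p * s - q * r) ^ 2 - 1) = 0 := by
      linear_combination (r ^ 2 * B (b i) (b i) + s ^ 2 * B (b j) (b j)) * e1 +
        B (b i) (b i) * e2 - (p * r * B (b i) (b i) + q * s * B (b j) (b j)) * e3
    rcases mul_eq_zero.1 h1 with h5 | h5
    · exact absurd h5 (mul_ne_zero (hani i) (hani j))
    · exact sub_eq_zero.1 h5
  have hs1 : s = p * (p * s - q * r) := by
    have h1 : B (b i) (b i) * (s - p * (p * s - q * r)) = 0 := by
      linear_combination (-s) * e1 + q * e3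
    rcases mul_eq_zero.1 h1 with h5 | h5
    · exact absurd h5 (hani i)
    · exact sub_eq_zero.1 h5
  have hr1 : r * B (b i) (b i) = -((p * s - q * r) * q * B (b j) (b j)) := by
    linear_combination p * e3 - r * e1
  have hDcases : p * s - q * r = 1 ∨ p * s - q * r = -1 := by
    have : (p * s - q * r - 1) * (p * s - q * r + 1) = 0 := by linear_combination hD
    rcases mul_eq_zero.1 this with h | h
    · exact Or.inl (sub_eq_zero.1 h)
    · exact Or.inr (eq_neg_of_add_eq_zero_left h)
  rcases hDcases with hD1 | hD1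
  · -- rotation
    rw [hD1, mul_one] at hs1
    rw [hD1, one_mul] at hr1
    obtain ⟨k, hki, hkj, hζk⟩ := hcol i j hij hζij
    obtain ⟨l, hli, hlj, hlk⟩ := exists_fourth h4 i j k
    obtain ⟨ε, hε, hgk⟩ : ∃ ε : K, (ε = 1 ∨ ε = -1) ∧ g (b k) = ε • b k := by
      rcases hfix k hki hkj with h | h
      · exact ⟨1, Or.inl rfl, by rw [h, one_smul]⟩
      · exact ⟨-1, Or.inr rfl, by rw [h, neg_smul, one_smul]⟩
    -- the vector
    obtain ⟨x, y, t, hwg, hww⟩ : ∃ x y t : K,
        p * (x ^ 2 * B (b i) (b i) + y ^ 2 * B (b j) (b j)) + t ^ 2 * ε * B (b k) (b k) = 0 ∧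
        x ^ 2 * B (b i) (b i) + y ^ 2 * B (b j) (b j) + t ^ 2 * B (b k) (b k) ≠ 0 := by
      by_cases hp0 : p = 0
      · refine ⟨1, 0, 0, ?_, ?_⟩
        · rw [hp0]; ring
        · have : (1 : K) ^ 2 * B (b i) (b i) + 0 ^ 2 * B (b j) (b j) + 0 ^ 2 * B (b k) (b k) =
            B (b i) (b i) := by ring
          rw [this]
          exact hani i
      · obtain ⟨x, y, hxy⟩ := exists_sq_add_sq h2 (B (b i) (b i)) (B (b j) (b j))
          (-(ε * B (b k) (b k)) / p) (hani i) (hani j)
        refine ⟨x, y, 1, ?_, ?_⟩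
        · have : x ^ 2 * B (b i) (b i) + y ^ 2 * B (b j) (b j) = -(ε * B (b k) (b k)) / p := by
            rw [← hxy]; ring
          rw [this]
          field_simp
          ring
        · have : x ^ 2 * B (b i) (b i) + y ^ 2 * B (b j) (b j) = -(ε * B (b k) (b k)) / p := by
            rw [← hxy]; ring
          rw [this]
          intro h0
          have h1 : B (b k) (b k) * (p - ε) = 0 := by
            field_simp at h0
            linear_combination h0
          rcases mul_eq_zero.1 h1 with h5 | h5
          · exact hani k h5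
          · have hpε : p = ε := sub_eq_zero.1 h5
            have hp2 : p ^ 2 = 1 := by
              rcases hε with h | h <;> rw [hpε, h] <;> ring
            have : q ^ 2 * B (b j) (b j) = 0 := by
              rw [hp2] at e1
              linear_combination e1
            rcases mul_eq_zero.1 this with h6 | h6
            · exact hq (pow_eq_zero_iff (two_ne_zero) |>.1 h6)
            · exact hani j h6
    apply kill_of_vector B hs h2 z hzB N hN hnorm hodd g hg
      (x • b i + y • b j + t • b k) ?_ ?_ ?_ (b l) (b.ne_zero l) ?_ (hfix l hli hlj)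
    · -- anisotropic
      simp only [map_add, map_smul, LinearMap.add_apply, LinearMap.smul_apply, smul_eq_mul,
        horth i j hij, horth j i hji, horth i k (Ne.symm hki), horth k i hki,
        horth j k (Ne.symm hkj), horth k j hkj, mul_zero, add_zero, zero_add]
      intro h0
      apply hww
      linear_combination h0
    · -- orthogonal to its image
      have hgw : g (x • b i + y • b j + t • b k) =
          x • (p • b i + q • b j) + y • (r • b i + s • b j) + t • (ε • b k) := by
        rw [map_add, map_add, map_smul, map_smul, map_smul, hgi, hgj, hgk]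
      rw [hgw]
      simp only [map_add, map_smul, LinearMap.add_apply, LinearMap.smul_apply, smul_eq_mul,
        horth i j hij, horth j i hji, horth i k (Ne.symm hki), horth k i hki,
        horth j k (Ne.symm hkj), horth k j hkj, mul_zero, add_zero, zero_add]
      rw [hs1]
      linear_combination hwg + x * y * hr1
    · -- an eigenvector of `z`
      have hzw : z (x • b i + y • b j + t • b k) = ζ i • (x • b i + y • b j + t • b k) := by
        rw [map_add, map_add, map_smul, map_smul, map_smul, hz, hz, hz, hζk, ← hζij]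
        simp only [smul_add, smul_comm (ζ i)]
      rcases hζ i with h | h
      · left
        rw [hzw, h, one_smul]
      · right
        rw [hzw, h, neg_smul, one_smul]
    · -- the fourth basis vector
      simp only [map_add, map_smul, LinearMap.add_apply, LinearMap.smul_apply, smul_eq_mul,
        horth l i hli, horth l j hlj, horth l k hlk, mul_zero, add_zero]
  · -- reflection type: `g` is an involution
    rw [hD1] at hs1 hr1
    have hs2 : s = -p := by rw [hs1]; ring
    have hr2 : r * B (b i) (b i) = q * B (b j) (b j) := by rw [hr1]; ring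
    have hqr : p ^ 2 + q * r = 1 := by
      have h1 : B (b i) (b i) * (p ^ 2 + q * r - 1) = 0 := by
        linear_combination e1 + q * hr2
      rcases mul_eq_zero.1 h1 with h5 | h5
      · exact absurd h5 (hani i)
      · exact sub_eq_zero.1 h5
    have hgg : g * g = 1 := by
      apply LinearEquiv.toLinearMap_injective
      apply b.ext
      intro l
      show g (g (b l)) = b l
      by_cases hli : l = i
      · subst hli
        rw [hgi, map_add, map_smul, map_smul, hgi, hgj, hs2]
        have : p • (p • b l + q • b j) + q • (r • b l + -p • b j) =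
            (p ^ 2 + q * r) • b l := by
          module
        rw [this, hqr, one_smul]
      · by_cases hlj : l = j
        · subst hlj
          rw [hgj, map_add, map_smul, map_smul, hgi, hgj, hs2]
          have : r • (p • b i + q • b l) + -p • (r • b i + -p • b l) =
              (p ^ 2 + q * r) • b l := by
            module
          rw [this, hqr, one_smul]
        · rcases hfix l hli hlj with h | h
          · rw [h, h]
          · rw [h, map_neg, h, neg_neg]
    obtain ⟨k, hk, c, hc⟩ := hodd g hg
    rw [pow_odd_of_mul_self g hgg k hk] at hc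
    apply hq
    have h1 : B (g (b i)) (b j) = B (c • b i) (b j) := by rw [hc]
    rw [hgi] at h1
    simp only [map_add, map_smul, LinearMap.add_apply, LinearMap.smul_apply, smul_eq_mul,
      horth i j hij, mul_zero, zero_add] at h1
    rcases mul_eq_zero.1 h1 with h5 | h5
    · exact h5
    · exact absurd h5 (hani j)


include hs h2 horth hani in
/-- **odd-order subgroups of the centraliser of a diagonal involution, normalised by that
centraliser, are scalar** -/
theorem odd_normal_scalar [Finite K] (z : V ≃ₗ[K] V) (ζ : ι → K) (hζ : ∀ i, ζ i = 1 ∨ ζ i = -1)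
    (hz : ∀ i, z (b i) = ζ i • b i)
    (hcol : ∀ i j, i ≠ j → ζ i = ζ j → ∃ k, k ≠ i ∧ k ≠ j ∧ ζ k = ζ i)
    (h4 : 4 ≤ Fintype.card ι)
    (N : Subgroup (V ≃ₗ[K] V)) (hN : N ≤ isoB B) (hNz : ∀ g ∈ N, g * z = z * g)
    (hnorm : ∀ h ∈ isoB B, h * z = z * h → ∀ g ∈ N, h * g * h⁻¹ ∈ N)
    (hodd : ∀ g ∈ N, ∃ k, Odd k ∧ ∃ c : K, ∀ v, (g ^ k) v = c • v) :
    ∀ g ∈ N, ∃ c : K, ∀ v, g v = c • v := by
  classical
  have hfin : Module.Finite K V := Module.Finite.of_basis b
  have hV : Finite V := Module.finite_of_finite K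
  have hG : Finite (V ≃ₗ[K] V) :=
    Finite.of_injective (fun f : V ≃ₗ[K] V => (f : V → V)) DFunLike.coe_injective
  have hnt : Nontrivial ι := by
    apply Fintype.one_lt_card_iff_nontrivial.1
    omega
  have hzS : z ∈ signGrp b := by
    intro l
    rcases hζ l with h | h
    · left; rw [hz, h, one_smul]
    · right; rw [hz, h, neg_smul, one_smul]
  -- four distinct indices
  obtain ⟨i₀⟩ : Nonempty ι := inferInstance
  obtain ⟨i₁, hi₁, -, -⟩ := exists_fourth h4 i₀ i₀ i₀
  obtain ⟨i₂, hi₂₀, hi₂₁, -⟩ := exists_fourth h4 i₀ i₁ i₁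
  have hne2 : (1 : K) ≠ -1 := by
    intro h
    apply h2
    linear_combination h
  have hnotc : ∀ e : V ≃ₗ[K] V, ∀ i k : ι, e (b i) = -(b i) → e (b k) = b k →
      e ∉ Subgroup.center (V ≃ₗ[K] V) := by
    intro e i k hei hek hcen
    obtain ⟨c, hc⟩ := scalar_of_central b e hcen
    have h1 : c = 1 := by
      have h3 := hc (b k)
      rw [hek] at h3
      have h4 : (c - 1) • b k = 0 := by rw [sub_smul, one_smul, ← h3, sub_self]
      rcases smul_eq_zero.1 h4 with h5 | h5
      · exact sub_eq_zero.1 h5
      · exact absurd h5 (b.ne_zero k)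
    have h3 := hc (b i)
    rw [hei, h1, one_smul] at h3
    have h4 : (2 : K) • b i = 0 := by
      rw [two_smul]
      nth_rewrite 1 [← h3]
      rw [neg_add_cancel]
    rcases smul_eq_zero.1 h4 with h5 | h5
    · exact h2 h5
    · exact b.ne_zero i h5
  have hcen : N ≤ Subgroup.center (V ≃ₗ[K] V) := by
    apply Cfsg.Agent.Lib.Helper8.BalL.core_of_sign_group N (signGrp b) (signGrp_mul_self b)
      (fun e₁ h₁ e₂ h₂ => signGrp_comm b e₁ e₂ h₁ h₂)
    · intro e he g hg
      exact hnorm e (signGrp_le_isoB B b horth he) (signGrp_comm b e z he hzS) g hg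
    · intro g hg
      obtain ⟨k, hk, c, hc⟩ := hodd g hg
      exact ⟨k, hk, central_of_scalar _ c hc⟩
    · refine ⟨rflB B (b i₀), rflB_basis_mem B b horth i₀ (hani i₀),
        rflB B (b i₁), rflB_basis_mem B b horth i₁ (hani i₁), ?_, ?_, ?_⟩
      · exact hnotc _ i₀ i₁ (rflB_apply_self B _ (hani i₀))
          (rflB_apply_orth B _ _ (horth i₁ i₀ hi₁))
      · exact hnotc _ i₁ i₀ (rflB_apply_self B _ (hani i₁))
          (rflB_apply_orth B _ _ (horth i₀ i₁ (Ne.symm hi₁)))
      · apply hnotc _ i₀ i₂
        · rw [LinearEquiv.mul_apply, rflB_apply_orth B _ _ (horth i₀ i₁ (Ne.symm hi₁)),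
            rflB_apply_self B _ (hani i₀)]
        · rw [LinearEquiv.mul_apply, rflB_apply_orth B _ _ (horth i₂ i₁ hi₂₁),
            rflB_apply_orth B _ _ (horth i₂ i₀ hi₂₀)]
    · intro g hg htri
      by_cases hall : ∀ i, Fx b g i
      · have hgg : g * g = 1 := by
          apply LinearEquiv.toLinearMap_injective
          apply b.ext
          intro l
          show g (g (b l)) = b l
          rcases hall l with h | h
          · rw [h, h]
          · rw [h, map_neg, h, neg_neg]
        obtain ⟨k, hk, c, hc⟩ := hodd g hg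
        rw [pow_odd_of_mul_self g hgg k hk] at hc
        exact central_of_scalar g c hc
      · exfalso
        push Not at hall
        obtain ⟨i, hi⟩ := hall
        obtain ⟨j, hji, -, hcomm, hfix⟩ := two_moved B b horth hani hs h2 g (hN hg) htri i hi
        obtain ⟨p, q, r, s, hgi, hgj⟩ :=
          plane_form B b horth hani hs h2 g i j (Ne.symm hji) hcomm
        exact plane_contra B hs h2 b horth hani z ζ hζ hz hcol h4 N hN hNz hnorm hodd g hg i j
          (Ne.symm hji) hi p q r s hgi hgj hfix
  intro g hg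
  exact scalar_of_central b g (hcen hg)

end Cfsg.Agent.Lib.H7BalM
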