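import Cfsg.Agent.Lib.Helper7.BalM.AbsB

/-!
# Rigidity: semilinear maps commuting with products of two commuting reflections (helper7)

Pure Mathlib.  `f` an injective additive `τ`-semilinear self-map of `V` commuting with `ρ_u ρ_v`
for all orthogonal eigenvectors `u, v` of the diagonal involution `z` with `B u u = B v v ≠ 0`.
Then `τ = id` and `f` is scalar on each eigen-block of `z`.
-/

set_option autoImplicit false
set_option linter.unusedSectionVars false
set_option linter.unusedSimpArgs false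

namespace Cfsg.Agent.Lib.H7BalM

open Module

variable {K : Type*} [Field K] {V : Type*} [AddCommGroup V] [Module K V]
  (B : LinearMap.BilinForm K V) (hs : B.IsSymm) (h2 : (2 : K) ≠ 0)

/-- the commutation hypothesis -/
def CommRR (z : V ≃ₗ[K] V) (f : V → V) : Prop :=
  ∀ u v : V, B u u ≠ 0 → B v v = B u u → B u v = 0 → (z u = u ∨ z u = -u) →
    (z v = v ∨ z v = -v) → ∀ w, f (rflB B u (rflB B v w)) = rflB B u (rflB B v (f w))

include hs h2 in
/-- a vector negated by `ρ_u ρ_v` (`u ⊥ v`) lies in the plane of `u, v` -/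
theorem mem_plane_of_neg (u v a : V) (huv : B u v = 0)
    (ha : rflB B u (rflB B v a) = -a) :
    a = (B a u / B u u) • u + (B a v / B v v) • v := by
  have hvu : B v u = 0 := by rw [hs.eq]; exact huv
  rw [rflB_apply, rflB_apply] at ha
  simp only [map_sub, map_smul, LinearMap.sub_apply, LinearMap.smul_apply, smul_eq_mul, hvu,
    mul_zero, sub_zero] at ha
  have h1 : (2 : K) • a = (2 : K) • ((B a u / B u u) • u + (B a v / B v v) • v) := by
    rw [two_smul]
    have h3 : a = -(a - (2 * B a v / B v v) • v - (2 * B a u / B u u) • u) := by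
      rw [ha, neg_neg]
    nth_rewrite 1 [h3]
    rw [smul_add, smul_smul, smul_smul, mul_div_assoc, mul_div_assoc]
    abel
  have h3 := congrArg (fun x : V => (2 : K)⁻¹ • x) h1
  simp only [smul_smul, inv_mul_cancel₀ h2, one_smul] at h3
  exact h3


variable (z : V ≃ₗ[K] V) (f : V →+ V) (τ : K → K) (hsemi : ∀ (c : K) (v : V), f (c • v) = τ c • f v)
  (hcomm : CommRR B z f)

include hs h2 hcomm in
/-- `f u` lies in the plane of `u` and `v` -/
theorem f_mem_plane (u v : V) (hu : B u u ≠ 0) (hv : B v v = B u u) (huv : B u v = 0)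
    (hzu : z u = u ∨ z u = -u) (hzv : z v = v ∨ z v = -v) :
    ∃ α β : K, f u = α • u + β • v := by
  have h1 := hcomm u v hu hv huv hzu hzv u
  have hvu : B v u = 0 := by rw [hs.eq]; exact huv
  rw [rflB_apply_orth B v u huv, rflB_apply_self B u hu, map_neg] at h1
  exact ⟨_, _, mem_plane_of_neg B hs h2 u v (f u) huv h1.symm⟩

include hs h2 hcomm in
/-- **the line lemma**: three pairwise orthogonal anisotropic vectors in one eigenspace of `z`,
all orthogonal to the anisotropic eigenvector `u`, force `f u ∈ K u` -/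
theorem line_of_triple [Finite K] (u : V) (hu : B u u ≠ 0) (hzu : z u = u ∨ z u = -u)
    (y₁ y₂ y₃ : V) (ε : K) (hε : ε = 1 ∨ ε = -1)
    (hz₁ : z y₁ = ε • y₁) (hz₂ : z y₂ = ε • y₂) (hz₃ : z y₃ = ε • y₃)
    (h₁ : B y₁ y₁ ≠ 0) (h₂ : B y₂ y₂ ≠ 0) (h₃ : B y₃ y₃ ≠ 0)
    (h₁₂ : B y₁ y₂ = 0) (h₁₃ : B y₁ y₃ = 0) (h₂₃ : B y₂ y₃ = 0)
    (hu₁ : B u y₁ = 0) (hu₂ : B u y₂ = 0) (hu₃ : B u y₃ = 0) :
    ∃ l : K, f u = l • u := by
  have h₂₁ : B y₂ y₁ = 0 := by rw [hs.eq]; exact h₁₂
  have h₃₁ : B y₃ y₁ = 0 := by rw [hs.eq]; exact h₁₃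
  have h₃₂ : B y₃ y₂ = 0 := by rw [hs.eq]; exact h₂₃
  -- eigenvectors of `z`
  have hzcomb : ∀ (ya yb : V) (s t : K), z ya = ε • ya → z yb = ε • yb →
      (z (s • ya + t • yb) = s • ya + t • yb ∨ z (s • ya + t • yb) = -(s • ya + t • yb)) := by
    intro ya yb s t ha hb
    have : z (s • ya + t • yb) = ε • (s • ya + t • yb) := by
      rw [map_add, map_smul, map_smul, ha, hb, smul_add, smul_comm ε s, smul_comm ε t]
    rcases hε with h | h
    · left; rw [this, h, one_smul]
    · right; rw [this, h, neg_smul, one_smul]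
  -- the general step: a vector `v = s ya + t yb` of the right norm
  have hstep : ∀ (ya yb : V) (s t : K), z ya = ε • ya → z yb = ε • yb → B ya yb = 0 →
      B u ya = 0 → B u yb = 0 →
      s ^ 2 * B ya ya + t ^ 2 * B yb yb = B u u →
      ∃ α β : K, f u = α • u + β • (s • ya + t • yb) := by
    intro ya yb s t ha hb hab hua hub hn
    have hba : B yb ya = 0 := by rw [hs.eq]; exact hab
    apply f_mem_plane B hs h2 z f hcomm u (s • ya + t • yb) hu ?_ ?_ hzu (hzcomb ya yb s t ha hb)
    · simp only [map_add, map_smul, LinearMap.add_apply, LinearMap.smul_apply, smul_eq_mul, hab,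
        hba, mul_zero, add_zero, zero_add]
      linear_combination hn
    · simp only [map_add, map_smul, smul_eq_mul, hua, hub, mul_zero, add_zero]
  obtain ⟨s₁, t₁, hn₁⟩ := exists_sq_add_sq h2 (B y₁ y₁) (B y₂ y₂) (B u u) h₁ h₂
  have hn₁' : s₁ ^ 2 * B y₁ y₁ + t₁ ^ 2 * B y₂ y₂ = B u u := by rw [← hn₁]; ring
  obtain ⟨α₁, β₁, hf₁⟩ := hstep y₁ y₂ s₁ t₁ hz₁ hz₂ h₁₂ hu₁ hu₂ hn₁'
  by_cases ht₁ : t₁ = 0
  · -- `v₁ = s₁ y₁`; take `v₂` in the plane of `y₂, y₃`
    have hs₁ : s₁ ≠ 0 := by
      rintro rfl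
      apply hu
      rw [← hn₁', ht₁]
      ring
    obtain ⟨s₂, t₂, hn₂⟩ := exists_sq_add_sq h2 (B y₂ y₂) (B y₃ y₃) (B u u) h₂ h₃
    have hn₂' : s₂ ^ 2 * B y₂ y₂ + t₂ ^ 2 * B y₃ y₃ = B u u := by rw [← hn₂]; ring
    obtain ⟨α₂, β₂, hf₂⟩ := hstep y₂ y₃ s₂ t₂ hz₂ hz₃ h₂₃ hu₂ hu₃ hn₂'
    have h5 : B (f u) y₁ = β₁ * s₁ * B y₁ y₁ := by
      rw [hf₁, ht₁]
      simp only [map_add, map_smul, LinearMap.add_apply, LinearMap.smul_apply, smul_eq_mul, hu₁,
        h₂₁, mul_zero, add_zero, zero_add, zero_smul]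
      ring
    have h6 : B (f u) y₁ = 0 := by
      rw [hf₂]
      simp only [map_add, map_smul, LinearMap.add_apply, LinearMap.smul_apply, smul_eq_mul, hu₁,
        h₂₁, h₃₁, mul_zero, add_zero, zero_add]
    have hβ : β₁ = 0 := by
      rw [h5] at h6
      rcases mul_eq_zero.1 h6 with h7 | h7
      · rcases mul_eq_zero.1 h7 with h8 | h8
        · exact h8
        · exact absurd h8 hs₁
      · exact absurd h7 h₁
    exact ⟨α₁, by rw [hf₁, hβ, zero_smul, add_zero]⟩
  · -- `v₁` has a `y₂`-component; take `v₂` in the plane of `y₁, y₃`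
    obtain ⟨s₂, t₂, hn₂⟩ := exists_sq_add_sq h2 (B y₁ y₁) (B y₃ y₃) (B u u) h₁ h₃
    have hn₂' : s₂ ^ 2 * B y₁ y₁ + t₂ ^ 2 * B y₃ y₃ = B u u := by rw [← hn₂]; ring
    obtain ⟨α₂, β₂, hf₂⟩ := hstep y₁ y₃ s₂ t₂ hz₁ hz₃ h₁₃ hu₁ hu₃ hn₂'
    have h5 : B (f u) y₂ = β₁ * t₁ * B y₂ y₂ := by
      rw [hf₁]
      simp only [map_add, map_smul, LinearMap.add_apply, LinearMap.smul_apply, smul_eq_mul, hu₂,
        h₁₂, mul_zero, add_zero, zero_add]
      ring
    have h6 : B (f u) y₂ = 0 := by
      rw [hf₂]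
      simp only [map_add, map_smul, LinearMap.add_apply, LinearMap.smul_apply, smul_eq_mul, hu₂,
        h₁₂, h₃₂, mul_zero, add_zero, zero_add]
    have hβ : β₁ = 0 := by
      rw [h5] at h6
      rcases mul_eq_zero.1 h6 with h7 | h7
      · rcases mul_eq_zero.1 h7 with h8 | h8
        · exact h8
        · exact absurd h8 ht₁
      · exact absurd h7 h₂
    exact ⟨α₁, by rw [hf₁, hβ, zero_smul, add_zero]⟩


variable {ι : Type*} [Fintype ι] [DecidableEq ι] (b : Basis ι K V)
  (horth : ∀ i j, i ≠ j → B (b i) (b j) = 0) (hani : ∀ i, B (b i) (b i) ≠ 0)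
  (ζ : ι → K) (hζ : ∀ i, ζ i = 1 ∨ ζ i = -1) (hz : ∀ i, z (b i) = ζ i • b i)

/-- three distinct indices of the same colour outside `S` -/
def TripleOut (S : Finset ι) : Prop :=
  ∃ k l p, k ∉ S ∧ l ∉ S ∧ p ∉ S ∧ k ≠ l ∧ k ≠ p ∧ l ≠ p ∧ ζ k = ζ l ∧ ζ k = ζ p

include hs h2 hcomm horth hani hζ hz in
/-- the line lemma in a basis: `u` anisotropic eigenvector orthogonal to the basis vectors outside
`S` -/
theorem line_basis [Finite K] (S : Finset ι) (hS : TripleOut ζ S) (u : V) (hu : B u u ≠ 0)
    (hzu : z u = u ∨ z u = -u) (hsupp : ∀ l, l ∉ S → B u (b l) = 0) :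
    ∃ l : K, f u = l • u := by
  obtain ⟨k, l, p, hk, hl, hp, hkl, hkp, hlp, hζkl, hζkp⟩ := hS
  exact line_of_triple B hs h2 z f hcomm u hu hzu (b k) (b l) (b p) (ζ k) (hζ k) (hz k)
    (by rw [hz, hζkl]) (by rw [hz, hζkp]) (hani k) (hani l) (hani p) (horth k l hkl)
    (horth k p hkp) (horth l p hlp) (hsupp k hk) (hsupp l hl) (hsupp p hp)

include hs h2 hcomm horth hani hζ hz hsemi in
/-- Step (b): the pair relation -/
theorem pair_rel [Finite K] (l : ι → K) (hl : ∀ i, f (b i) = l i • b i) (i j : ι) (hij : i ≠ j)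
    (hζij : ζ i = ζ j) (hS : TripleOut ζ {i, j}) (s t : K)
    (hst : s ^ 2 * B (b i) (b i) + t ^ 2 * B (b j) (b j) ≠ 0) :
    τ s * l i * t = τ t * l j * s := by
  have hji : j ≠ i := Ne.symm hij
  have hu : B (s • b i + t • b j) (s • b i + t • b j) ≠ 0 := by
    simp only [map_add, map_smul, LinearMap.add_apply, LinearMap.smul_apply, smul_eq_mul,
      horth i j hij, horth j i hji, mul_zero, add_zero, zero_add]
    intro h0
    apply hst
    linear_combination h0
  have hzu : z (s • b i + t • b j) = s • b i + t • b j ∨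
      z (s • b i + t • b j) = -(s • b i + t • b j) := by
    have : z (s • b i + t • b j) = ζ i • (s • b i + t • b j) := by
      rw [map_add, map_smul, map_smul, hz, hz, ← hζij, smul_add, smul_comm (ζ i) s,
        smul_comm (ζ i) t]
    rcases hζ i with h | h
    · left; rw [this, h, one_smul]
    · right; rw [this, h, neg_smul, one_smul]
  obtain ⟨μ, hμ⟩ := line_basis B hs h2 z f hcomm b horth hani ζ hζ hz {i, j} hS
    (s • b i + t • b j) hu hzu (by
      intro k hk
      simp only [Finset.mem_insert, Finset.mem_singleton, not_or] at hk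
      simp only [map_add, map_smul, LinearMap.add_apply, LinearMap.smul_apply, smul_eq_mul,
        horth i k (Ne.symm hk.1), horth j k (Ne.symm hk.2), mul_zero, add_zero])
  rw [map_add, hsemi, hsemi, hl, hl] at hμ
  have h1 := congrArg (fun v : V => B v (b i)) hμ
  have h3 := congrArg (fun v : V => B v (b j)) hμ
  simp only [map_add, map_smul, LinearMap.add_apply, LinearMap.smul_apply, smul_eq_mul,
    horth i j hij, horth j i hji, mul_zero, add_zero, zero_add] at h1 h3
  have h4 : τ s * l i = μ * s := by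
    apply mul_right_cancel₀ (hani i)
    linear_combination h1
  have h5 : τ t * l j = μ * t := by
    apply mul_right_cancel₀ (hani j)
    linear_combination h3
  rw [h4, h5]
  ring

include hs h2 hcomm horth hani hζ hz hsemi in
/-- Step (c): the triple relation -/
theorem triple_rel [Finite K] (l : ι → K) (hl : ∀ i, f (b i) = l i • b i)
    (i j k : ι) (hij : i ≠ j) (hik : i ≠ k) (hjk : j ≠ k)
    (hζij : ζ i = ζ j) (hζik : ζ i = ζ k) (hS : TripleOut ζ {i, j, k})
    (hn : B (b i) (b i) + B (b j) (b j) + B (b k) (b k) ≠ 0) : l i = l j := by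
  have hu : B (b i + b j + b k) (b i + b j + b k) ≠ 0 := by
    simp only [map_add, LinearMap.add_apply, horth i j hij, horth j i (Ne.symm hij),
      horth i k hik, horth k i (Ne.symm hik), horth j k hjk, horth k j (Ne.symm hjk), add_zero,
      zero_add]
    exact hn
  have hzu : z (b i + b j + b k) = b i + b j + b k ∨ z (b i + b j + b k) = -(b i + b j + b k) := by
    have : z (b i + b j + b k) = ζ i • (b i + b j + b k) := by
      rw [map_add, map_add, hz, hz, hz, ← hζij, ← hζik, smul_add, smul_add]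
    rcases hζ i with h | h
    · left; rw [this, h, one_smul]
    · right; rw [this, h, neg_smul, one_smul]
  obtain ⟨μ, hμ⟩ := line_basis B hs h2 z f hcomm b horth hani ζ hζ hz {i, j, k} hS
    (b i + b j + b k) hu hzu (by
      intro m hm
      simp only [Finset.mem_insert, Finset.mem_singleton, not_or] at hm
      simp only [map_add, LinearMap.add_apply, horth i m (Ne.symm hm.1),
        horth j m (Ne.symm hm.2.1), horth k m (Ne.symm hm.2.2), add_zero])
  rw [map_add, map_add, hl, hl, hl] at hμ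
  have h1 := congrArg (fun v : V => B v (b i)) hμ
  have h3 := congrArg (fun v : V => B v (b j)) hμ
  simp only [map_add, map_smul, LinearMap.add_apply, LinearMap.smul_apply, smul_eq_mul,
    horth i j hij, horth j i (Ne.symm hij), horth k i (Ne.symm hik), horth k j (Ne.symm hjk),
    mul_zero, add_zero, zero_add] at h1 h3
  have h4 : l i = μ := mul_right_cancel₀ (hani i) h1
  have h5 : l j = μ := mul_right_cancel₀ (hani j) h3
  rw [h4, h5]


include hs h2 hcomm horth hani hζ hz hsemi in
/-- **rigidity**: `τ = id` and `f` is scalar on each eigen-block of `z` -/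
theorem rigid_abs [Finite K] (hinj : Function.Injective f)
    (hcol : ∀ i j, i ≠ j → ζ i = ζ j → ∃ k, k ≠ i ∧ k ≠ j ∧ ζ k = ζ i)
    (htri : ∀ S : Finset ι, (S.card ≤ 2 ∨ (S.card ≤ 3 ∧ ∀ t : K, t = 0 ∨ t = 1 ∨ t = -1)) →
      TripleOut ζ S) :
    (∀ c, τ c = c) ∧ ∃ l : ι → K, (∀ i, f (b i) = l i • b i) ∧ ∀ i j, ζ i = ζ j → l i = l j := by
  classical
  -- cancellation
  have hcancel : ∀ (v : V) (c₁ c₂ : K), v ≠ 0 → c₁ • f v = c₂ • f v → c₁ = c₂ := by
    intro v c₁ c₂ hv h
    have hfv : f v ≠ 0 := by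
      intro h0
      apply hv
      apply hinj
      rw [h0, map_zero]
    have h1 : (c₁ - c₂) • f v = 0 := by rw [sub_smul, h, sub_self]
    rcases smul_eq_zero.1 h1 with h3 | h3
    · exact sub_eq_zero.1 h3
    · exact absurd h3 hfv
  obtain ⟨k₀, l₀, p₀, -, -, -, hkl₀, hkp₀, hlp₀, hζkl₀, hζkp₀⟩ :=
    htri ∅ (Or.inl (by simp))
  have hb0 : b k₀ ≠ 0 := b.ne_zero k₀
  have hτ1 : τ 1 = 1 := by
    apply hcancel (b k₀) _ _ hb0
    rw [← hsemi, one_smul, one_smul]
  have hτadd : ∀ s t : K, τ (s + t) = τ s + τ t := by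
    intro s t
    apply hcancel (b k₀) _ _ hb0
    rw [← hsemi, add_smul, map_add, hsemi, hsemi, add_smul]
  have hτ0 : τ 0 = 0 := by
    have := hτadd 0 0
    rw [add_zero] at this
    linear_combination -this
  have hτneg : τ (-1) = -1 := by
    have := hτadd (-1) 1
    rw [neg_add_cancel, hτ0, hτ1] at this
    linear_combination -this
  -- Step (a)
  have hline : ∀ i, ∃ l : K, f (b i) = l • b i := by
    intro i
    apply line_basis B hs h2 z f hcomm b horth hani ζ hζ hz {i} (htri {i} (Or.inl (by simp)))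
      (b i) (hani i)
    · rcases hζ i with h | h
      · left; rw [hz, h, one_smul]
      · right; rw [hz, h, neg_smul, one_smul]
    · intro l hl
      simp only [Finset.mem_singleton] at hl
      exact horth i l (Ne.symm hl)
  choose l hl using hline
  have hl0 : ∀ i, l i ≠ 0 := by
    intro i h0
    have h1 := hl i
    rw [h0, zero_smul] at h1
    exact b.ne_zero i (hinj (by rw [h1, map_zero]))
  have hpairS : ∀ i j : ι, TripleOut ζ {i, j} := by
    intro i j
    apply htri
    left
    exact Finset.card_le_two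
  -- good pairs
  have hgood : ∀ i j, i ≠ j → ζ i = ζ j → B (b i) (b i) + B (b j) (b j) ≠ 0 →
      l i = l j ∧ ∀ t, τ t = t := by
    intro i j hij hζij hβ
    have h1 := pair_rel B hs h2 z f τ hsemi hcomm b horth hani ζ hζ hz l hl i j hij hζij
      (hpairS i j) 1 1 (by
        intro h0
        apply hβ
        linear_combination h0)
    rw [hτ1, one_mul, mul_one, one_mul, mul_one] at h1
    refine ⟨h1, ?_⟩
    have hgt : ∀ t, B (b i) (b i) + t ^ 2 * B (b j) (b j) ≠ 0 → τ t = t := by
      intro t ht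
      have h3 := pair_rel B hs h2 z f τ hsemi hcomm b horth hani ζ hζ hz l hl i j hij hζij
        (hpairS i j) 1 t (by
          intro h0
          apply ht
          linear_combination h0)
      rw [hτ1, one_mul, mul_one, ← h1] at h3
      apply mul_right_cancel₀ (hl0 i)
      linear_combination -h3
    intro t
    by_cases ht : B (b i) (b i) + t ^ 2 * B (b j) (b j) ≠ 0
    · exact hgt t ht
    · push Not at ht
      by_cases ht1 : B (b i) (b i) + (t + 1) ^ 2 * B (b j) (b j) ≠ 0
      · have h3 := hgt (t + 1) ht1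
        rw [hτadd, hτ1] at h3
        linear_combination h3
      · push Not at ht1
        have ht2 : B (b i) (b i) + (t - 1) ^ 2 * B (b j) (b j) ≠ 0 := by
          intro h0
          have h5 : (4 : K) * t * B (b j) (b j) = 0 := by linear_combination ht1 - h0
          have h4 : (4 : K) ≠ 0 := by
            have : (4 : K) = 2 * 2 := by norm_num
            rw [this]
            exact mul_ne_zero h2 h2
          rcases mul_eq_zero.1 h5 with h6 | h6
          · rcases mul_eq_zero.1 h6 with h7 | h7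
            · exact h4 h7
            · apply hani i
              rw [h7] at ht
              linear_combination ht
          · exact hani j h6
        have h3 := hgt (t - 1) ht2
        have h5 : τ (t - 1) = τ t + τ (-1) := by rw [← hτadd, sub_eq_add_neg]
        rw [h5, hτneg] at h3
        linear_combination h3
  by_cases hsmall : ∀ t : K, t = 0 ∨ t = 1 ∨ t = -1
  · -- the field with three elements
    have hτid : ∀ c, τ c = c := by
      intro c
      rcases hsmall c with h | h | h
      · rw [h, hτ0]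
      · rw [h, hτ1]
      · rw [h, hτneg]
    refine ⟨hτid, l, hl, ?_⟩
    intro i j hζij
    by_cases hij : i = j
    · rw [hij]
    by_cases hβ : B (b i) (b i) + B (b j) (b j) ≠ 0
    · exact (hgood i j hij hζij hβ).1
    · push Not at hβ
      obtain ⟨k, hki, hkj, hζk⟩ := hcol i j hij hζij
      apply triple_rel B hs h2 z f τ hsemi hcomm b horth hani ζ hζ hz l hl i j k hij (Ne.symm hki)
        (Ne.symm hkj) hζij hζk.symm
      · apply htri
        right
        exact ⟨Finset.card_le_three, hsmall⟩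
      · rw [hβ, zero_add]
        exact hani k
  · push Not at hsmall
    obtain ⟨t₀, ht0, ht1, ht2⟩ := hsmall
    -- a good pair among `k₀, l₀, p₀`
    have hτid : ∀ c, τ c = c := by
      by_cases h1 : B (b k₀) (b k₀) + B (b l₀) (b l₀) ≠ 0
      · exact (hgood k₀ l₀ hkl₀ hζkl₀ h1).2
      · by_cases h3 : B (b k₀) (b k₀) + B (b p₀) (b p₀) ≠ 0
        · exact (hgood k₀ p₀ hkp₀ hζkp₀ h3).2
        · push Not at h1 h3
          apply (hgood l₀ p₀ hlp₀ (by rw [← hζkl₀, hζkp₀]) ?_).2
          intro h0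
          apply hani k₀
          have h4 : (2 : K) * B (b k₀) (b k₀) = 0 := by linear_combination h1 + h3 - h0
          rcases mul_eq_zero.1 h4 with h5 | h5
          · exact absurd h5 h2
          · exact h5
    refine ⟨hτid, l, hl, ?_⟩
    intro i j hζij
    by_cases hij : i = j
    · rw [hij]
    by_cases hβ : B (b i) (b i) + B (b j) (b j) ≠ 0
    · exact (hgood i j hij hζij hβ).1
    · push Not at hβ
      have h1 := pair_rel B hs h2 z f τ hsemi hcomm b horth hani ζ hζ hz l hl i j hij hζij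
        (hpairS i j) 1 t₀ (by
          intro h0
          have h3 : B (b i) (b i) * ((1 - t₀) * (1 + t₀)) = 0 := by
            linear_combination h0 - t₀ ^ 2 * hβ
          rcases mul_eq_zero.1 h3 with h4 | h4
          · exact hani i h4
          · rcases mul_eq_zero.1 h4 with h5 | h5
            · exact ht1 (sub_eq_zero.1 h5).symm
            · exact ht2 (eq_neg_of_add_eq_zero_right h5)
          )
      rw [hτid, hτid, one_mul, mul_one] at h1
      apply mul_right_cancel₀ ht0
      linear_combination h1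


omit [DecidableEq ι] in
/-- enough indices: a monochromatic triple outside `S` (two colours) -/
theorem tripleOut_of_card (ζ : ι → K) (hζ : ∀ i, ζ i = 1 ∨ ζ i = -1) (S : Finset ι)
    (h : S.card + 5 ≤ Fintype.card ι) : TripleOut ζ S := by
  classical
  have hA : 5 ≤ (Finset.univ \ S).card := by
    rw [Finset.card_sdiff_of_subset (Finset.subset_univ S), Finset.card_univ]
    omega
  have hsplit := Finset.card_filter_add_card_filter_not (s := Finset.univ \ S) (fun i => ζ i = 1)
  by_cases h1 : 2 < ((Finset.univ \ S).filter (fun i => ζ i = 1)).card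
  · obtain ⟨a, b, c, ha, hb, hc, hab, hac, hbc⟩ := Finset.two_lt_card_iff.1 h1
    rw [Finset.mem_filter, Finset.mem_sdiff] at ha hb hc
    exact ⟨a, b, c, ha.1.2, hb.1.2, hc.1.2, hab, hac, hbc, by rw [ha.2, hb.2], by rw [ha.2, hc.2]⟩
  · have h3 : 2 < ((Finset.univ \ S).filter (fun i => ¬ ζ i = 1)).card := by omega
    obtain ⟨a, b, c, ha, hb, hc, hab, hac, hbc⟩ := Finset.two_lt_card_iff.1 h3
    rw [Finset.mem_filter, Finset.mem_sdiff] at ha hb hc
    have hv : ∀ i, ¬ ζ i = 1 → ζ i = -1 := fun i hi => (hζ i).resolve_left hi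
    exact ⟨a, b, c, ha.1.2, hb.1.2, hc.1.2, hab, hac, hbc, by rw [hv a ha.2, hv b hb.2],
      by rw [hv a ha.2, hv c hc.2]⟩

omit [DecidableEq ι] in
/-- enough indices: a triple outside `S` (one colour) -/
theorem tripleOut_const (ζ : ι → K) (hζ : ∀ i j, ζ i = ζ j) (S : Finset ι)
    (h : S.card + 3 ≤ Fintype.card ι) : TripleOut ζ S := by
  classical
  have hA : 2 < (Finset.univ \ S).card := by
    rw [Finset.card_sdiff_of_subset (Finset.subset_univ S), Finset.card_univ]
    omega
  obtain ⟨a, b, c, ha, hb, hc, hab, hac, hbc⟩ := Finset.two_lt_card_iff.1 hA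
  rw [Finset.mem_sdiff] at ha hb hc
  exact ⟨a, b, c, ha.2, hb.2, hc.2, hab, hac, hbc, hζ a b, hζ a c⟩

end Cfsg.Agent.Lib.H7BalM
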