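import Cfsg.Agent.Lib.Helper7.AutPM.GrI
import Mathlib

/-!
# Involutions induced by similarities outside `inndiagGen`: the two types (helper7)

A similarity `gs` with `DhO gs` an involution and `det gs ≠ μ^n` is either a scalar multiple of an
involutory isometry of determinant `≠ 1` (type (i)), or satisfies `gs² = l` with `l = μ(gs)` a
non-square and `n` odd (type (ii)).
-/

set_option autoImplicit false
set_option linter.unusedSectionVars false
set_option linter.style.haveILetI false

namespace Cfsg.Agent.Lib.H7BalM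

open Matrix Cfsg Cfsg.Agent.Lib.H7AutPSp Cfsg.Agent.Lib.H7AutPO Cfsg.Agent.Lib.H7AutPSL
  Cfsg.Agent.Lib.Helper5.OrthAut Cfsg.Agent.H9.Orth Cfsg.Agent.Lib.Helper5.OrthSN
  Cfsg.Agent.Lib.Helper5.OrthPar Cfsg.Agent.Lib.Helper5.OrthCls Cfsg.Agent.Lib.Helper5.OrthPM
  Cfsg.Agent.Lib.H7AutPM

universe u v

variable {I : Type} [Fintype I] [DecidableEq I] {F : Type u} [Field F] [Fintype F]
  {Q : (I → F) → F} (hQ : Cfsg.Geo.IsNondegenerateQuadraticForm Q)

include hQ

/-- the two types of involutions induced by similarities outside `inndiagGen` -/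
theorem invol_data_gen [Nonempty I] (hn : 7 ≤ Fintype.card I) (h2 : (2 : F) ≠ 0)
    (n : ℕ) (hcard : Fintype.card I = 2 * n)
    (gs : ↥(Cfsg.Geo.quadSimilarityGroup (F := F) Q)) (hgg : DhO Q gs * DhO Q gs = 1)
    (hdet : ((gs : GL I F) : Matrix I I F).det ≠ (mu gs : F) ^ n) :
    (∃ (c : F) (hc0 : c ≠ 0) (s : GL I F), s ∈ Cfsg.isometryGroup F Q ∧
      (gs : GL I F) = scalarGL c hc0 * s ∧ (∀ v, act s (act s v) = v) ∧
      (s : Matrix I I F).det ≠ 1) ∨
    (∃ l : F, ¬ IsSquare l ∧ (∀ v, act (gs : GL I F) (act (gs : GL I F) v) = l • v) ∧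
      (mu gs : F) = l ∧ Odd n) := by
  obtain ⟨l, hl⟩ := scalar_of_DhO_eq_one hQ hn (gs * gs) (by rw [map_mul]; exact hgg)
  have hl' : ∀ v, act (gs : GL I F) (act (gs : GL I F) v) = l • v := by
    intro v
    rw [← act_mul]
    exact hl v
  have hμ : ∀ v, Q (act (gs : GL I F) v) = (mu gs : F) * Q v := mu_spec gs
  have hμ0 : (mu gs : F) ≠ 0 := Units.ne_zero _
  obtain ⟨x₀, hx₀⟩ := exists_nonsing hQ
  have hl2 : l ^ 2 = (mu gs : F) ^ 2 := by
    have h3 := hμ (act (gs : GL I F) x₀)
    rw [hl', hμ, Q_smul hQ] at h3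
    have h4 : (l ^ 2 - (mu gs : F) ^ 2) * Q x₀ = 0 := by linear_combination h3
    rcases mul_eq_zero.1 h4 with h5 | h5
    · exact sub_eq_zero.1 h5
    · exact absurd h5 hx₀
  have hl0 : l ≠ 0 := scalar_ne_zero_of_act _ l hl
  have hM : ((gs : GL I F) : Matrix I I F) * ((gs : GL I F) : Matrix I I F) =
      l • (1 : Matrix I I F) := by
    have h3 : (gs : GL I F) * (gs : GL I F) = scalarGL l hl0 :=
      eq_scalarGL_of_act _ l hl0 (fun v => by rw [act_mul]; exact hl' v)
    have h4 := congrArg Units.val h3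
    rw [Units.val_mul] at h4
    exact h4
  have hcases : l = (mu gs : F) ∨ l = -(mu gs : F) := by
    have : (l - (mu gs : F)) * (l + (mu gs : F)) = 0 := by linear_combination hl2
    rcases mul_eq_zero.1 this with h5 | h5
    · exact Or.inl (sub_eq_zero.1 h5)
    · exact Or.inr (eq_neg_of_add_eq_zero_left h5)
  rcases hcases with hl1 | hl1
  · by_cases hsq : IsSquare (mu gs : F)
    · left
      obtain ⟨c, hc⟩ := hsq
      obtain ⟨hc0, s, hs, e⟩ := exists_scalar_mul_iso hQ gs c hc
      have hact : ∀ v, act (gs : GL I F) v = c • act s v := by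
        intro v
        rw [e, act_mul, act_scalarGL]
      have hss : ∀ v, act s (act s v) = v := by
        intro v
        have h3 := hl' v
        rw [hact, hact, act_smul, smul_smul, hl1, hc] at h3
        have h4 : act s (act s v) = (c * c)⁻¹ • ((c * c) • act s (act s v)) := by
          rw [smul_smul, inv_mul_cancel₀ (mul_ne_zero hc0 hc0), one_smul]
        rw [h4, h3, smul_smul, inv_mul_cancel₀ (mul_ne_zero hc0 hc0), one_smul]
      refine ⟨c, hc0, s, hs, e, hss, ?_⟩
      intro h1
      apply hdet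
      rw [e, Units.val_mul, Matrix.det_mul, det_scalarGL, h1, mul_one, hcard, hc, pow_mul, pow_two]
    · right
      rw [← hl1] at hsq
      refine ⟨l, hsq, hl', hl1.symm, ?_⟩
      by_contra hodd
      have hev : Even n := Nat.not_odd_iff_even.1 hodd
      apply hdet
      rw [det_of_sq_of_not_isSquare _ l n hcard hM hsq, hev.neg_pow, hl1]
  · exfalso
    apply hdet
    have hG := gram_of_sim hQ ((gs : GL I F) : Matrix I I F) (mu gs : F) hμ
    have hGdet : (gram Q).det ≠ 0 := gram_det_ne_zero hQ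
    have h3 : ((gs : GL I F) : Matrix I I F)ᵀ * gram Q =
        gram Q * (-((gs : GL I F) : Matrix I I F)) := by
      have h4 : ((gs : GL I F) : Matrix I I F)ᵀ * gram Q * ((gs : GL I F) : Matrix I I F) *
          ((gs : GL I F) : Matrix I I F) = (mu gs : F) • gram Q * ((gs : GL I F) : Matrix I I F) := by
        rw [hG]
      rw [Matrix.mul_assoc, hM, Matrix.mul_smul, Matrix.mul_one, hl1, neg_smul,
        Matrix.smul_mul] at h4
      have h5 : (mu gs : F) • (((gs : GL I F) : Matrix I I F)ᵀ * gram Q) =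
          (mu gs : F) • (gram Q * (-((gs : GL I F) : Matrix I I F))) := by
        rw [Matrix.mul_neg, smul_neg, ← h4, neg_neg]
      have h6 := congrArg (fun M : Matrix I I F => (mu gs : F)⁻¹ • M) h5
      simp only [smul_smul, inv_mul_cancel₀ hμ0, one_smul] at h6
      exact h6
    have hunit : IsUnit (gram Q).det := isUnit_iff_ne_zero.2 hGdet
    have h7 : ((gs : GL I F) : Matrix I I F)ᵀ =
        gram Q * (-((gs : GL I F) : Matrix I I F)) * (gram Q)⁻¹ := by
      rw [← h3, Matrix.mul_nonsing_inv_cancel_right _ _ hunit]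
    have hconj : (-((gs : GL I F) : Matrix I I F)).charpoly =
        ((gs : GL I F) : Matrix I I F).charpoly := by
      have h8 := Matrix.charpoly_units_conj (Matrix.nonsingInvUnit (gram Q) hunit)
        (-((gs : GL I F) : Matrix I I F))
      have hval : (Matrix.nonsingInvUnit (gram Q) hunit).val = gram Q := rfl
      rw [hval, ← h7, Matrix.charpoly_transpose] at h8
      exact h8.symm
    rw [det_of_sq_of_conj_neg h2 _ l n hcard hM hconj, hl1, neg_neg]

end Cfsg.Agent.Lib.H7BalM
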