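import Cfsg.Agent.Lib.Helper7.BalM.InvA
import Cfsg.Agent.Lib.Helper7.BalM.AbsB
import Cfsg.Agent.Lib.Helper5.Orth.SpinorTrans

/-!
# Bridge between `GL I F` acting on `I → F` and linear automorphisms (helper7)

`glE : GL I F ≃* ((I → F) ≃ₗ[F] (I → F))`; isometries of `Q` correspond to isometries of the polar
form (odd characteristic), reflections to reflections; products of two reflections in vectors of
the same norm lie in `Ω`.
-/

set_option autoImplicit false
set_option linter.unusedSectionVars false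
set_option linter.style.haveILetI false

namespace Cfsg.Agent.Lib.H7BalM

open Matrix Cfsg Cfsg.Agent.H9.Orth Cfsg.Agent.Lib.Helper5.OrthSN Cfsg.Agent.Lib.Helper5.OrthPar

universe u

variable {I : Type} [Fintype I] [DecidableEq I] {F : Type u} [Field F]

/-- `GL I F` as linear automorphisms of `I → F` -/
noncomputable def glE : GL I F ≃* ((I → F) ≃ₗ[F] (I → F)) where
  toFun g :=
    { toFun := act g
      invFun := act g⁻¹
      map_add' := act_add g
      map_smul' := fun c x => act_smul g c x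
      left_inv := act_inv_act g
      right_inv := act_act_inv g }
  invFun e := ofLin e
  left_inv g := by
    apply gl_ext
    intro x
    rw [act_ofLin]
    rfl
  right_inv e := by
    ext x
    exact congrFun (act_ofLin e x) _
  map_mul' g h := by
    ext x
    exact congrFun (act_mul g h x) _

theorem glE_apply (g : GL I F) (x : I → F) : glE g x = act g x := rfl

theorem glE_symm_apply (e : (I → F) ≃ₗ[F] (I → F)) (x : I → F) : act (glE.symm e) x = e x :=
  act_ofLin e x

variable {Q : (I → F) → F} (hQ : Cfsg.Geo.IsNondegenerateQuadraticForm Q)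

include hQ

theorem glE_mem_isoB (g : GL I F) (hg : g ∈ Cfsg.isometryGroup F Q) : glE g ∈ isoB (BF hQ) := by
  intro u v
  rw [BF_apply, BF_apply, glE_apply, glE_apply]
  exact pol_act g hg u v

theorem mem_iso_of_glE (h2 : (2 : F) ≠ 0) (g : GL I F) (hg : glE g ∈ isoB (BF hQ)) :
    g ∈ Cfsg.isometryGroup F Q := by
  rw [mem_isometryGroup_iff]
  intro x
  have h1 := hg x x
  rw [BF_apply, BF_apply, glE_apply, pol_self hQ, pol_self hQ] at h1
  exact mul_left_cancel₀ h2 h1

theorem symm_mem_iso (h2 : (2 : F) ≠ 0) (e : (I → F) ≃ₗ[F] (I → F)) (he : e ∈ isoB (BF hQ)) :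
    glE.symm e ∈ Cfsg.isometryGroup F Q := by
  apply mem_iso_of_glE hQ h2
  rw [MulEquiv.apply_symm_apply]
  exact he

theorem BF_self (x : I → F) : BF hQ x x = 2 * Q x := by rw [BF_apply, pol_self hQ]

theorem BF_self_ne (h2 : (2 : F) ≠ 0) (x : I → F) : BF hQ x x ≠ 0 ↔ Q x ≠ 0 := by
  rw [BF_self hQ]
  constructor
  · intro h h0
    apply h
    rw [h0, mul_zero]
  · intro h
    exact mul_ne_zero h2 h

/-- reflections correspond -/
theorem glE_rf (h2 : (2 : F) ≠ 0) (x : I → F) : glE (rf hQ x) = rflB (BF hQ) x := by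
  ext y
  rw [glE_apply, rflB_apply]
  by_cases hx : Q x ≠ 0
  · rw [act_rf hQ x hx, BF_self hQ, BF_apply]
    field_simp
  · rw [rf_of_not hQ x hx, act_one, BF_self hQ]
    push Not at hx
    rw [hx, mul_zero, div_zero, zero_smul, sub_zero]

/-- products of two reflections in vectors of the same norm lie in `Ω` -/
theorem rf_mul_rf_mem_omega [Fintype F] (h : Fintype.card F ≠ 2 ∨ Fintype.card I ≠ 4)
    (u v : I → F) (hu : Q u ≠ 0) (huv : Q v = Q u) :
    (⟨rf hQ u * rf hQ v, mul_mem (rf_mem hQ u) (rf_mem hQ v)⟩ : ↥(Cfsg.isometryGroup F Q)) ∈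
      Cfsg.Omega F Q := by
  have hgen : Cfsg.isometryGroup F Q ≤ RR hQ := iso_le_RR hQ h
  have hv : Q v ≠ 0 := by rw [huv]; exact hu
  rw [mem_omega_iff_fin hQ h]
  constructor
  · show par (rf hQ u * rf hQ v)
    rw [par_mul_gen hQ hgen _ _ (rf_mem hQ u) (rf_mem hQ v)]
    have h1 := not_par_rf hQ u hu
    have h3 := not_par_rf hQ v hv
    tauto
  · show spin Q (rf hQ u * rf hQ v)
    rw [spin_mul_iff hQ hgen _ _ (rf_mem hQ u) (rf_mem hQ v), spin_rf hQ u hu, spin_rf hQ v hv,
      huv]

end Cfsg.Agent.Lib.H7BalM
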