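import Cfsg.Agent.Lib.Helper8.AutSp.BalA
import Mathlib

/-!
# Local balance: the group-theoretic reduction (helper7)

For an automorphism `x` of a centreless group `G`: let `L = innFix x` (the inner automorphisms by
fixed points of `x`).  If `O_{p'}(L) = 1` then every subgroup `W` of order prime to `p` which
centralises `x` and is normalised by `L` fixes the fixed points of `x` pointwise.
-/

set_option autoImplicit false
set_option linter.unusedSectionVars false

namespace Cfsg.Agent.Lib.H7BalM

open Cfsg.Agent.Lib.Helper8.AutSp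

section cores

variable {X : Type*} [Group X]

/-- a subgroup of `L` normalised by `L` of order prime to `p` lies in the image of `O_{p'}(L)` -/
theorem le_coreIm {p : ℕ} (L M : Subgroup X) (hML : M ≤ L)
    (hnorm : ∀ l ∈ L, ∀ n ∈ M, l * n * l⁻¹ ∈ M) (hcop : (Nat.card ↥M).Coprime p) :
    M ≤ coreIm p L := by
  have hnormal : (M.subgroupOf L).Normal := by
    constructor
    intro n hn c
    rw [Subgroup.mem_subgroupOf] at hn ⊢
    exact hnorm c.1 c.2 n.1 hn
  have hcard : Nat.card ↥(M.subgroupOf L) = Nat.card ↥M :=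
    Nat.card_congr (Subgroup.subgroupOfEquivOfLe hML).toEquiv
  have hle : M.subgroupOf L ≤ Cfsg.pPrimeCore p ↥L :=
    Cfsg.Agent.H1.le_pPrimeCore hnormal (by rw [hcard]; exact hcop)
  intro n hn
  exact ⟨⟨n, hML hn⟩, hle (Subgroup.mem_subgroupOf.2 hn), rfl⟩

/-- the image of `O_{p'}(L)` is invariant under every element normalising `L` -/
theorem coreIm_conj_of_normalizes [Finite X] (p : ℕ) (L : Subgroup X) (c : X)
    (hc : ∀ l ∈ L, c * l * c⁻¹ ∈ L) (n : X) (hn : n ∈ coreIm p L) :
    c * n * c⁻¹ ∈ coreIm p L := by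
  -- the conjugate subgroup
  set M : Subgroup X := (coreIm p L).map (MulAut.conj c).toMonoidHom with hM
  have hMmem : ∀ y, y ∈ M ↔ ∃ n ∈ coreIm p L, c * n * c⁻¹ = y := by
    intro y
    rw [hM, Subgroup.mem_map]
    rfl
  have hcinv : ∀ l ∈ L, c⁻¹ * l * c ∈ L := by
    intro l hl
    -- conjugation by `c` is an injective self-map of the finite set `L`
    have hinj : Function.Injective (fun l : ↥L => (⟨c * l.1 * c⁻¹, hc l.1 l.2⟩ : ↥L)) := by
      intro a b hab
      have := congrArg Subtype.val hab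
      simp only at this
      apply Subtype.ext
      have h3 : c⁻¹ * (c * a.1 * c⁻¹) * c = c⁻¹ * (c * b.1 * c⁻¹) * c := by rw [this]
      have e1 : c⁻¹ * (c * a.1 * c⁻¹) * c = a.1 := by group
      have e2 : c⁻¹ * (c * b.1 * c⁻¹) * c = b.1 := by group
      rw [e1, e2] at h3
      exact h3
    have hsurj := Finite.surjective_of_injective hinj
    obtain ⟨l', hl'⟩ := hsurj ⟨l, hl⟩
    have := congrArg Subtype.val hl'
    simp only at this
    have e : c⁻¹ * l * c = l'.1 := by
      rw [← this]
      group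
    rw [e]
    exact l'.2
  have hML : M ≤ L := by
    intro y hy
    obtain ⟨n, hn, rfl⟩ := (hMmem y).1 hy
    exact hc n (coreIm_le p L hn)
  have hnorm : ∀ l ∈ L, ∀ y ∈ M, l * y * l⁻¹ ∈ M := by
    intro l hl y hy
    obtain ⟨n, hn, rfl⟩ := (hMmem y).1 hy
    rw [hMmem]
    refine ⟨(c⁻¹ * l * c) * n * (c⁻¹ * l * c)⁻¹,
      coreIm_conj_mem p L _ (hcinv l hl) n hn, by group⟩
  have hcard : Nat.card ↥M = Nat.card ↥(coreIm p L) := by
    rw [hM]
    exact Subgroup.card_map_of_injective (MulAut.conj c).injective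
  have hle := le_coreIm (p := p) L M hML hnorm (by rw [hcard]; exact coreIm_coprime p L)
  exact hle ((hMmem _).2 ⟨n, hn, rfl⟩)

end cores

section main

variable {G : Type*} [Group G] [Finite G]

/-- **the reduction**: if `O_{p'}` of the inner automorphisms by fixed points of `x` is trivial,
then a `p'`-subgroup `W` centralising `x` and normalised by those inner automorphisms fixes the
fixed points of `x` pointwise -/
theorem fix_of_core_trivial (hZ : Subgroup.center G = ⊥) {p : ℕ} (x : MulAut G)
    (hcore : coreIm p (innFix x) = ⊥)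
    (W : Subgroup (MulAut G)) (hWcop : (Nat.card ↥W).Coprime p)
    (hWcent : ∀ w ∈ W, w * x = x * w)
    (hWnorm : ∀ k : G, x k = k → ∀ w ∈ W, MulAut.conj k * w * (MulAut.conj k)⁻¹ ∈ W)
    (w : MulAut G) (hw : w ∈ W) (k : G) (hk : x k = k) : w k = k := by
  haveI : Finite (MulAut G) :=
    Finite.of_injective (fun f : MulAut G => (f : G → G)) DFunLike.coe_injective
  -- `W ⊓ L ≤ O_{p'}(L) = 1`
  have hWL : W ⊓ innFix x ≤ coreIm p (innFix x) := by
    apply le_coreIm (innFix x) (W ⊓ innFix x) inf_le_right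
    · intro l hl n hn
      obtain ⟨k', hk', rfl⟩ := (mem_innFix x l).1 hl
      exact ⟨hWnorm k' hk' n hn.1, (innFix x).mul_mem ((innFix x).mul_mem hl hn.2)
        ((innFix x).inv_mem hl)⟩
    · exact Nat.Coprime.coprime_dvd_left (Subgroup.card_dvd_of_le inf_le_left) hWcop
  rw [hcore] at hWL
  -- the commutator
  have hwk : x (w k) = w k := by
    have h1 := congrArg (fun f : MulAut G => f k) (hWcent w hw)
    simp only [MulAut.mul_apply] at h1
    rw [← h1, hk]
  have hconj : w * MulAut.conj k * w⁻¹ = MulAut.conj (w k) := by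
    ext g
    simp only [MulAut.mul_apply, MulAut.conj_apply, map_mul, map_inv, MulAut.apply_inv_self]
  have hc : w * MulAut.conj k * w⁻¹ * (MulAut.conj k)⁻¹ ∈ W ⊓ innFix x := by
    refine ⟨?_, ?_⟩
    · have h1 := hWnorm k hk w⁻¹ (W.inv_mem hw)
      have h3 := W.mul_mem hw h1
      have e : w * (MulAut.conj k * w⁻¹ * (MulAut.conj k)⁻¹) =
          w * MulAut.conj k * w⁻¹ * (MulAut.conj k)⁻¹ := by group
      rwa [e] at h3
    · rw [hconj]
      exact (innFix x).mul_mem ((mem_innFix x _).2 ⟨w k, hwk, rfl⟩)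
        ((innFix x).inv_mem ((mem_innFix x _).2 ⟨k, hk, rfl⟩))
  have h1 := hWL hc
  rw [Subgroup.mem_bot, hconj, mul_inv_eq_one] at h1
  exact conj_injective_of_center hZ h1

end main

end Cfsg.Agent.Lib.H7BalM
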