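import Cfsg.Agent.Lib.Helper7.BalM.InvB
import Cfsg.Agent.Lib.Helper7.BalM.InvC

/-!
# Local balance for involutions induced by similarities: common facts (helper7)

`psiIso`: isometries acting on `PΩ`; the elements of `innFix x` come from `Ω`; commutation up to
a sign becomes exact for elements of odd order modulo scalars.
-/

set_option autoImplicit false
set_option linter.unusedSectionVars false
set_option linter.style.haveILetI false

namespace Cfsg.Agent.Lib.H7BalM

open Matrix Cfsg Cfsg.Agent.Lib.H7AutPSp Cfsg.Agent.Lib.H7AutPO Cfsg.Agent.Lib.H7AutPSL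
  Cfsg.Agent.Lib.Helper5.OrthAut Cfsg.Agent.H9.Orth Cfsg.Agent.Lib.Helper5.OrthSN
  Cfsg.Agent.Lib.Helper5.OrthPar Cfsg.Agent.Lib.Helper5.OrthCls Cfsg.Agent.Lib.Helper5.OrthPM
  Cfsg.Agent.Lib.H7AutPM Cfsg.Agent.Lib.Helper8.AutSp

universe u v

/-- the sign trick for iterates: if `f T = ε T f` with `ε = ± 1`, an odd iterate of `f` is a scalar
commuting with `T`, then `ε = 1` -/
theorem sign_of_iterate {F : Type*} [Field F] {V : Type*} [AddCommGroup V] [Module F V]
    (f T : V → V) (ε : F) (hε : ε = 1 ∨ ε = -1)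
    (hfε : ∀ u, f (ε • u) = ε • f u)
    (hfT : ∀ v, f (T v) = ε • T (f v)) (k : ℕ) (hk : Odd k) (l : F)
    (hfk : ∀ v, f^[k] v = l • v) (hTl : ∀ v, T (l • v) = l • T v)
    (v₀ : V) (hv₀ : l • T v₀ ≠ 0) : ε = 1 := by
  have hiter : ∀ j : ℕ, ∀ v, f^[j] (T v) = ε ^ j • T (f^[j] v) := by
    intro j
    induction j with
    | zero => intro v; simp
    | succ j ih =>
      intro v
      rw [Function.iterate_succ_apply', Function.iterate_succ_apply', ih, pow_succ]
      have hpow : ∀ (i : ℕ) (u : V), f (ε ^ i • u) = ε ^ i • f u := by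
        intro i
        induction i with
        | zero => intro u; simp
        | succ i ih' =>
          intro u
          rw [pow_succ, mul_smul, ih', hfε, ← mul_smul]
      rw [hpow, hfT, smul_smul]
  have h1 := hiter k v₀
  rw [hfk, hfk, hTl] at h1
  rcases hε with h | h
  · exact h
  · rw [h, hk.neg_one_pow, neg_smul, one_smul] at h1
    have h3 : (2 : F) • (l • T v₀) = 0 := by
      rw [two_smul]
      nth_rewrite 1 [h1]
      rw [neg_add_cancel]
    rcases smul_eq_zero.1 h3 with h4 | h4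
    · rw [h]
      linear_combination (-1 : F) * h4
    · exact absurd h4 hv₀

variable {I : Type} [Fintype I] [DecidableEq I] {F : Type u} [Field F] [Fintype F]
  {Q : (I → F) → F}

/-- isometries acting on `PΩ` -/
noncomputable def psiIso (Q : (I → F) → F) : ↥(Cfsg.isometryGroup F Q) →* MulAut (Cfsg.POmega F Q) :=
  (DhO Q).comp (Subgroup.inclusion (iso_le_sim Q))

theorem psiIso_apply (t : ↥(Cfsg.isometryGroup F Q)) :
    psiIso Q t = DhO Q ⟨t.1, iso_le_sim Q t.2⟩ := rfl

/-- the elements of `innFix x` come from `Ω` -/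
theorem mem_innFix_imp (x n : MulAut (Cfsg.POmega F Q)) (hn : n ∈ innFix x) :
    ∃ ω : ↥(Cfsg.Omega F Q), x (prC ω) = prC ω ∧ n = psiIso Q ω.1 := by
  obtain ⟨k, hk, rfl⟩ := (mem_innFix x n).1 hn
  obtain ⟨ω, rfl⟩ := prC_surjective k
  exact ⟨ω, hk, (DhO_omega ω).symm⟩

/-- commuting similarities induce commuting automorphisms -/
theorem DhO_comm_of_comm (g h : ↥(Cfsg.Geo.quadSimilarityGroup (F := F) Q))
    (hc : h.1 * g.1 = g.1 * h.1) : DhO Q h * DhO Q g = DhO Q g * DhO Q h := by
  rw [← map_mul, ← map_mul]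
  congr 1
  exact Subtype.ext hc

/-- elements of `Ω` commuting with `g` give fixed points of `DhO g` -/
theorem fix_of_comm (g : ↥(Cfsg.Geo.quadSimilarityGroup (F := F) Q)) (ω : ↥(Cfsg.Omega F Q))
    (hc : g.1 * ω.1.1 = ω.1.1 * g.1) : DhO Q g (prC ω) = prC ω := by
  rw [DhO_pr]
  congr 1
  apply om_ext
  rw [DhO_val, ← Units.val_mul, ← Units.val_mul, hc, mul_inv_cancel_right]

theorem act_pow (t : GL I F) (k : ℕ) (v : I → F) : act (t ^ k) v = (act t)^[k] v := by
  induction k generalizing v with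
  | zero => simp [act_one]
  | succ k ih => rw [pow_succ, act_mul, ih, Function.iterate_succ_apply]

theorem sact_pow (y : GamL I F) (k : ℕ) (v : I → F) : sact (y ^ k) v = (sact y)^[k] v := by
  induction k generalizing v with
  | zero => simp [sact_one]
  | succ k ih => rw [pow_succ, sact_mul, ih, Function.iterate_succ_apply]

variable (hQ : Cfsg.Geo.IsNondegenerateQuadraticForm Q)

include hQ

/-- commutation up to a sign is exact when an odd power of `t` is scalar -/
theorem comm_of_sign_odd [Nonempty I] (t g : GL I F) (ε : F) (hε : ε = 1 ∨ ε = -1)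
    (hs : ∀ v, act t (act g v) = ε • act g (act t v)) (k : ℕ) (hk : Odd k) (l : F)
    (hl : ∀ v, act (t ^ k) v = l • v) : t * g = g * t := by
  have hl0 : l ≠ 0 := scalar_ne_zero_of_act _ l hl
  obtain ⟨x₀, hx₀⟩ := exists_nonsing hQ
  have hx0 : x₀ ≠ 0 := ne_zero_of_Q_ne hQ x₀ hx₀
  have h1 : ε = 1 := by
    apply sign_of_iterate (act t) (act g) ε hε (fun u => act_smul t ε u) hs k hk l
      (fun v => by rw [← act_pow]; exact hl v) (fun v => act_smul g l v) x₀
    intro h0
    rcases smul_eq_zero.1 h0 with h | h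
    · exact hl0 h
    · exact hx0 ((act_eq_zero_iff g x₀).1 h)
  apply gl_ext
  intro v
  rw [act_mul, act_mul, hs, h1, one_smul]


/-- **exact commutation**: a semisimilarity inducing an automorphism of odd order which fixes the
image of `ω ∈ Ω` commutes with `ω` on vectors -/
theorem sact_comm_of_fix [Nonempty I] (hn : 7 ≤ Fintype.card I) (y : ↥(GammaO Q)) (k : ℕ)
    (hk : Odd k) (hyk : (PsO Q y) ^ k = 1) (ω : ↥(Cfsg.Omega F Q))
    (hfix : PsO Q y (prC ω) = prC ω) (v : I → F) :
    sact y.1 (act ω.1.1 v) = act ω.1.1 (sact y.1 v) := by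
  rw [PsO_pr, prC_eq_iff] at hfix
  have hval := center_omega_val hQ hn _ hfix
  have hω' : ((commAut (semiIso Q y) ω : ↥(Cfsg.Omega F Q)) : ↥(Cfsg.isometryGroup F Q)).1 =
      conjG y.1 ω.1.1 := by
    rw [commAut_val, semiIso_val]
  have hcoe : (((commAut (semiIso Q y) ω)⁻¹ * ω : ↥(Cfsg.Omega F Q)) :
      ↥(Cfsg.isometryGroup F Q)).1 = (conjG y.1 ω.1.1)⁻¹ * ω.1.1 := by
    rw [← hω']
    rfl
  rw [hcoe] at hval
  -- the sign
  obtain ⟨ε, hε, hsign⟩ : ∃ ε : F, (ε = 1 ∨ ε = -1) ∧
      ∀ u, act (conjG y.1 ω.1.1) u = ε • act ω.1.1 u := by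
    rcases hval with h | h
    · refine ⟨1, Or.inl rfl, fun u => ?_⟩
      have : conjG y.1 ω.1.1 = ω.1.1 := by
        have h1 := congrArg (fun t => conjG y.1 ω.1.1 * t) h
        simp only [mul_inv_cancel_left, mul_one] at h1
        exact h1.symm
      rw [this, one_smul]
    · refine ⟨-1, Or.inr rfl, fun u => ?_⟩
      have h1 : ω.1.1 = conjG y.1 ω.1.1 * (-1) := by
        have h1 := congrArg (fun t => conjG y.1 ω.1.1 * t) h
        simp only [mul_inv_cancel_left] at h1
        exact h1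
      have h3 : act ω.1.1 u = -act (conjG y.1 ω.1.1) u := by
        have h4 : act ω.1.1 u = act (conjG y.1 ω.1.1 * (-1)) u := by rw [← h1]
        have : act (-1 : GL I F) u = -u := by
          show ((-1 : GL I F) : Matrix I I F) *ᵥ u = -u
          rw [Units.val_neg, Units.val_one, Matrix.neg_mulVec, Matrix.one_mulVec]
        rw [act_mul, this, act_neg] at h4
        exact h4
      rw [h3, neg_smul, one_smul, neg_neg]
  have hcomm : ∀ u, sact y.1 (act ω.1.1 u) = ε • act ω.1.1 (sact y.1 u) := by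
    intro u
    rw [sact_act, hsign]
  -- the odd power is scalar
  have hker : PsO Q (y ^ k) = 1 := by rw [map_pow, hyk]
  obtain ⟨hright, l, hl⟩ := ker_PsO hQ hn (y ^ k) hker
  have hl0 : l ≠ 0 := scalar_ne_zero_of_act _ l hl
  obtain ⟨x₀, hx₀⟩ := exists_nonsing hQ
  have hx0 : x₀ ≠ 0 := ne_zero_of_Q_ne hQ x₀ hx₀
  have hε1 : ε = 1 := by
    apply sign_of_iterate (sact y.1) (act ω.1.1) ε hε ?_ hcomm k hk l ?_
      (fun v => act_smul ω.1.1 l v) x₀ ?_
    · intro u
      rw [sact_smul]
      congr 1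
      rcases hε with h | h
      · rw [h, map_one]
      · rw [h, map_neg, map_one]
    · intro u
      rw [← sact_pow]
      have : (y.1 ^ k) = (y ^ k).1 := rfl
      rw [this, sact_eq_act _ hright]
      exact hl u
    · intro h0
      rcases smul_eq_zero.1 h0 with h | h
      · exact hl0 h
      · exact hx0 ((act_eq_zero_iff ω.1.1 x₀).1 h)
  rw [hcomm, hε1, one_smul]

end Cfsg.Agent.Lib.H7BalM
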