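import Cfsg.Agent.Lib.Helper7.BalM.InvD

/-!
# Orthogonal eigenbases of involutory isometries (helper7)
-/

set_option autoImplicit false
set_option linter.unusedSectionVars false
set_option linter.style.haveILetI false

namespace Cfsg.Agent.Lib.H7BalM

open Matrix Cfsg Cfsg.Agent.H9.Orth Cfsg.Agent.Lib.H7AutPM Module

universe u v

variable {I : Type} [Fintype I] [DecidableEq I] {F : Type u} [Field F]
  {Q : (I → F) → F} (hQ : Cfsg.Geo.IsNondegenerateQuadraticForm Q)

include hQ

/-- a subspace with an orthogonal complement is nondegenerate -/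
theorem disjoint_orthogonal_of_compl (U U' : Submodule F (I → F)) (hsup : U ⊔ U' = ⊤)
    (horth : ∀ x ∈ U, ∀ y ∈ U', pol Q x y = 0) : Disjoint U ((BF hQ).orthogonal U) := by
  rw [Submodule.disjoint_def]
  intro x hx hx'
  apply (BF_nondegenerate hQ).1 x
  intro w
  have hw : w ∈ U ⊔ U' := by rw [hsup]; exact Submodule.mem_top
  obtain ⟨w₁, hw₁, w₂, hw₂, rfl⟩ := Submodule.mem_sup.1 hw
  rw [LinearMap.BilinForm.mem_orthogonal_iff] at hx'
  rw [map_add, BF_apply, BF_apply, horth x hx w₂ hw₂, add_zero, pol_comm]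
  exact hx' w₁ hw₁

/-- an orthogonal anisotropic basis adapted to an orthogonal decomposition -/
theorem exists_orth_basis_of_compl (h2 : (2 : F) ≠ 0) (U U' : Submodule F (I → F))
    (hc : IsCompl U U') (horth : ∀ x ∈ U, ∀ y ∈ U', pol Q x y = 0) :
    ∃ (n₁ n₂ : ℕ) (b : Basis (Fin n₁ ⊕ Fin n₂) F (I → F)),
      (∀ i j, i ≠ j → BF hQ (b i) (b j) = 0) ∧ (∀ i, BF hQ (b i) (b i) ≠ 0) ∧
      (∀ i, b (Sum.inl i) ∈ U) ∧ (∀ j, b (Sum.inr j) ∈ U') := by
  haveI : Invertible (2 : F) := invertibleOfNonzero h2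
  have horth' : ∀ x ∈ U', ∀ y ∈ U, pol Q x y = 0 := by
    intro x hx y hy
    rw [pol_comm]
    exact horth y hy x hx
  have hd₁ := disjoint_orthogonal_of_compl hQ U U' hc.sup_eq_top horth
  have hd₂ := disjoint_orthogonal_of_compl hQ U' U (by rw [sup_comm]; exact hc.sup_eq_top) horth'
  have hn₁ := LinearMap.BilinForm.nondegenerate_restrict_of_disjoint_orthogonal (BF hQ)
    (BF_isRefl hQ) hd₁
  have hn₂ := LinearMap.BilinForm.nondegenerate_restrict_of_disjoint_orthogonal (BF hQ)
    (BF_isRefl hQ) hd₂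
  have hs₁ : LinearMap.IsSymm ((BF hQ).restrict U) := ⟨fun x y => (BF_isSymm hQ).eq x.1 y.1⟩
  have hs₂ : LinearMap.IsSymm ((BF hQ).restrict U') := ⟨fun x y => (BF_isSymm hQ).eq x.1 y.1⟩
  obtain ⟨v₁, hv₁⟩ := LinearMap.BilinForm.exists_orthogonal_basis hs₁
  obtain ⟨v₂, hv₂⟩ := LinearMap.BilinForm.exists_orthogonal_basis hs₂
  have ha₁ := LinearMap.BilinForm.iIsOrtho.not_isOrtho_basis_self_of_nondegenerate hv₁ hn₁
  have ha₂ := LinearMap.BilinForm.iIsOrtho.not_isOrtho_basis_self_of_nondegenerate hv₂ hn₂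
  refine ⟨_, _, (v₁.prod v₂).map (Submodule.prodEquivOfIsCompl U U' hc), ?_, ?_, ?_, ?_⟩
  · intro i j hij
    rw [Basis.map_apply, Basis.map_apply, Submodule.coe_prodEquivOfIsCompl',
      Submodule.coe_prodEquivOfIsCompl']
    rcases i with i | i <;> rcases j with j | j
    · have hij' : i ≠ j := fun h => hij (by rw [h])
      have := hv₁ hij'
      simpa [LinearMap.BilinForm.restrict, LinearMap.domRestrict₁₂_apply, Function.onFun] using this
    · simp only [Basis.prod_apply, Sum.elim_inl, Sum.elim_inr, Function.comp_apply,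
        LinearMap.inl_apply, LinearMap.inr_apply, ZeroMemClass.coe_zero, add_zero, zero_add]
      rw [BF_apply]
      exact horth _ (v₁ i).2 _ (v₂ j).2
    · simp only [Basis.prod_apply, Sum.elim_inl, Sum.elim_inr, Function.comp_apply,
        LinearMap.inl_apply, LinearMap.inr_apply, ZeroMemClass.coe_zero, add_zero, zero_add]
      rw [BF_apply]
      exact horth' _ (v₂ i).2 _ (v₁ j).2
    · have hij' : i ≠ j := fun h => hij (by rw [h])
      have := hv₂ hij'
      simpa [LinearMap.BilinForm.restrict, LinearMap.domRestrict₁₂_apply, Function.onFun] using this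
  · intro i
    rw [Basis.map_apply, Submodule.coe_prodEquivOfIsCompl']
    rcases i with i | i
    · have := ha₁ i
      simpa [LinearMap.BilinForm.restrict, LinearMap.domRestrict₁₂_apply, Function.onFun] using this
    · have := ha₂ i
      simpa [LinearMap.BilinForm.restrict, LinearMap.domRestrict₁₂_apply, Function.onFun] using this
  · intro i
    rw [Basis.map_apply, Submodule.coe_prodEquivOfIsCompl']
    simp only [Basis.prod_apply, Sum.elim_inl, Function.comp_apply, LinearMap.inl_apply,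
      ZeroMemClass.coe_zero, add_zero]
    exact (v₁ i).2
  · intro j
    rw [Basis.map_apply, Submodule.coe_prodEquivOfIsCompl']
    simp only [Basis.prod_apply, Sum.elim_inr, Function.comp_apply, LinearMap.inr_apply,
      ZeroMemClass.coe_zero, zero_add]
    exact (v₂ j).2


/-- an orthogonal anisotropic eigenbasis of an involutory isometry -/
theorem exists_eigenbasis [Fintype F] (h2 : (2 : F) ≠ 0) (s : GL I F)
    (hs : s ∈ Cfsg.isometryGroup F Q) (hss : ∀ v, act s (act s v) = v) :
    ∃ (n₁ n₂ : ℕ) (b : Basis (Fin n₁ ⊕ Fin n₂) F (I → F)),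
      (∀ i j, i ≠ j → BF hQ (b i) (b j) = 0) ∧ (∀ i, BF hQ (b i) (b i) ≠ 0) ∧
      (∀ i, act s (b (Sum.inl i)) = b (Sum.inl i)) ∧
      (∀ j, act s (b (Sum.inr j)) = -(b (Sum.inr j))) := by
  have hdecomp : ∀ x : I → F, x = (2 : F)⁻¹ • (x + act s x) + (2 : F)⁻¹ • (x - act s x) := by
    intro x
    rw [← smul_add]
    have : x + act s x + (x - act s x) = (2 : F) • x := by
      rw [two_smul]
      abel
    rw [this, smul_smul, inv_mul_cancel₀ h2, one_smul]
  have hplus : ∀ x : I → F, x + act s x ∈ eigS s 1 := by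
    intro x
    rw [mem_eigS, act_add, hss, one_smul, add_comm]
  have hminus : ∀ x : I → F, x - act s x ∈ eigS s (-1) := by
    intro x
    rw [mem_eigS, act_sub, hss, neg_one_smul, neg_sub]
  have hsup : eigS s 1 ⊔ eigS s (-1) = ⊤ := by
    rw [eq_top_iff]
    intro x _
    rw [hdecomp x]
    exact Submodule.add_mem _
      (Submodule.mem_sup_left (Submodule.smul_mem _ _ (hplus x)))
      (Submodule.mem_sup_right (Submodule.smul_mem _ _ (hminus x)))
  have hinf : eigS s 1 ⊓ eigS s (-1) = ⊥ := by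
    rw [eq_bot_iff]
    intro x hx
    obtain ⟨hx1, hx2⟩ := Submodule.mem_inf.1 hx
    rw [mem_eigS] at hx1 hx2
    rw [Submodule.mem_bot]
    rw [hx1, one_smul, neg_one_smul] at hx2
    have h3 : (2 : F) • x = 0 := by
      rw [two_smul]
      nth_rewrite 1 [hx2]
      exact neg_add_cancel x
    rcases smul_eq_zero.1 h3 with h | h
    · exact absurd h h2
    · exact h
  have hc : IsCompl (eigS s 1) (eigS s (-1)) :=
    ⟨disjoint_iff.2 hinf, codisjoint_iff.2 hsup⟩
  have horth : ∀ x ∈ eigS s 1, ∀ y ∈ eigS s (-1), pol Q x y = 0 := by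
    intro x hx y hy
    rw [mem_eigS] at hx hy
    have h1 := pol_act s hs x y
    rw [hx, hy, one_smul, neg_one_smul, pol_neg_right hQ] at h1
    have h3 : (2 : F) * pol Q x y = 0 := by linear_combination -h1
    rcases mul_eq_zero.1 h3 with h | h
    · exact absurd h h2
    · exact h
  obtain ⟨n₁, n₂, b, hb1, hb2, hb3, hb4⟩ :=
    exists_orth_basis_of_compl hQ h2 (eigS s 1) (eigS s (-1)) hc horth
  refine ⟨n₁, n₂, b, hb1, hb2, ?_, ?_⟩
  · intro i
    have := hb3 i
    rw [mem_eigS, one_smul] at this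
    exact this
  · intro j
    have := hb4 j
    rw [mem_eigS, neg_one_smul] at this
    exact this

omit hQ in
/-- the determinant in an eigenbasis -/
theorem det_eq_prod_of_eigenbasis {ι' : Type*} [Fintype ι'] [DecidableEq ι']
    (b : Basis ι' F (I → F)) (s : GL I F) (ζ : ι' → F) (hζ : ∀ i, act s (b i) = ζ i • b i) :
    (s : Matrix I I F).det = ∏ i, ζ i := by
  rw [← LinearMap.det_toLin', ← LinearMap.det_toMatrix b]
  have : LinearMap.toMatrix b b (Matrix.toLin' (s : Matrix I I F)) = Matrix.diagonal ζ := by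
    ext i j
    rw [LinearMap.toMatrix_apply, Matrix.toLin'_apply]
    have h1 : (s : Matrix I I F) *ᵥ b j = ζ j • b j := hζ j
    rw [h1, map_smul, Basis.repr_self, Finsupp.smul_apply, smul_eq_mul, Matrix.diagonal_apply]
    by_cases hij : i = j
    · subst hij
      rw [Finsupp.single_eq_same, mul_one, if_pos rfl]
    · rw [Finsupp.single_eq_of_ne hij, mul_zero, if_neg hij]
  rw [this, Matrix.det_diagonal]

end Cfsg.Agent.Lib.H7BalM
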