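import Cfsg.Agent.Lib.Helper7.BalM.InvE
import Cfsg.Agent.Lib.Helper7.BalM.AbsD

/-!
# `O_{2'}` of the centraliser of an involutory isometry in `PΩ` is trivial (helper7)
-/

set_option autoImplicit false
set_option linter.unusedSectionVars false
set_option linter.style.haveILetI false

namespace Cfsg.Agent.Lib.H7BalM

open Matrix Cfsg Cfsg.Agent.Lib.H7AutPSp Cfsg.Agent.Lib.H7AutPO Cfsg.Agent.Lib.H7AutPSL
  Cfsg.Agent.Lib.Helper5.OrthAut Cfsg.Agent.H9.Orth Cfsg.Agent.Lib.Helper5.OrthSN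
  Cfsg.Agent.Lib.Helper5.OrthPar Cfsg.Agent.Lib.Helper5.OrthCls Cfsg.Agent.Lib.Helper5.OrthPM
  Cfsg.Agent.Lib.H7AutPM Cfsg.Agent.Lib.Helper8.AutSp Module

universe u v

variable {I : Type} [Fintype I] [DecidableEq I] {F : Type u} [Field F] [Fintype F]
  {Q : (I → F) → F}

/-- the linear automorphisms (isometries) whose induced automorphism lies in `M` -/
noncomputable def liftN (M : Subgroup (MulAut (Cfsg.POmega F Q))) :
    Subgroup ((I → F) ≃ₗ[F] (I → F)) :=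
  ((M.comap (psiIso Q)).map (Cfsg.isometryGroup F Q).subtype).map
    (glE (I := I) (F := F)).toMonoidHom

theorem mem_liftN (M : Subgroup (MulAut (Cfsg.POmega F Q))) (e : (I → F) ≃ₗ[F] (I → F)) :
    e ∈ liftN M ↔ ∃ t : ↥(Cfsg.isometryGroup F Q), psiIso Q t ∈ M ∧ glE t.1 = e := by
  unfold liftN
  constructor
  · rintro ⟨g, ⟨t, ht, rfl⟩, rfl⟩
    exact ⟨t, ht, rfl⟩
  · rintro ⟨t, ht, rfl⟩
    exact ⟨t.1, ⟨t, ht, rfl⟩, rfl⟩

theorem fin_third (n : ℕ) (hn : 3 ≤ n) (i j : Fin n) : ∃ k : Fin n, k ≠ i ∧ k ≠ j := by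
  by_contra hcon
  push Not at hcon
  have h1 : (Finset.univ : Finset (Fin n)) ⊆ {i, j} := by
    intro l _
    simp only [Finset.mem_insert, Finset.mem_singleton]
    by_cases h : l = i
    · exact Or.inl h
    · exact Or.inr (hcon l h)
  have h3 := Finset.card_le_card h1
  have h5 : ({i, j} : Finset (Fin n)).card ≤ 2 := Finset.card_le_two
  rw [Finset.card_univ, Fintype.card_fin] at h3
  omega


variable (hQ : Cfsg.Geo.IsNondegenerateQuadraticForm Q)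

include hQ

section generic

variable [Nonempty I] (hn : 7 ≤ Fintype.card I) (h2 : (2 : F) ≠ 0)
  (hZ : Subgroup.center (Cfsg.POmega F Q) = ⊥)
  (g : ↥(Cfsg.Geo.quadSimilarityGroup (F := F) Q))

/-- (G4) -/
theorem liftN_le_isoB (M : Subgroup (MulAut (Cfsg.POmega F Q))) : liftN M ≤ isoB (BF hQ) := by
  intro e he
  obtain ⟨t, -, rfl⟩ := (mem_liftN M e).1 he
  exact glE_mem_isoB hQ t.1 t.2

include hn in
/-- (G3) -/
theorem liftN_odd (e : (I → F) ≃ₗ[F] (I → F))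
    (he : e ∈ liftN (coreIm 2 (innFix (DhO Q g)))) :
    ∃ k, Odd k ∧ ∃ c : F, ∀ v, (e ^ k) v = c • v := by
  obtain ⟨t, ht, rfl⟩ := (mem_liftN _ e).1 he
  have hcop := coreIm_coprime 2 (innFix (DhO Q g))
  refine ⟨Nat.card ↥(coreIm 2 (innFix (DhO Q g))), ?_, ?_⟩
  · exact Nat.Coprime.odd_of_right hcop
  · have h1 : (psiIso Q t) ^ Nat.card ↥(coreIm 2 (innFix (DhO Q g))) = 1 := by
      have h3 : (⟨psiIso Q t, ht⟩ : ↥(coreIm 2 (innFix (DhO Q g)))) ^
          Nat.card ↥(coreIm 2 (innFix (DhO Q g))) = 1 := pow_card_eq_one'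
      exact congrArg Subtype.val h3
    rw [← map_pow] at h1
    obtain ⟨c, hc⟩ := scalar_of_DhO_eq_one hQ hn _ h1
    refine ⟨c, fun v => ?_⟩
    rw [← map_pow, glE_apply]
    exact hc v

include hn hZ in
/-- (G1) -/
theorem liftN_comm (e : (I → F) ≃ₗ[F] (I → F))
    (he : e ∈ liftN (coreIm 2 (innFix (DhO Q g)))) : e * glE g.1 = glE g.1 * e := by
  obtain ⟨k, hk, c, hc⟩ := liftN_odd hQ hn g e he
  obtain ⟨t, ht, rfl⟩ := (mem_liftN _ e).1 he
  have hcent : psiIso Q t ∈ Subgroup.centralizer {DhO Q g} :=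
    innFix_le_centralizer hZ _ (coreIm_le 2 _ ht)
  have hcomm := comm_of_mem_centralizer hcent
  obtain ⟨ε, hε, hsign⟩ := commute_up_to_sign hQ hn g ⟨t.1, iso_le_sim Q t.2⟩ hcomm.symm
  have h1 : t.1 * g.1 = g.1 * t.1 := by
    apply comm_of_sign_odd hQ t.1 g.1 ε hε hsign k hk c
    intro v
    have := hc v
    rw [← map_pow, glE_apply] at this
    exact this
  rw [← map_mul, ← map_mul, h1]

include hn h2 in
/-- (G2) -/
theorem liftN_norm (h : (I → F) ≃ₗ[F] (I → F)) (hh : h ∈ isoB (BF hQ))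
    (hc : h * glE g.1 = glE g.1 * h) (e : (I → F) ≃ₗ[F] (I → F))
    (he : e ∈ liftN (coreIm 2 (innFix (DhO Q g)))) :
    h * e * h⁻¹ ∈ liftN (coreIm 2 (innFix (DhO Q g))) := by
  obtain ⟨t, ht, rfl⟩ := (mem_liftN _ e).1 he
  have hth : glE.symm h ∈ Cfsg.isometryGroup F Q := symm_mem_iso hQ h2 h hh
  have hcomm : glE.symm h * g.1 = g.1 * glE.symm h := by
    apply (glE (I := I) (F := F)).injective
    rw [map_mul, map_mul, MulEquiv.apply_symm_apply]
    exact hc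
  set th : ↥(Cfsg.isometryGroup F Q) := ⟨glE.symm h, hth⟩ with hthdef
  have hcent : psiIso Q th ∈ Subgroup.centralizer {DhO Q g} := by
    rw [Subgroup.mem_centralizer_iff]
    intro y hy
    rw [Set.mem_singleton_iff] at hy
    rw [hy]
    exact (DhO_comm_of_comm g ⟨th.1, iso_le_sim Q th.2⟩ hcomm).symm
  have h1 := coreIm_conj_of_normalizes 2 (innFix (DhO Q g)) (psiIso Q th)
    (fun l hl => innFix_conj_mem _ _ hcent l hl) (psiIso Q t) ht
  rw [mem_liftN]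
  refine ⟨th * t * th⁻¹, ?_, ?_⟩
  · rw [map_mul, map_mul, map_inv]
    exact h1
  · show glE (th.1 * t.1 * th.1⁻¹) = _
    rw [map_mul, map_mul, map_inv, hthdef]
    simp only [MulEquiv.apply_symm_apply]

include hn in
/-- (G5) -/
theorem core_eq_bot_of_scalar
    (hsc : ∀ e ∈ liftN (coreIm 2 (innFix (DhO Q g))), ∃ c : F, ∀ v, e v = c • v) :
    coreIm 2 (innFix (DhO Q g)) = ⊥ := by
  rw [eq_bot_iff]
  intro n hn'
  rw [Subgroup.mem_bot]
  obtain ⟨ω, -, rfl⟩ := mem_innFix_imp _ n (coreIm_le 2 _ hn')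
  obtain ⟨c, hc⟩ := hsc (glE ω.1.1) ((mem_liftN _ _).2 ⟨ω.1, hn', rfl⟩)
  have hc' : ∀ v, act ω.1.1 v = c • v := fun v => hc v
  have hc0 : c ≠ 0 := scalar_ne_zero_of_act _ c hc'
  have h1 := eq_scalarGL_of_act _ c hc0 hc'
  rw [psiIso_apply]
  have h3 : (⟨ω.1.1, iso_le_sim Q ω.1.2⟩ : ↥(Cfsg.Geo.quadSimilarityGroup (F := F) Q)) =
      ⟨scalarGL c hc0, scalarGL_mem_GO hQ c hc0⟩ := Subtype.ext h1
  rw [h3]
  exact DhO_scalarG hQ c hc0

end generic

end Cfsg.Agent.Lib.H7BalM
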