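import Cfsg.Agent.Lib.Helper7.BalM.InvF

/-!
# Type (i): `O_{2'}` of the centraliser of an involutory isometry of determinant `-1` (helper7)
-/

set_option autoImplicit false
set_option linter.unusedSectionVars false
set_option linter.style.haveILetI false

namespace Cfsg.Agent.Lib.H7BalM

open Matrix Cfsg Cfsg.Agent.Lib.H7AutPSp Cfsg.Agent.Lib.H7AutPO Cfsg.Agent.Lib.H7AutPSL
  Cfsg.Agent.Lib.Helper5.OrthAut Cfsg.Agent.H9.Orth Cfsg.Agent.Lib.Helper5.OrthSN
  Cfsg.Agent.Lib.Helper5.OrthPar Cfsg.Agent.Lib.Helper5.OrthCls Cfsg.Agent.Lib.Helper5.OrthPM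
  Cfsg.Agent.Lib.H7AutPM Cfsg.Agent.Lib.Helper8.AutSp Module

universe u v

variable {I : Type} [Fintype I] [DecidableEq I] {F : Type u} [Field F] [Fintype F]
  {Q : (I → F) → F} (hQ : Cfsg.Geo.IsNondegenerateQuadraticForm Q)

/-- the colouring of `Fin n₁ ⊕ Fin n₂` -/
def zetaS (F : Type u) [Field F] (n₁ n₂ : ℕ) : Fin n₁ ⊕ Fin n₂ → F :=
  Sum.elim (fun _ => 1) (fun _ => -1)

theorem zetaS_pm (n₁ n₂ : ℕ) (i : Fin n₁ ⊕ Fin n₂) : zetaS F n₁ n₂ i = 1 ∨ zetaS F n₁ n₂ i = -1 := by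
  rcases i with i | i
  · exact Or.inl rfl
  · exact Or.inr rfl

theorem prod_zetaS (n₁ n₂ : ℕ) : ∏ i, zetaS F n₁ n₂ i = (-1) ^ n₂ := by
  rw [Fintype.prod_sum_type]
  simp [zetaS]

/-- no colour class of size two when both sizes are odd -/
theorem zetaS_col (h2 : (2 : F) ≠ 0) (n₁ n₂ : ℕ) (h₁ : Odd n₁) (h₂ : Odd n₂)
    (i j : Fin n₁ ⊕ Fin n₂) (hij : i ≠ j) (hζ : zetaS F n₁ n₂ i = zetaS F n₁ n₂ j) :
    ∃ k, k ≠ i ∧ k ≠ j ∧ zetaS F n₁ n₂ k = zetaS F n₁ n₂ i := by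
  have hne : (1 : F) ≠ -1 := by
    intro h
    apply h2
    linear_combination h
  rcases i with i | i <;> rcases j with j | j
  · have hij' : i ≠ j := fun h => hij (by rw [h])
    have h3 : 3 ≤ n₁ := by
      obtain ⟨t, ht⟩ := h₁
      have := Fin.val_ne_of_ne hij'
      have hi := i.2
      have hj := j.2
      omega
    obtain ⟨k, hki, hkj⟩ := fin_third n₁ h3 i j
    exact ⟨Sum.inl k, fun h => hki (Sum.inl_injective h), fun h => hkj (Sum.inl_injective h), rfl⟩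
  · exact absurd hζ hne
  · exact absurd hζ.symm hne
  · have hij' : i ≠ j := fun h => hij (by rw [h])
    have h3 : 3 ≤ n₂ := by
      obtain ⟨t, ht⟩ := h₂
      have := Fin.val_ne_of_ne hij'
      have hi := i.2
      have hj := j.2
      omega
    obtain ⟨k, hki, hkj⟩ := fin_third n₂ h3 i j
    exact ⟨Sum.inr k, fun h => hki (Sum.inr_injective h), fun h => hkj (Sum.inr_injective h), rfl⟩

include hQ

/-- the data attached to an involutory isometry of determinant `≠ 1` in even dimension -/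
theorem eigen_data (h2 : (2 : F) ≠ 0) (hev : Even (Fintype.card I))
    (s : GL I F) (hs : s ∈ Cfsg.isometryGroup F Q) (hss : ∀ v, act s (act s v) = v)
    (hdet : (s : Matrix I I F).det ≠ 1) :
    ∃ (n₁ n₂ : ℕ) (b : Basis (Fin n₁ ⊕ Fin n₂) F (I → F)),
      (∀ i j, i ≠ j → BF hQ (b i) (b j) = 0) ∧ (∀ i, BF hQ (b i) (b i) ≠ 0) ∧
      (∀ i, act s (b i) = zetaS F n₁ n₂ i • b i) ∧ Odd n₁ ∧ Odd n₂ ∧
      n₁ + n₂ = Fintype.card I := by
  obtain ⟨n₁, n₂, b, horth, hani, hb1, hb2⟩ := exists_eigenbasis hQ h2 s hs hss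
  have hz : ∀ i, act s (b i) = zetaS F n₁ n₂ i • b i := by
    intro i
    rcases i with i | i
    · rw [hb1]
      show _ = (1 : F) • _
      rw [one_smul]
    · rw [hb2]
      show _ = (-1 : F) • _
      rw [neg_smul, one_smul]
  have hcard : n₁ + n₂ = Fintype.card I := by
    have h1 := Module.finrank_eq_card_basis b
    rw [Module.finrank_fintype_fun_eq_card, Fintype.card_sum, Fintype.card_fin,
      Fintype.card_fin] at h1
    exact h1.symm
  have hd := det_eq_prod_of_eigenbasis b s (zetaS F n₁ n₂) hz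
  rw [prod_zetaS] at hd
  have ho₂ : Odd n₂ := by
    by_contra hne
    have he : Even n₂ := Nat.not_odd_iff_even.1 hne
    apply hdet
    rw [hd, he.neg_one_pow]
  have ho₁ : Odd n₁ := by
    by_contra hne
    have he : Even n₁ := Nat.not_odd_iff_even.1 hne
    rw [← hcard] at hev
    have : Odd (n₁ + n₂) := he.add_odd ho₂
    exact (Nat.not_even_iff_odd.2 this) hev
  exact ⟨n₁, n₂, b, horth, hani, hz, ho₁, ho₂, hcard⟩

/-- **type (i)**: the `2'`-core of the inner automorphisms centralising `DhO s` is trivial -/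
theorem core_trivial_i [Nonempty I] (hn : 7 ≤ Fintype.card I) (h2 : (2 : F) ≠ 0)
    (hZ : Subgroup.center (Cfsg.POmega F Q) = ⊥) (hev : Even (Fintype.card I))
    (s : GL I F) (hs : s ∈ Cfsg.isometryGroup F Q) (hss : ∀ v, act s (act s v) = v)
    (hdet : (s : Matrix I I F).det ≠ 1) :
    coreIm 2 (innFix (DhO Q ⟨s, iso_le_sim Q hs⟩)) = ⊥ := by
  obtain ⟨n₁, n₂, b, horth, hani, hz, ho₁, ho₂, hcard⟩ := eigen_data hQ h2 hev s hs hss hdet
  apply core_eq_bot_of_scalar hQ hn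
  apply odd_normal_scalar (BF hQ) (BF_isSymm hQ) h2 b horth hani (glE s) (zetaS F n₁ n₂)
    (zetaS_pm n₁ n₂) hz (zetaS_col h2 n₁ n₂ ho₁ ho₂)
  · rw [Fintype.card_sum, Fintype.card_fin, Fintype.card_fin, hcard]
    omega
  · exact liftN_le_isoB hQ _
  · intro e he
    exact liftN_comm hQ hn hZ ⟨s, iso_le_sim Q hs⟩ e he
  · intro h hh hc e he
    exact liftN_norm hQ hn h2 ⟨s, iso_le_sim Q hs⟩ h hh hc e he
  · intro e he
    exact liftN_odd hQ hn ⟨s, iso_le_sim Q hs⟩ e he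

end Cfsg.Agent.Lib.H7BalM
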