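import Cfsg.Agent.Lib.Helper7.BalM.InvG
import Cfsg.Agent.Lib.Helper7.BalM.AbsE

/-!
# Type (i): rigidity (helper7)

An automorphism of odd order induced by a semisimilarity which fixes pointwise the fixed points
of `DhO s` (`s` an involutory isometry of determinant `-1`) is trivial.
-/

set_option autoImplicit false
set_option linter.unusedSectionVars false
set_option linter.style.haveILetI false

namespace Cfsg.Agent.Lib.H7BalM

open Matrix Cfsg Cfsg.Agent.Lib.H7AutPSp Cfsg.Agent.Lib.H7AutPO Cfsg.Agent.Lib.H7AutPSL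
  Cfsg.Agent.Lib.Helper5.OrthAut Cfsg.Agent.H9.Orth Cfsg.Agent.Lib.Helper5.OrthSN
  Cfsg.Agent.Lib.Helper5.OrthPar Cfsg.Agent.Lib.Helper5.OrthCls Cfsg.Agent.Lib.Helper5.OrthPM
  Cfsg.Agent.Lib.H7AutPM Cfsg.Agent.Lib.Helper8.AutSp Module

universe u v

variable {I : Type} [Fintype I] [DecidableEq I] {F : Type u} [Field F] [Fintype F]
  {Q : (I → F) → F} (hQ : Cfsg.Geo.IsNondegenerateQuadraticForm Q)

theorem gl_ext_basis {ι' : Type*} (b : Basis ι' F (I → F)) (g h : GL I F)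
    (H : ∀ i, act g (b i) = act h (b i)) : g = h := by
  apply (glE (I := I) (F := F)).injective
  apply LinearEquiv.toLinearMap_injective
  apply b.ext
  intro i
  exact H i

/-- the semilinear action as an additive map -/
def sactAdd (y : GamL I F) : (I → F) →+ (I → F) := AddMonoidHom.mk' (sact y) (sact_add y)

theorem sactAdd_apply (y : GamL I F) (v : I → F) : sactAdd y v = sact y v := rfl

include hQ

/-- the commutation hypothesis of the abstract rigidity lemma, for an isometry `s` -/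
theorem commRR_of_fix [Nonempty I] (hn : 7 ≤ Fintype.card I) (h2 : (2 : F) ≠ 0)
    (hfin : Fintype.card F ≠ 2 ∨ Fintype.card I ≠ 4)
    (s : GL I F) (hs : s ∈ Cfsg.isometryGroup F Q)
    (y : ↥(GammaO Q)) (k : ℕ) (hk : Odd k) (hyk : (PsO Q y) ^ k = 1)
    (hfix : ∀ κ : Cfsg.POmega F Q, DhO Q ⟨s, iso_le_sim Q hs⟩ κ = κ → PsO Q y κ = κ) :
    CommRR (BF hQ) (glE s) (sactAdd y.1) := by
  intro u v hu hv huv hzu hzv w
  have hQu : Q u ≠ 0 := (BF_self_ne hQ h2 u).1 hu
  have hQv : Q v = Q u := by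
    rw [BF_self hQ, BF_self hQ] at hv
    exact mul_left_cancel₀ h2 hv
  have hcu : s * rf hQ u = rf hQ u * s := by
    apply (glE (I := I) (F := F)).injective
    rw [map_mul, map_mul, glE_rf hQ h2]
    exact comm_rflB_of_apply (BF hQ) (glE s) (glE_mem_isoB hQ s hs) u hzu
  have hcv : s * rf hQ v = rf hQ v * s := by
    apply (glE (I := I) (F := F)).injective
    rw [map_mul, map_mul, glE_rf hQ h2]
    exact comm_rflB_of_apply (BF hQ) (glE s) (glE_mem_isoB hQ s hs) v hzv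
  set ω : ↥(Cfsg.Omega F Q) :=
    ⟨⟨rf hQ u * rf hQ v, mul_mem (rf_mem hQ u) (rf_mem hQ v)⟩,
      rf_mul_rf_mem_omega hQ hfin u v hQu hQv⟩ with hω
  have hc : s * (rf hQ u * rf hQ v) = rf hQ u * rf hQ v * s := by
    rw [← mul_assoc, hcu, mul_assoc, hcv, mul_assoc]
  have h1 := fix_of_comm ⟨s, iso_le_sim Q hs⟩ ω hc
  have h3 := sact_comm_of_fix hQ hn y k hk hyk ω (hfix _ h1) w
  have hval : ω.1.1 = rf hQ u * rf hQ v := rfl
  rw [hval, act_mul] at h3
  have e1 : ∀ x w' : I → F, act (rf hQ x) w' = rflB (BF hQ) x w' := by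
    intro x w'
    rw [← glE_rf hQ h2]
    rfl
  rw [sactAdd_apply, sactAdd_apply]
  simp only [← e1]
  rw [h3, act_mul]


/-- **type (i), rigidity** -/
theorem rigid_i [Nonempty I] (hn : 8 ≤ Fintype.card I) (h2 : (2 : F) ≠ 0)
    (hfin : Fintype.card F ≠ 2 ∨ Fintype.card I ≠ 4) (hev : Even (Fintype.card I))
    (s : GL I F) (hs : s ∈ Cfsg.isometryGroup F Q) (hss : ∀ v, act s (act s v) = v)
    (hdet : (s : Matrix I I F).det ≠ 1)
    (y : ↥(GammaO Q)) (k : ℕ) (hk : Odd k) (hyk : (PsO Q y) ^ k = 1)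
    (hfix : ∀ κ : Cfsg.POmega F Q, DhO Q ⟨s, iso_le_sim Q hs⟩ κ = κ → PsO Q y κ = κ) :
    PsO Q y = 1 := by
  have hn7 : 7 ≤ Fintype.card I := by omega
  obtain ⟨n₁, n₂, b, horth, hani, hz, ho₁, ho₂, hcard⟩ := eigen_data hQ h2 hev s hs hss hdet
  have hcomm := commRR_of_fix hQ hn7 h2 hfin s hs y k hk hyk hfix
  have hinj : Function.Injective (sactAdd y.1) := by
    intro v w hvw
    have := congrArg (sact y.1⁻¹) hvw
    rw [sactAdd_apply, sactAdd_apply, sact_inv_sact, sact_inv_sact] at this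
    exact this
  have hcardι : Fintype.card (Fin n₁ ⊕ Fin n₂) = Fintype.card I := by
    rw [Fintype.card_sum, Fintype.card_fin, Fintype.card_fin, hcard]
  obtain ⟨hτ, l, hl, hlcol⟩ := rigid_abs (BF hQ) (BF_isSymm hQ) h2 (glE s) (sactAdd y.1)
    (fun c => y.1.right c) (fun c v => sact_smul y.1 c v) hcomm b horth hani (zetaS F n₁ n₂)
    (zetaS_pm n₁ n₂) hz hinj (zetaS_col h2 n₁ n₂ ho₁ ho₂) (by
      intro S hS
      apply tripleOut_of_card (zetaS F n₁ n₂) (zetaS_pm n₁ n₂) S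
      rw [hcardι]
      rcases hS with h | h
      · omega
      · have := h.1
        omega)
  -- the field automorphism is trivial
  have hright : y.1.right = 1 := by
    ext c
    exact hτ c
  have hyker : y ∈ (rightO Q).ker := by
    rw [MonoidHom.mem_ker, rightO_apply]
    exact hright
  rw [rightO_ker] at hyker
  obtain ⟨h, rfl⟩ := hyker
  rw [PsO_simIncl] at hyk hfix ⊢
  have hact : ∀ v, sact (simIncl Q h).1 v = act h.1 v := by
    intro v
    rw [sact_eq_act _ (simIncl_right Q h), simIncl_left]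
  have hb : ∀ i, act h.1 (b i) = l i • b i := by
    intro i
    rw [← hact]
    exact hl i
  -- the squares of the eigenvalues
  have hQb : ∀ i, Q (b i) ≠ 0 := fun i => (BF_self_ne hQ h2 (b i)).1 (hani i)
  have hsq : ∀ i, l i ^ 2 = (mu h : F) := by
    intro i
    have h1 := mu_spec h (b i)
    rw [hb, Q_smul hQ] at h1
    exact mul_right_cancel₀ (hQb i) h1
  have hn₁ : 0 < n₁ := ho₁.pos
  have hn₂ : 0 < n₂ := ho₂.pos
  set i₁ : Fin n₁ ⊕ Fin n₂ := Sum.inl ⟨0, hn₁⟩ with hi₁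
  set i₂ : Fin n₁ ⊕ Fin n₂ := Sum.inr ⟨0, hn₂⟩ with hi₂
  have hl₁ : ∀ i : Fin n₁, l (Sum.inl i) = l i₁ := fun i => hlcol _ _ rfl
  have hl₂ : ∀ i : Fin n₂, l (Sum.inr i) = l i₂ := fun i => hlcol _ _ rfl
  have hl0 : l i₁ ≠ 0 := by
    intro h0
    have := hsq i₁
    rw [h0] at this
    exact (Units.ne_zero (mu h)) (by rw [← this]; ring)
  have hcases : l i₂ = l i₁ ∨ l i₂ = -l i₁ := by
    have h1 : (l i₂ - l i₁) * (l i₂ + l i₁) = 0 := by
      linear_combination hsq i₂ - hsq i₁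
    rcases mul_eq_zero.1 h1 with h3 | h3
    · exact Or.inl (sub_eq_zero.1 h3)
    · exact Or.inr (eq_neg_of_add_eq_zero_left h3)
  rcases hcases with hc | hc
  · -- scalar
    have h1 : h.1 = scalarGL (l i₁) hl0 := by
      apply gl_ext_basis b
      intro i
      rw [hb, act_scalarGL]
      rcases i with i | i
      · rw [hl₁]
      · rw [hl₂, hc]
    have h3 : h = ⟨scalarGL (l i₁) hl0, scalarGL_mem_GO hQ (l i₁) hl0⟩ := Subtype.ext h1
    rw [h3]
    exact DhO_scalarG hQ (l i₁) hl0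
  · -- a scalar multiple of `s`
    have h1 : h.1 = scalarGL (l i₁) hl0 * s := by
      apply gl_ext_basis b
      intro i
      rw [hb, act_mul, act_scalarGL, hz, smul_smul]
      rcases i with i | i
      · rw [hl₁]
        show _ = (l i₁ * 1) • _
        rw [mul_one]
      · rw [hl₂, hc]
        show _ = (l i₁ * -1) • _
        rw [mul_neg, mul_one]
    have h3 : h = (⟨scalarGL (l i₁) hl0, scalarGL_mem_GO hQ (l i₁) hl0⟩ :
        ↥(Cfsg.Geo.quadSimilarityGroup (F := F) Q)) * ⟨s, iso_le_sim Q hs⟩ := Subtype.ext h1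
    have h4 : DhO Q h = DhO Q ⟨s, iso_le_sim Q hs⟩ := by
      rw [h3, map_mul, DhO_scalarG hQ, one_mul]
    -- `DhO s` is an involution of odd order
    have hss' : s * s = 1 := by
      apply gl_ext
      intro v
      rw [act_mul, act_one]
      exact hss v
    have hxx : DhO Q ⟨s, iso_le_sim Q hs⟩ * DhO Q ⟨s, iso_le_sim Q hs⟩ = 1 := by
      rw [← map_mul]
      have : (⟨s, iso_le_sim Q hs⟩ : ↥(Cfsg.Geo.quadSimilarityGroup (F := F) Q)) *
          ⟨s, iso_le_sim Q hs⟩ = 1 := Subtype.ext hss'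
      rw [this, map_one]
    rw [h4] at hyk ⊢
    rw [pow_odd_of_mul_self _ hxx k hk] at hyk
    exact hyk

end Cfsg.Agent.Lib.H7BalM
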