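import Cfsg.Agent.Lib.Helper7.BalM.QExtB

/-!
# Orthogonal bases over `F[√c]` (helper7)

Pure Mathlib.
-/

set_option autoImplicit false
set_option linter.unusedSectionVars false
set_option linter.style.haveILetI false

namespace Cfsg.Agent.Lib.H7BalM

open Module

variable {F : Type*} [Field F] {V : Type*} [AddCommGroup V] [Module F V]
  (g : V →ₗ[F] V) (c : F) (hg : ∀ v, g (g v) = c • v)
  (B : LinearMap.BilinForm F V) (hsa : ∀ u v, B (g u) v = B u (g v))
  [Fact (∀ r : F, r ^ 2 ≠ c + 0 * r)] [FiniteDimensional F V]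

theorem two_ne_zero_QA (h2 : (2 : F) ≠ 0) : (2 : QuadraticAlgebra F c 0) ≠ 0 := by
  intro h
  have := congrArg QuadraticAlgebra.re h
  rw [QuadraticAlgebra.re_ofNat, QuadraticAlgebra.re_zero] at this
  exact h2 this

/-- an orthogonal anisotropic basis for `BE` -/
theorem exists_orth_basis_BE (h2 : (2 : F) ≠ 0) (hs : B.IsSymm)
    (hB : ∀ u, (∀ v, B u v = 0) → u = 0) :
    ∃ b : Basis (Fin (Module.finrank (QuadraticAlgebra F c 0) (VQ g c hg)))
      (QuadraticAlgebra F c 0) (VQ g c hg),
      (∀ i j, i ≠ j → BE g c hg B hsa (b i) (b j) = 0) ∧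
      (∀ i, BE g c hg B hsa (b i) (b i) ≠ 0) := by
  haveI : Invertible (2 : QuadraticAlgebra F c 0) := invertibleOfNonzero (two_ne_zero_QA c h2)
  have hsE := BE_isSymm g c hg B hsa hs
  have hsE' : LinearMap.IsSymm (BE g c hg B hsa) := ⟨fun x y => hsE.eq x y⟩
  obtain ⟨b, hb⟩ := LinearMap.BilinForm.exists_orthogonal_basis hsE'
  have hnd : (BE g c hg B hsa).Nondegenerate := by
    constructor
    · intro u hu
      exact BE_separating g c hg B hsa hB u hu
    · intro u hu
      apply BE_separating g c hg B hsa hB u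
      intro v
      rw [← hsE.eq]
      exact hu v
  refine ⟨b, ?_, ?_⟩
  · intro i j hij
    exact hb hij
  · exact LinearMap.BilinForm.iIsOrtho.not_isOrtho_basis_self_of_nondegenerate hb hnd

end Cfsg.Agent.Lib.H7BalM
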