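import Cfsg.Agent.Lib.Helper7.BalM.InvH
import Cfsg.Agent.Lib.Helper7.BalM.QExtC

/-!
# Type (ii): `gs² = l` a non-square — the `2'`-core (helper7)
-/

set_option autoImplicit false
set_option linter.unusedSectionVars false
set_option linter.style.haveILetI false

namespace Cfsg.Agent.Lib.H7BalM

open Matrix Cfsg Cfsg.Agent.Lib.H7AutPSp Cfsg.Agent.Lib.H7AutPO Cfsg.Agent.Lib.H7AutPSL
  Cfsg.Agent.Lib.Helper5.OrthAut Cfsg.Agent.H9.Orth Cfsg.Agent.Lib.Helper5.OrthSN
  Cfsg.Agent.Lib.Helper5.OrthPar Cfsg.Agent.Lib.Helper5.OrthCls Cfsg.Agent.Lib.Helper5.OrthPM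
  Cfsg.Agent.Lib.H7AutPM Cfsg.Agent.Lib.Helper8.AutSp Module

universe u v

variable {I : Type} [Fintype I] [DecidableEq I] {F : Type u} [Field F] [Fintype F]
  {Q : (I → F) → F}

/-- the linear map of a matrix -/
noncomputable def gLin (g : GL I F) : (I → F) →ₗ[F] (I → F) := (glE g).toLinearMap

theorem gLin_apply (g : GL I F) (v : I → F) : gLin g v = act g v := rfl

theorem fact_of_not_isSquare (l : F) (hl : ¬ IsSquare l) : Fact (∀ r : F, r ^ 2 ≠ l + 0 * r) := by
  constructor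
  intro r hr
  apply hl
  exact ⟨r, by rw [← pow_two, hr]; ring⟩

variable (hQ : Cfsg.Geo.IsNondegenerateQuadraticForm Q)

include hQ

/-- a similarity with `g² = μ` is self-adjoint -/
theorem gLin_sa (gs : ↥(Cfsg.Geo.quadSimilarityGroup (F := F) Q)) (l : F) (hl0 : l ≠ 0)
    (hgg : ∀ v, act gs.1 (act gs.1 v) = l • v) (hmu : (mu gs : F) = l) (u v : I → F) :
    BF hQ (gLin gs.1 u) v = BF hQ u (gLin gs.1 v) := by
  rw [BF_apply, BF_apply, gLin_apply, gLin_apply]
  have hpol : ∀ a b : I → F, pol Q (act gs.1 a) (act gs.1 b) = l * pol Q a b := by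
    intro a b
    unfold pol QuadraticMap.polar
    rw [← act_add, mu_spec gs, mu_spec gs, mu_spec gs, hmu]
    ring
  have h1 := hpol u (act gs.1 v)
  rw [hgg, pol_smul_right hQ] at h1
  exact mul_left_cancel₀ hl0 h1

theorem BF_separating (u : I → F) (hu : ∀ v, BF hQ u v = 0) : u = 0 :=
  (BF_nondegenerate hQ).1 u hu


/-- **type (ii)**: the `2'`-core of the inner automorphisms centralising `DhO gs` is trivial -/
theorem core_trivial_ii [Nonempty I] (hn : 8 ≤ Fintype.card I) (h2 : (2 : F) ≠ 0)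
    (hZ : Subgroup.center (Cfsg.POmega F Q) = ⊥)
    (gs : ↥(Cfsg.Geo.quadSimilarityGroup (F := F) Q)) (l : F) (hl : ¬ IsSquare l)
    (hgg : ∀ v, act gs.1 (act gs.1 v) = l • v) (hmu : (mu gs : F) = l) :
    coreIm 2 (innFix (DhO Q gs)) = ⊥ := by
  haveI := fact_of_not_isSquare l hl
  haveI : Finite (QuadraticAlgebra F l 0) :=
    Finite.of_equiv (F × F) (QuadraticAlgebra.equivProd l 0).symm
  have hn7 : 7 ≤ Fintype.card I := by omega
  have hl0 : l ≠ 0 := by
    rintro rfl
    exact hl ⟨0, by ring⟩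
  have hg : ∀ v, gLin gs.1 (gLin gs.1 v) = l • v := hgg
  have hsa := gLin_sa hQ gs l hl0 hgg hmu
  obtain ⟨b, horth, hani⟩ := exists_orth_basis_BE (gLin gs.1) l hg (BF hQ) hsa h2 (BF_isSymm hQ)
    (BF_separating hQ)
  have hrank : 2 * Module.finrank (QuadraticAlgebra F l 0) (VQ (gLin gs.1) l hg) =
      Fintype.card I := by
    rw [finrank_VQ, Module.finrank_fintype_fun_eq_card]
  have hr4 : 4 ≤ Module.finrank (QuadraticAlgebra F l 0) (VQ (gLin gs.1) l hg) := by omega
  apply core_eq_bot_of_scalar hQ hn7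
  -- the group over the quadratic extension
  have key : ∀ e ∈ (liftN (coreIm 2 (innFix (DhO Q gs)))).comap (resF (gLin gs.1) l hg),
      ∃ ε : QuadraticAlgebra F l 0, ∀ w, e w = ε • w := by
    apply odd_normal_scalar (BE (gLin gs.1) l hg (BF hQ) hsa)
      (BE_isSymm (gLin gs.1) l hg (BF hQ) hsa (BF_isSymm hQ)) (two_ne_zero_QA l h2) b horth hani
      1 (fun _ => 1) (fun _ => Or.inl rfl) (fun i => by rw [one_smul]; rfl)
    · intro i j hij _
      obtain ⟨k, hki, hkj⟩ := fin_third _ (by omega) i j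
      exact ⟨k, hki, hkj, rfl⟩
    · rw [Fintype.card_fin]
      exact hr4
    · intro e he
      rw [Subgroup.mem_comap] at he
      rw [mem_isoB_BE_iff]
      exact liftN_le_isoB hQ _ he
    · intro e _
      rw [mul_one, one_mul]
    · intro h hh _ e he
      rw [Subgroup.mem_comap] at he ⊢
      rw [map_mul, map_mul, map_inv]
      apply liftN_norm hQ hn7 h2 gs _ ((mem_isoB_BE_iff _ _ _ _ _ _).1 hh) ?_ _ he
      apply LinearEquiv.ext
      intro v
      exact resF_comm (gLin gs.1) l hg h v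
    · intro e he
      rw [Subgroup.mem_comap] at he
      obtain ⟨k, hk, c, hc⟩ := liftN_odd hQ hn7 gs _ he
      refine ⟨k, hk, algebraMap F (QuadraticAlgebra F l 0) c, fun w => ?_⟩
      apply ofQ_injective (gLin gs.1) l hg
      rw [ofQ_algebraMap_smul]
      have h1 := hc (ofQ (gLin gs.1) l hg w)
      rw [← map_pow] at h1
      exact h1
  intro e' he'
  have hc := liftN_comm hQ hn7 hZ gs e' he'
  have hc' : ∀ v, e' (gLin gs.1 v) = gLin gs.1 (e' v) := by
    intro v
    exact congrArg (fun f : (I → F) ≃ₗ[F] (I → F) => f v) hc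
  have hmem : liftE (gLin gs.1) l hg e' hc' ∈
      (liftN (coreIm 2 (innFix (DhO Q gs)))).comap (resF (gLin gs.1) l hg) := by
    rw [Subgroup.mem_comap, resF_liftE]
    exact he'
  obtain ⟨ε, hε⟩ := key _ hmem
  have hiso : liftE (gLin gs.1) l hg e' hc' ∈ isoB (BE (gLin gs.1) l hg (BF hQ) hsa) := by
    rw [mem_isoB_BE_iff, resF_liftE]
    exact liftN_le_isoB hQ _ he'
  have hpos : 0 < Module.finrank (QuadraticAlgebra F l 0) (VQ (gLin gs.1) l hg) := by omega
  rcases scalar_isoB_pm (gLin gs.1) l hg (BF hQ) hsa _ hiso ε hε (b ⟨0, hpos⟩) (hani _) with h | h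
  · refine ⟨1, fun v => ?_⟩
    have h1 := hε (toQ (gLin gs.1) l hg v)
    rw [h, one_smul] at h1
    have h3 : e' v = v := congrArg (ofQ (gLin gs.1) l hg) h1
    rw [h3, one_smul]
  · refine ⟨-1, fun v => ?_⟩
    have h1 := hε (toQ (gLin gs.1) l hg v)
    rw [h, neg_smul, one_smul] at h1
    have h3 : e' v = -v := congrArg (ofQ (gLin gs.1) l hg) h1
    rw [h3, neg_smul, one_smul]

end Cfsg.Agent.Lib.H7BalM
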