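import Cfsg.Agent.Lib.Helper7.BalM.InvI

/-!
# Type (ii): `gs² = l` a non-square — rigidity (helper7)

An automorphism of odd order induced by a semisimilarity, commuting with `DhO gs` and fixing
pointwise the fixed points of `DhO gs`, is trivial.
-/

set_option autoImplicit false
set_option linter.unusedSectionVars false
set_option linter.style.haveILetI false

namespace Cfsg.Agent.Lib.H7BalM

open Matrix Cfsg Cfsg.Agent.Lib.H7AutPSp Cfsg.Agent.Lib.H7AutPO Cfsg.Agent.Lib.H7AutPSL
  Cfsg.Agent.Lib.Helper5.OrthAut Cfsg.Agent.H9.Orth Cfsg.Agent.Lib.Helper5.OrthSN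
  Cfsg.Agent.Lib.Helper5.OrthPar Cfsg.Agent.Lib.Helper5.OrthCls Cfsg.Agent.Lib.Helper5.OrthPM
  Cfsg.Agent.Lib.H7AutPM Cfsg.Agent.Lib.Helper8.AutSp Module

universe u v

open scoped commutatorElement

section abs

variable {K : Type*} [Field K] {V : Type*} [AddCommGroup V] [Module K V]
  (B : LinearMap.BilinForm K V) (hs : B.IsSymm)

include hs

/-- the reflection in `u - v` swaps `u` and `v` -/
theorem rflB_sub_swap (h2 : (2 : K) ≠ 0) (u v : V) (hu : B u u ≠ 0) (hv : B v v = B u u)
    (huv : B u v = 0) : rflB B (u - v) u = v := by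
  have hvu : B v u = 0 := by rw [hs.eq]; exact huv
  rw [rflB_apply]
  have h1 : B u (u - v) = B u u := by rw [map_sub, huv, sub_zero]
  have h3 : B (u - v) (u - v) = 2 * B u u := by
    simp only [map_sub, LinearMap.sub_apply, huv, hvu, hv]
    ring
  rw [h1, h3, div_self (mul_ne_zero h2 hu), one_smul]
  abel

/-- a product of two reflections in orthogonal vectors of the same norm is a commutator -/
theorem rflB_mul_eq_commutator (h2 : (2 : K) ≠ 0) (u v : V) (hu : B u u ≠ 0)
    (hv : B v v = B u u) (huv : B u v = 0) :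
    rflB B u * rflB B v = ⁅rflB B u, rflB B (u - v)⁆ := by
  have h1 := conj_rflB B (rflB B (u - v)) (rflB_mem B hs (u - v)) u
  rw [rflB_inv, rflB_sub_swap B hs h2 u v hu hv huv] at h1
  rw [commutatorElement_def, rflB_inv, rflB_inv, ← h1]
  simp only [mul_assoc]

end abs

section addQ

variable {F : Type*} [Field F] {V : Type*} [AddCommGroup V] [Module F V]
  (g : V →ₗ[F] V) (c : F) (hg : ∀ v, g (g v) = c • v)

/-- an additive map of `V` as an additive map of `VQ` -/
def addQ (f₀ : V →+ V) : VQ g c hg →+ VQ g c hg :=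
  AddMonoidHom.mk' (fun w => toQ g c hg (f₀ (ofQ g c hg w))) (by
    intro a b
    show toQ g c hg (f₀ (ofQ g c hg a + ofQ g c hg b)) = _
    rw [map_add]
    rfl)

theorem ofQ_addQ (f₀ : V →+ V) (w : VQ g c hg) :
    ofQ g c hg (addQ g c hg f₀ w) = f₀ (ofQ g c hg w) := rfl

end addQ

variable {I : Type} [Fintype I] [DecidableEq I] {F : Type u} [Field F] [Fintype F]
  {Q : (I → F) → F} (hQ : Cfsg.Geo.IsNondegenerateQuadraticForm Q)

include hQ

/-- commuting automorphisms: the semisimilarities commute up to a scalar -/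
theorem nu_of_comm [Nonempty I] (hn : 7 ≤ Fintype.card I)
    (gs : ↥(Cfsg.Geo.quadSimilarityGroup (F := F) Q)) (y : ↥(GammaO Q))
    (hyx : PsO Q y * DhO Q gs = DhO Q gs * PsO Q y) :
    ∃ ν : F, ∀ v, sact y.1 (act gs.1 v) = ν • act gs.1 (sact y.1 v) := by
  have h1 : PsO Q ((simIncl Q gs * y)⁻¹ * (y * simIncl Q gs)) = 1 := by
    rw [map_mul, map_inv, map_mul, map_mul, PsO_simIncl, hyx, inv_mul_cancel]
  obtain ⟨hr, c, hc⟩ := ker_PsO hQ hn _ h1
  set x : ↥(GammaO Q) := (simIncl Q gs * y)⁻¹ * (y * simIncl Q gs) with hx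
  have h3 : ∀ v, sact x.1 v = c • v := fun v => by rw [sact_eq_act x.1 hr, hc]
  have hsim : ∀ v, sact (simIncl Q gs).1 v = act gs.1 v := by
    intro v
    rw [sact_eq_act _ (simIncl_right Q gs), simIncl_left]
  refine ⟨(simIncl Q gs * y).1.right c, fun v => ?_⟩
  have h4 : (y * simIncl Q gs).1 = (simIncl Q gs * y).1 * x.1 := by
    rw [hx]
    show _ = (simIncl Q gs * y).1 * ((simIncl Q gs * y).1⁻¹ * (y * simIncl Q gs).1)
    rw [mul_inv_cancel_left]
  have h5 : sact (y * simIncl Q gs).1 v = sact y.1 (act gs.1 v) := by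
    show sact (y.1 * (simIncl Q gs).1) v = _
    rw [sact_mul, hsim]
  have h6 : sact (simIncl Q gs * y).1 v = act gs.1 (sact y.1 v) := by
    show sact ((simIncl Q gs).1 * y.1) v = _
    rw [sact_mul, hsim]
  rw [← h5, h4, sact_mul, h3, sact_smul, h6]

/-- the commutation hypothesis of the abstract rigidity lemma, over the quadratic extension -/
theorem commRR_ii [Nonempty I] (hn : 7 ≤ Fintype.card I) (h2 : (2 : F) ≠ 0)
    (gs : ↥(Cfsg.Geo.quadSimilarityGroup (F := F) Q)) (l : F)
    [Fact (∀ r : F, r ^ 2 ≠ l + 0 * r)]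
    (hg : ∀ v, gLin gs.1 (gLin gs.1 v) = l • v)
    (hsa : ∀ u v, BF hQ (gLin gs.1 u) v = BF hQ u (gLin gs.1 v))
    (y : ↥(GammaO Q)) (k : ℕ) (hk : Odd k) (hyk : (PsO Q y) ^ k = 1)
    (hfix : ∀ κ : Cfsg.POmega F Q, DhO Q gs κ = κ → PsO Q y κ = κ) :
    CommRR (BE (gLin gs.1) l hg (BF hQ) hsa) 1 (addQ (gLin gs.1) l hg (sactAdd y.1)) := by
  intro u v hu hv huv _ _ w
  have hsE := BE_isSymm (gLin gs.1) l hg (BF hQ) hsa (BF_isSymm hQ)
  have h2E := two_ne_zero_QA l h2
  have hcomm_id := rflB_mul_eq_commutator (BE (gLin gs.1) l hg (BF hQ) hsa) hsE h2E u v hu hv huv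
  have haB : resF (gLin gs.1) l hg (rflB (BE (gLin gs.1) l hg (BF hQ) hsa) u) ∈ isoB (BF hQ) :=
    resF_mem_isoB _ _ _ _ hsa _ (rflB_mem _ hsE u)
  have hbB : resF (gLin gs.1) l hg (rflB (BE (gLin gs.1) l hg (BF hQ) hsa) (u - v)) ∈
      isoB (BF hQ) :=
    resF_mem_isoB _ _ _ _ hsa _ (rflB_mem _ hsE (u - v))
  set ta : ↥(Cfsg.isometryGroup F Q) := ⟨glE.symm _, symm_mem_iso hQ h2 _ haB⟩ with hta
  set tb : ↥(Cfsg.isometryGroup F Q) := ⟨glE.symm _, symm_mem_iso hQ h2 _ hbB⟩ with htb
  set ω : ↥(Cfsg.Omega F Q) := ⟨⁅ta, tb⁆,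
    Subgroup.commutator_mem_commutator (Subgroup.mem_top ta) (Subgroup.mem_top tb)⟩ with hω
  have hval : glE ω.1.1 = resF (gLin gs.1) l hg
      (rflB (BE (gLin gs.1) l hg (BF hQ) hsa) u * rflB (BE (gLin gs.1) l hg (BF hQ) hsa) v) := by
    rw [hcomm_id, map_commutatorElement]
    have h1 : ω.1.1 = ⁅ta.1, tb.1⁆ := rfl
    rw [h1, map_commutatorElement, hta, htb]
    simp only [MulEquiv.apply_symm_apply]
  have hact : ∀ x : I → F, act ω.1.1 x = ofQ (gLin gs.1) l hg
      (rflB (BE (gLin gs.1) l hg (BF hQ) hsa) u (rflB (BE (gLin gs.1) l hg (BF hQ) hsa) v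
        (toQ (gLin gs.1) l hg x))) := by
    intro x
    rw [← glE_apply, hval]
    rfl
  have hc : gs.1 * ω.1.1 = ω.1.1 * gs.1 := by
    apply (glE (I := I) (F := F)).injective
    rw [map_mul, map_mul, hval]
    apply LinearEquiv.ext
    intro x
    exact (resF_comm (gLin gs.1) l hg _ x).symm
  have h1 := fix_of_comm gs ω hc
  have h3 := sact_comm_of_fix hQ hn y k hk hyk ω (hfix _ h1) (ofQ (gLin gs.1) l hg w)
  rw [hact, hact] at h3
  exact h3

/-- **type (ii), rigidity** -/
theorem rigid_ii [Nonempty I] (hn : 10 ≤ Fintype.card I) (h2 : (2 : F) ≠ 0)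
    (gs : ↥(Cfsg.Geo.quadSimilarityGroup (F := F) Q)) (l : F) (hl : ¬ IsSquare l)
    (hgg : ∀ v, act gs.1 (act gs.1 v) = l • v) (hmu : (mu gs : F) = l)
    (y : ↥(GammaO Q)) (k : ℕ) (hk : Odd k) (hyk : (PsO Q y) ^ k = 1)
    (hyx : PsO Q y * DhO Q gs = DhO Q gs * PsO Q y)
    (hfix : ∀ κ : Cfsg.POmega F Q, DhO Q gs κ = κ → PsO Q y κ = κ) :
    PsO Q y = 1 := by
  haveI := fact_of_not_isSquare l hl
  haveI : Finite (QuadraticAlgebra F l 0) :=
    Finite.of_equiv (F × F) (QuadraticAlgebra.equivProd l 0).symm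
  have hn7 : 7 ≤ Fintype.card I := by omega
  have hl0 : l ≠ 0 := by
    rintro rfl
    exact hl ⟨0, by ring⟩
  have hg : ∀ v, gLin gs.1 (gLin gs.1 v) = l • v := hgg
  have hsa := gLin_sa hQ gs l hl0 hgg hmu
  obtain ⟨b, horth, hani⟩ := exists_orth_basis_BE (gLin gs.1) l hg (BF hQ) hsa h2 (BF_isSymm hQ)
    (BF_separating hQ)
  have hrank : 2 * Module.finrank (QuadraticAlgebra F l 0) (VQ (gLin gs.1) l hg) =
      Fintype.card I := by
    rw [finrank_VQ, Module.finrank_fintype_fun_eq_card]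
  have hr5 : 5 ≤ Module.finrank (QuadraticAlgebra F l 0) (VQ (gLin gs.1) l hg) := by omega
  have hpos : 0 < Module.finrank (QuadraticAlgebra F l 0) (VQ (gLin gs.1) l hg) := by omega
  obtain ⟨ν, hν⟩ := nu_of_comm hQ hn7 gs y hyx
  have hcomm := commRR_ii hQ hn7 h2 gs l hg hsa y k hk hyk hfix
  have hsE := BE_isSymm (gLin gs.1) l hg (BF hQ) hsa (BF_isSymm hQ)
  have h2E := two_ne_zero_QA l h2
  -- semilinearity over the quadratic extension
  have hsemi : ∀ (e : QuadraticAlgebra F l 0) (w : VQ (gLin gs.1) l hg),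
      addQ (gLin gs.1) l hg (sactAdd y.1) (e • w) =
        (⟨y.1.right e.re, ν * y.1.right e.im⟩ : QuadraticAlgebra F l 0) •
          addQ (gLin gs.1) l hg (sactAdd y.1) w := by
    intro e w
    apply ofQ_injective (gLin gs.1) l hg
    rw [ofQ_addQ, ofQ_smul, ofQ_smul, ofQ_addQ, sactAdd_apply, sactAdd_apply, sact_add, sact_smul,
      sact_smul, gLin_apply, gLin_apply, hν, smul_smul, mul_comm]
  have hinj : Function.Injective (addQ (gLin gs.1) l hg (sactAdd y.1)) := by
    intro v w hvw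
    have h1 : sact y.1 (ofQ (gLin gs.1) l hg v) = sact y.1 (ofQ (gLin gs.1) l hg w) :=
      congrArg (ofQ (gLin gs.1) l hg) hvw
    have := congrArg (sact y.1⁻¹) h1
    rw [sact_inv_sact, sact_inv_sact] at this
    exact this
  obtain ⟨hτ, lam, hlam, hlamc⟩ := rigid_abs (BE (gLin gs.1) l hg (BF hQ) hsa) hsE h2E 1
    (addQ (gLin gs.1) l hg (sactAdd y.1))
    (fun e => (⟨y.1.right e.re, ν * y.1.right e.im⟩ : QuadraticAlgebra F l 0)) hsemi hcomm
    b horth hani (fun _ => 1) (fun _ => Or.inl rfl) (fun i => by rw [one_smul]; rfl) hinj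
    (by
      intro i j hij _
      obtain ⟨k, hki, hkj⟩ := fin_third _ (by omega) i j
      exact ⟨k, hki, hkj, rfl⟩)
    (by
      intro S hS
      apply tripleOut_const _ (fun _ _ => rfl) S
      rw [Fintype.card_fin]
      rcases hS with h | h
      · omega
      · exfalso
        rcases h.2 (QuadraticAlgebra.omega) with h0 | h0 | h0
        · have := congrArg QuadraticAlgebra.im h0
          rw [QuadraticAlgebra.omega_im, QuadraticAlgebra.im_zero] at this
          exact one_ne_zero this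
        · have := congrArg QuadraticAlgebra.im h0
          rw [QuadraticAlgebra.omega_im, QuadraticAlgebra.im_one] at this
          exact one_ne_zero this
        · have := congrArg QuadraticAlgebra.im h0
          rw [QuadraticAlgebra.omega_im, QuadraticAlgebra.im_neg, QuadraticAlgebra.im_one,
            neg_zero] at this
          exact one_ne_zero this)
  -- the field automorphism is trivial and `ν = 1`
  have hright : y.1.right = 1 := by
    ext c
    have := congrArg QuadraticAlgebra.re (hτ ⟨c, 0⟩)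
    exact this
  have hν1 : ν = 1 := by
    have := congrArg QuadraticAlgebra.im (hτ ⟨0, 1⟩)
    simp only [map_one, mul_one] at this
    exact this
  have hyker : y ∈ (rightO Q).ker := by
    rw [MonoidHom.mem_ker, rightO_apply]
    exact hright
  rw [rightO_ker] at hyker
  obtain ⟨h, rfl⟩ := hyker
  rw [PsO_simIncl] at hyk ⊢
  have hact0 : ∀ v, sact (simIncl Q h).1 v = act h.1 v := by
    intro v
    rw [sact_eq_act _ (simIncl_right Q h), simIncl_left]
  -- `h` is a scalar of the quadratic extension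
  set ε : QuadraticAlgebra F l 0 := lam ⟨0, hpos⟩ with hε
  have hfE : ∀ w : VQ (gLin gs.1) l hg,
      addQ (gLin gs.1) l hg (sactAdd (simIncl Q h).1) w = ε • w := by
    let fL : VQ (gLin gs.1) l hg →ₗ[QuadraticAlgebra F l 0] VQ (gLin gs.1) l hg :=
      { toFun := addQ (gLin gs.1) l hg (sactAdd (simIncl Q h).1)
        map_add' := map_add _
        map_smul' := fun e w => by
          rw [hsemi, hτ]
          rfl }
    have hfL : fL = ε • LinearMap.id := by
      apply b.ext
      intro i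
      show addQ (gLin gs.1) l hg (sactAdd (simIncl Q h).1) (b i) = ε • b i
      rw [hlam, hlamc i ⟨0, hpos⟩ rfl]
    intro w
    exact LinearMap.congr_fun hfL w
  have hact : ∀ v, act h.1 v = ε.re • v + ε.im • act gs.1 v := by
    intro v
    have h1 := congrArg (ofQ (gLin gs.1) l hg) (hfE (toQ (gLin gs.1) l hg v))
    rw [ofQ_addQ, ofQ_smul, ofQ_toQ, sactAdd_apply, hact0] at h1
    exact h1
  have hpol : ∀ a c : I → F, pol Q (act h.1 a) (act h.1 c) = (mu h : F) * pol Q a c := by
    intro a c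
    unfold pol QuadraticMap.polar
    rw [← act_add, mu_spec h, mu_spec h, mu_spec h]
    ring
  have hsim : ∀ u v : I → F, BF hQ (ε.re • u + ε.im • gLin gs.1 u)
      (ε.re • v + ε.im • gLin gs.1 v) = (mu h : F) * BF hQ u v := by
    intro u v
    rw [gLin_apply, gLin_apply, ← hact, ← hact, BF_apply, BF_apply, hpol]
  have hgs2 : DhO Q gs * DhO Q gs = 1 := by
    rw [← map_mul]
    have : gs * gs = ⟨scalarGL l hl0, scalarGL_mem_GO hQ l hl0⟩ := by
      apply Subtype.ext
      apply gl_ext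
      intro v
      show act (gs.1 * gs.1) v = _
      rw [act_mul, hgg, act_scalarGL]
    rw [this]
    exact DhO_scalarG hQ l hl0
  rcases scalar_sim_cases (gLin gs.1) l hg (BF hQ) hsa h2 ε (mu h : F) hsim (b ⟨0, hpos⟩)
    (hani _) with hre | him
  · -- a scalar multiple of `gs`
    have hact' : ∀ v, act h.1 v = ε.im • act gs.1 v := by
      intro v
      rw [hact, hre, zero_smul, zero_add]
    have him0 : ε.im ≠ 0 := by
      intro h0
      apply scalar_ne_zero_of_act h.1 0 _ rfl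
      intro v
      rw [hact', h0, zero_smul, zero_smul]
    have h1 : h.1 = scalarGL ε.im him0 * gs.1 := by
      apply gl_ext
      intro v
      rw [hact', act_mul, act_scalarGL]
    have h3 : h = (⟨scalarGL ε.im him0, scalarGL_mem_GO hQ ε.im him0⟩ :
        ↥(Cfsg.Geo.quadSimilarityGroup (F := F) Q)) * gs := Subtype.ext h1
    have h4 : DhO Q h = DhO Q gs := by
      rw [h3, map_mul, DhO_scalarG hQ, one_mul]
    rw [h4] at hyk ⊢
    rw [pow_odd_of_mul_self _ hgs2 k hk] at hyk
    exact hyk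
  · -- scalar
    have hact' : ∀ v, act h.1 v = ε.re • v := by
      intro v
      rw [hact, him, zero_smul, add_zero]
    have hre0 := scalar_ne_zero_of_act h.1 ε.re hact'
    have h1 := eq_scalarGL_of_act h.1 ε.re hre0 hact'
    have h3 : h = ⟨scalarGL ε.re hre0, scalarGL_mem_GO hQ ε.re hre0⟩ := Subtype.ext h1
    rw [h3]
    exact DhO_scalarG hQ ε.re hre0

end Cfsg.Agent.Lib.H7BalM
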