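import Cfsg.Agent.Lib.Helper7.BalM.SubG
import Mathlib

/-!
# Local balance for `PΩ⁻`: the field case, final statements (helper7)
-/

set_option autoImplicit false
set_option linter.unusedSectionVars false
set_option linter.style.haveILetI false

namespace Cfsg.Agent.Lib.H7BalM

open Matrix Cfsg Cfsg.Agent.Lib.H7AutPSp Cfsg.Agent.Lib.H7AutPO Cfsg.Agent.Lib.H7AutPM
  Cfsg.Agent.H9.Orth Cfsg.Agent.Lib.Helper5.OrthSN Cfsg.Agent.Lib.Helper5.OrthAut
  Cfsg.Agent.Lib.Helper8.AutSp Cfsg.Agent.Lib.Helper8.Bal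

universe u v

section generic

variable {ι : Type} [Fintype ι] [DecidableEq ι] {F : Type u} [Field F] [Fintype F]
  {F₀ : Type v} [Field F₀] [Fintype F₀]
  (j : F₀ →+* F) {Q₀ : (ι → F₀) → F₀} {Q : (ι → F) → F}
  (hQ₀ : Cfsg.Geo.IsNondegenerateQuadraticForm Q₀) (hQ : Cfsg.Geo.IsNondegenerateQuadraticForm Q)
  (hcomp : ∀ v₀ : ι → F₀, Q (vpush j v₀) = j (Q₀ v₀))
  (hmap : ∀ g₀ : GL ι F₀, g₀ ∈ Cfsg.isometryGroup F₀ Q₀ →
    Matrix.GeneralLinearGroup.map j g₀ ∈ Cfsg.isometryGroup F Q)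
  (σ : RingAut F) (hfixed : ∀ t : F₀, σ (j t) = j t)
  (xσ : ↥(GammaO Q)) (hxl : xσ.1.left = 1) (hxr : xσ.1.right = σ)

include hQ₀ hQ hmap hfixed hxl hxr in
/-- the fixed points of a standard field automorphism are nontrivial -/
theorem fixG_ne_bot_gen (hn : 7 ≤ Fintype.card ι) : fixG (PsO Q xσ) ≠ ⊥ := by
  have hsimple := simple_POmega hQ₀ hn
  obtain ⟨k₀, hk₀⟩ := exists_ne (1 : Cfsg.POmega F₀ Q₀)
  obtain ⟨s₀, rfl⟩ := prC_surjective k₀
  intro hbot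
  have hmem : jSub j hmap s₀ ∈ fixG (PsO Q xσ) := by
    rw [mem_fixG]
    exact jSub_fix j hmap σ hfixed xσ hxl hxr s₀
  rw [hbot, Subgroup.mem_bot, jSub_apply] at hmem
  have hc : omMap j hmap s₀ ∈ Subgroup.center ↥(Cfsg.Omega F Q) := by
    have h5 : (QuotientGroup.mk' _ (omMap j hmap s₀) :
        ↥(Cfsg.Omega F Q) ⧸ Subgroup.center ↥(Cfsg.Omega F Q)) = 1 := hmem
    rw [QuotientGroup.mk'_apply, QuotientGroup.eq_one_iff] at h5
    exact h5
  have hv := center_omega_val hQ hn _ hc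
  rw [omMap_val] at hv
  apply hk₀
  have key : ∃ c : F₀, ∀ v, act s₀.1.1 v = c • v := by
    rcases hv with hv | hv
    · refine ⟨1, fun v => ?_⟩
      apply vpush_injective j
      rw [← act_map_vpush, one_smul]
      show act (Matrix.GeneralLinearGroup.map j (s₀.1.1 : GL ι F₀)) (vpush j v) = vpush j v
      rw [hv, act_one]
    · refine ⟨-1, fun v => ?_⟩
      apply vpush_injective j
      rw [← act_map_vpush, neg_one_smul, vpush_neg]
      show act (Matrix.GeneralLinearGroup.map j (s₀.1.1 : GL ι F₀)) (vpush j v) = -vpush j v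
      rw [hv]
      show (-1 : GL ι F).val *ᵥ vpush j v = -vpush j v
      rw [Units.val_neg, Units.val_one, Matrix.neg_mulVec, Matrix.one_mulVec]
  obtain ⟨c, hc'⟩ := key
  exact prC_eq_one_of_scalar s₀ c hc'

end generic

section minus

variable {F : Type u} [Field F] [Fintype F] {m : ℕ} {a b : F}

/-- a field automorphism of `PΩ⁻` has odd order -/
theorem order_ne_two_of_class (hm : 3 ≤ m)
    (x : MulAut (Cfsg.POmega F (Cfsg.quadFormMinus m F a b)))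
    (hx : Cfsg.IsFieldAutClassPOmegaMinus m x) : orderOf x ≠ 2 := by
  intro h2
  obtain ⟨a', b', ψ, σ, hab', ha, hb, hσ1, hΦ⟩ := field_data_M x hx
  have hΦr : orderOf (PhiM (m := m) σ ha hb) = 2 := by
    rw [← hΦ, MulEquiv.orderOf_eq, h2]
  have hσr := orderOf_sigma_of_PhiM hm hab' σ ha hb hσ1 2 Nat.prime_two hΦr
  exact orderOf_ne_two_of_aniso hab' σ ha hb hσr

/-- **Main argument for `PΩ⁻`, arbitrary field automorphism.** -/
theorem core_trivial_class_M (hm : 3 ≤ m) {p : ℕ} [Fact p.Prime]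
    (x : MulAut (Cfsg.POmega F (Cfsg.quadFormMinus m F a b)))
    (hx : Cfsg.IsFieldAutClassPOmegaMinus m x) (hord : orderOf x = p)
    (W : Subgroup (MulAut (Cfsg.POmega F (Cfsg.quadFormMinus m F a b))))
    (hWcop : (Nat.card ↥W).Coprime p)
    (hWcent : ∀ w ∈ W, w * x = x * w)
    (hWnorm : ∀ k : Cfsg.POmega F (Cfsg.quadFormMinus m F a b), x k = k →
      ∀ w ∈ W, MulAut.conj k * w * (MulAut.conj k)⁻¹ ∈ W)
    (hdiv : p ∣ Nat.card ↥(fixG x)) : W = ⊥ := by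
  have hp : p.Prime := Fact.out
  have hp2 : p ≠ 2 := by
    rw [← hord]
    exact order_ne_two_of_class hm x hx
  obtain ⟨a', b', ψ, σ, hab', ha, hb, hσ1, hΦ⟩ := field_data_M x hx
  have hΦr : orderOf (PhiM (m := m) σ ha hb) = p := by
    rw [← hΦ, MulEquiv.orderOf_eq, hord]
  have hσr := orderOf_sigma_of_PhiM hm hab' σ ha hb hσ1 p hp hΦr
  have hσp : σ ^ p = 1 := by rw [← hσr]; exact pow_orderOf_eq_one σ
  refine core_trivial_transport_iso ψ x (PhiM σ ha hb) hΦ ?_ W hWcop hWcent hWnorm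
  intro W' h1 h3 h4
  apply core_trivial_field_M hm hab' σ ha hb hp2 hσp W' h1 h3 h4
  rw [← hΦ, card_fixG_congr]
  exact hdiv

/-- the fixed points of a field automorphism of `PΩ⁻` are nontrivial -/
theorem fixG_ne_bot_of_class_M (hm : 3 ≤ m)
    (x : MulAut (Cfsg.POmega F (Cfsg.quadFormMinus m F a b)))
    (hx : Cfsg.IsFieldAutClassPOmegaMinus m x) : fixG x ≠ ⊥ := by
  classical
  obtain ⟨a', b', ψ, σ, hab', ha, hb, hσ1, hΦ⟩ := field_data_M x hx
  haveI : Fintype ↥(fixSub σ) := Fintype.ofFinite _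
  obtain ⟨a₀, ha₀⟩ : ∃ a₀ : ↥(fixSub σ), fixι σ a₀ = a' := ⟨⟨a', ha⟩, rfl⟩
  obtain ⟨b₀, hb₀⟩ : ∃ b₀ : ↥(fixSub σ), fixι σ b₀ = b' := ⟨⟨b', hb⟩, rfl⟩
  subst ha₀ hb₀
  have hab₀ := aniso_of_push (fixι σ) a₀ b₀ hab'
  have h1 : fixG (PhiM (m := m) σ ha hb) ≠ ⊥ :=
    fixG_ne_bot_gen (fixι σ) (hQM a₀ b₀ hab₀) (hQM _ _ hab') (map_mem_iso (fixι σ) a₀ b₀) σ
      (fixι_fixed σ) (stdG σ ha hb) rfl rfl (hnM hm)
  intro hbot
  apply h1
  rw [← Subgroup.card_eq_one, ← hΦ, card_fixG_congr, hbot, Subgroup.card_bot]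

end minus

end Cfsg.Agent.Lib.H7BalM
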