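import Cfsg.Agent.Lib.Helper7.BalM.InvJ
import Cfsg.Agent.Lib.Helper7.BalM.SubH
import Cfsg.Agent.Lib.Helper7.AutPM.GrI

/-!
# Local balance for `PΩ⁻`: automorphisms of order two outside `Inndiag`, odd characteristic
(helper7)

A subgroup of odd order of `Aut(PΩ⁻)` centralising such an involution `x` and normalised by the
inner automorphisms of the fixed points of `x` is trivial.
-/

set_option autoImplicit false
set_option linter.unusedSectionVars false
set_option linter.style.haveILetI false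

namespace Cfsg.Agent.Lib.H7BalM

open Matrix Cfsg Cfsg.Agent.Lib.H7AutPSp Cfsg.Agent.Lib.H7AutPO Cfsg.Agent.Lib.H7AutPSL
  Cfsg.Agent.Lib.Helper5.OrthAut Cfsg.Agent.H9.Orth Cfsg.Agent.Lib.Helper5.OrthSN
  Cfsg.Agent.Lib.Helper5.OrthPar Cfsg.Agent.Lib.Helper5.OrthCls Cfsg.Agent.Lib.Helper5.OrthPM
  Cfsg.Agent.Lib.H7AutPM Cfsg.Agent.Lib.Helper8.AutSp Module

universe u v

variable {F : Type u} [Field F] [Fintype F] {m : ℕ} {a b : F}

set_option maxHeartbeats 800000 in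
/-- **involutions outside `Inndiag`, odd characteristic**: the odd core is trivial -/
theorem core_trivial_graph_M (hm : 3 ≤ m) (hodd : Odd (Fintype.card F))
    (hab : ∀ z₁ z₂ : F, z₁ ^ 2 + a * z₁ * z₂ + b * z₂ ^ 2 = 0 → z₁ = 0 ∧ z₂ = 0)
    (x : MulAut (Cfsg.POmega F (Cfsg.quadFormMinus m F a b))) (hord : orderOf x = 2)
    (hnot : ¬ Cfsg.IsInnerDiagonalAutPOmegaMinus m a b x)
    (W : Subgroup (MulAut (Cfsg.POmega F (Cfsg.quadFormMinus m F a b))))
    (hWcop : (Nat.card ↥W).Coprime 2)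
    (hWcent : ∀ w ∈ W, w * x = x * w)
    (hWnorm : ∀ k : Cfsg.POmega F (Cfsg.quadFormMinus m F a b), x k = k →
      ∀ w ∈ W, MulAut.conj k * w * (MulAut.conj k)⁻¹ ∈ W) : W = ⊥ := by
  classical
  haveI : Nonempty ((Fin m ⊕ Fin m) ⊕ Fin 2) := ⟨Sum.inr 0⟩
  have h2 := two_ne_zero_of_odd_card hodd
  have hQ := hQM (m := m) a b hab
  have hcard := card_minus m
  have hn7 : 7 ≤ Fintype.card ((Fin m ⊕ Fin m) ⊕ Fin 2) := by rw [hcard]; omega
  have hn8 : 8 ≤ Fintype.card ((Fin m ⊕ Fin m) ⊕ Fin 2) := by rw [hcard]; omega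
  have hev : Even (Fintype.card ((Fin m ⊕ Fin m) ⊕ Fin 2)) := by rw [hcard]; exact even_two_mul _
  have hfin : Fintype.card F ≠ 2 ∨ Fintype.card ((Fin m ⊕ Fin m) ⊕ Fin 2) ≠ 4 :=
    Or.inl (card_ne_two_of_odd_card hodd)
  have hZ : Subgroup.center (Cfsg.POmega F (Cfsg.quadFormMinus m F a b)) = ⊥ :=
    center_pomega hQ hn7
  have hxx : x * x = 1 := by
    have h3 := pow_orderOf_eq_one x
    rw [hord, pow_two] at h3
    exact h3
  have hsurj := PsO_surjective (Cfsg.quadFormMinus m F a b)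
    (fun β => Cfsg.Agent.AutPM.FacM_core hm a b hab β)
  obtain ⟨y₀, rfl⟩ := hsurj x
  have hright : y₀.1.right = 1 :=
    right_eq_one_of_PsO_sq hQ hn7 h2 (m + 1) hcard
      (gram_minus_det_not_isSquare m a b h2 hab) y₀ hxx
  have hyker : y₀ ∈ (rightO (Cfsg.quadFormMinus m F a b)).ker := by
    rw [MonoidHom.mem_ker, rightO_apply]
    exact hright
  rw [rightO_ker] at hyker
  obtain ⟨gs, rfl⟩ := hyker
  rw [PsO_simIncl] at hxx hnot hWcent hWnorm
  have hD : DhO (Cfsg.quadFormMinus m F a b) gs ∉ Cfsg.inndiagPOmegaMinus m F a b :=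
    fun h => hnot (mem_inndiag_imp_pred hm hab _ h)
  rw [inndiagMinus_eq m a b hodd hab] at hD
  have hdet : ((gs : GL ((Fin m ⊕ Fin m) ⊕ Fin 2) F) :
      Matrix ((Fin m ⊕ Fin m) ⊕ Fin 2) ((Fin m ⊕ Fin m) ⊕ Fin 2) F).det ≠
      (mu gs : F) ^ (m + 1) := by
    intro h
    exact hD ((DhO_mem_inndiagGen_iff hQ hn7 h2 (m + 1) hcard gs).2 h)
  have hkodd : Odd (Nat.card ↥W) := Nat.coprime_two_right.1 hWcop
  rw [Subgroup.eq_bot_iff_forall]
  intro w hw
  obtain ⟨yw, rfl⟩ := hsurj w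
  have hwk : (PsO (Cfsg.quadFormMinus m F a b) yw) ^ (Nat.card ↥W) = 1 := by
    have h3 := pow_card_eq_one' (G := ↥W) (x := ⟨_, hw⟩)
    exact congrArg Subtype.val h3
  rcases invol_data_gen hQ hn7 h2 (m + 1) hcard gs hxx hdet with
    ⟨c, hc0, s, hs, hgs, hss, hsdet⟩ | ⟨l, hl, hgg, hmu, hodd'⟩
  · -- type (i)
    have hx_eq : DhO (Cfsg.quadFormMinus m F a b) gs =
        DhO (Cfsg.quadFormMinus m F a b) ⟨s, iso_le_sim _ hs⟩ := by
      have h3 : gs = (⟨scalarGL c hc0, scalarGL_mem_GO hQ c hc0⟩ :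
          ↥(Cfsg.Geo.quadSimilarityGroup (F := F) (Cfsg.quadFormMinus m F a b))) *
          ⟨s, iso_le_sim _ hs⟩ := Subtype.ext hgs
      rw [h3, map_mul, DhO_scalarG hQ, one_mul]
    rw [hx_eq] at hWcent hWnorm
    have hcore := core_trivial_i hQ hn7 h2 hZ hev s hs hss hsdet
    have hfix := fix_of_core_trivial hZ _ hcore W hWcop hWcent hWnorm
    exact rigid_i hQ hn8 h2 hfin hev s hs hss hsdet yw _ hkodd hwk
      (fun κ hκ => hfix _ hw κ hκ)
  · -- type (ii)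
    have hn10 : 10 ≤ Fintype.card ((Fin m ⊕ Fin m) ⊕ Fin 2) := by
      rw [hcard]
      obtain ⟨j, hj⟩ := hodd'
      omega
    have hcore := core_trivial_ii hQ hn8 h2 hZ gs l hl hgg hmu
    have hfix := fix_of_core_trivial hZ _ hcore W hWcop hWcent hWnorm
    exact rigid_ii hQ hn10 h2 gs l hl hgg hmu yw _ hkodd hwk (hWcent _ hw)
      (fun κ hκ => hfix _ hw κ hκ)

end Cfsg.Agent.Lib.H7BalM
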