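import Cfsg.Agent.Lib.Helper7.BalM.AbsB

/-!
# A vector space with `g² = c` as a vector space over `F[√c]` (helper7)

Pure Mathlib.  `V` an `F`-vector space, `g` an endomorphism with `g² = c`.  `VQ g c hg` is `V`
viewed as a module over `QuadraticAlgebra F c 0` through `ω ↦ g`.  A symmetric bilinear form `B`
for which `g` is self-adjoint gives the `F[√c]`-bilinear form `BE u v = B (g u) v + B u v ω`.
-/

set_option autoImplicit false
set_option linter.unusedSectionVars false

namespace Cfsg.Agent.Lib.H7BalM

open Module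

variable {F : Type*} [Field F] {V : Type*} [AddCommGroup V] [Module F V]

/-- `V` as a module over `F[√c]` -/
def VQ (g : V →ₗ[F] V) (c : F) (_hg : ∀ v, g (g v) = c • v) : Type _ := V

variable (g : V →ₗ[F] V) (c : F) (hg : ∀ v, g (g v) = c • v)

instance : AddCommGroup (VQ g c hg) := inferInstanceAs (AddCommGroup V)

instance : Module F (VQ g c hg) := inferInstanceAs (Module F V)

/-- the identity map `V → VQ` -/
def toQ (v : V) : VQ g c hg := v

/-- the identity map `VQ → V` -/
def ofQ (v : VQ g c hg) : V := v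

@[simp] theorem ofQ_toQ (v : V) : ofQ g c hg (toQ g c hg v) = v := rfl

@[simp] theorem toQ_ofQ (v : VQ g c hg) : toQ g c hg (ofQ g c hg v) = v := rfl

theorem ofQ_add (u v : VQ g c hg) : ofQ g c hg (u + v) = ofQ g c hg u + ofQ g c hg v := rfl

theorem toQ_add (u v : V) : toQ g c hg (u + v) = toQ g c hg u + toQ g c hg v := rfl

theorem ofQ_smulF (a : F) (v : VQ g c hg) : ofQ g c hg (a • v) = a • ofQ g c hg v := rfl

theorem ofQ_zero : ofQ g c hg 0 = 0 := rfl

theorem ofQ_neg (v : VQ g c hg) : ofQ g c hg (-v) = -ofQ g c hg v := rfl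

theorem ofQ_sub (u v : VQ g c hg) : ofQ g c hg (u - v) = ofQ g c hg u - ofQ g c hg v := rfl

theorem ofQ_injective : Function.Injective (ofQ g c hg) := fun _ _ h => h

instance : SMul (QuadraticAlgebra F c 0) (VQ g c hg) where
  smul e v := toQ g c hg (e.re • ofQ g c hg v + e.im • g (ofQ g c hg v))

theorem ofQ_smul (e : QuadraticAlgebra F c 0) (v : VQ g c hg) :
    ofQ g c hg (e • v) = e.re • ofQ g c hg v + e.im • g (ofQ g c hg v) := rfl

instance : Module (QuadraticAlgebra F c 0) (VQ g c hg) where
  one_smul v := by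
    apply ofQ_injective g c hg
    rw [ofQ_smul, QuadraticAlgebra.re_one, QuadraticAlgebra.im_one, one_smul, zero_smul, add_zero]
  mul_smul e e' v := by
    apply ofQ_injective g c hg
    rw [ofQ_smul, ofQ_smul, ofQ_smul]
    simp only [QuadraticAlgebra.re_mul, QuadraticAlgebra.im_mul, map_add, map_smul, hg]
    module
  smul_zero e := by
    apply ofQ_injective g c hg
    rw [ofQ_smul, ofQ_zero, map_zero, smul_zero, smul_zero, add_zero]
  smul_add e u v := by
    apply ofQ_injective g c hg
    rw [ofQ_smul, ofQ_add, ofQ_add, ofQ_smul, ofQ_smul, map_add]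
    module
  add_smul e e' v := by
    apply ofQ_injective g c hg
    rw [ofQ_smul, ofQ_add, ofQ_smul, ofQ_smul]
    simp only [QuadraticAlgebra.re_add, QuadraticAlgebra.im_add]
    module
  zero_smul v := by
    apply ofQ_injective g c hg
    rw [ofQ_smul, QuadraticAlgebra.re_zero, QuadraticAlgebra.im_zero, zero_smul, zero_smul,
      add_zero, ofQ_zero]

instance : IsScalarTower F (QuadraticAlgebra F c 0) (VQ g c hg) where
  smul_assoc a e v := by
    apply ofQ_injective g c hg
    rw [ofQ_smul, ofQ_smulF, ofQ_smul]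
    simp only [QuadraticAlgebra.re_smul, QuadraticAlgebra.im_smul, smul_eq_mul]
    module

theorem ofQ_algebraMap_smul (a : F) (v : VQ g c hg) :
    ofQ g c hg (algebraMap F (QuadraticAlgebra F c 0) a • v) = a • ofQ g c hg v := by
  rw [ofQ_smul, QuadraticAlgebra.algebraMap_eq]
  show a • ofQ g c hg v + (0 : F) • g (ofQ g c hg v) = a • ofQ g c hg v
  rw [zero_smul, add_zero]

theorem ofQ_omega_smul (v : VQ g c hg) :
    ofQ g c hg ((QuadraticAlgebra.omega : QuadraticAlgebra F c 0) • v) = g (ofQ g c hg v) := by
  rw [ofQ_smul, QuadraticAlgebra.omega_re, QuadraticAlgebra.omega_im, zero_smul, one_smul,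
    zero_add]


section form

variable (B : LinearMap.BilinForm F V) (hsa : ∀ u v, B (g u) v = B u (g v))

/-- the `F[√c]`-bilinear form `B (g u) v + B u v ω` -/
def BE : LinearMap.BilinForm (QuadraticAlgebra F c 0) (VQ g c hg) :=
  LinearMap.mk₂ (QuadraticAlgebra F c 0)
    (fun u v => (⟨B (g (ofQ g c hg u)) (ofQ g c hg v), B (ofQ g c hg u) (ofQ g c hg v)⟩ :
      QuadraticAlgebra F c 0))
    (by
      intro u u' v
      ext
      · simp only [ofQ_add, map_add, LinearMap.add_apply, QuadraticAlgebra.re_add]
      · simp only [ofQ_add, map_add, LinearMap.add_apply, QuadraticAlgebra.im_add])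
    (by
      intro e u v
      ext
      · simp only [ofQ_smul, map_add, map_smul, LinearMap.add_apply, LinearMap.smul_apply, hg,
          smul_eq_mul, QuadraticAlgebra.re_mul]
        ring
      · simp only [ofQ_smul, map_add, map_smul, LinearMap.add_apply, LinearMap.smul_apply,
          smul_eq_mul, QuadraticAlgebra.im_mul]
        ring)
    (by
      intro u v v'
      ext
      · simp only [ofQ_add, map_add, QuadraticAlgebra.re_add]
      · simp only [ofQ_add, map_add, QuadraticAlgebra.im_add])
    (by
      intro e u v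
      ext
      · simp only [ofQ_smul, map_add, map_smul, smul_eq_mul, QuadraticAlgebra.re_mul]
        rw [hsa (ofQ g c hg u) (g (ofQ g c hg v)), hg, map_smul, smul_eq_mul]
        ring
      · simp only [ofQ_smul, map_add, map_smul, smul_eq_mul, QuadraticAlgebra.im_mul]
        rw [← hsa]
        ring)

theorem BE_re (u v : VQ g c hg) :
    (BE g c hg B hsa u v).re = B (g (ofQ g c hg u)) (ofQ g c hg v) := rfl

theorem BE_im (u v : VQ g c hg) :
    (BE g c hg B hsa u v).im = B (ofQ g c hg u) (ofQ g c hg v) := rfl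

theorem BE_isSymm (hs : B.IsSymm) : (BE g c hg B hsa).IsSymm := by
  constructor
  intro u v
  ext
  · rw [BE_re, BE_re, hsa, hs.eq]
  · rw [BE_im, BE_im, hs.eq]

end form

end Cfsg.Agent.Lib.H7BalM
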