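import Cfsg.Agent.Lib.Helper7.BalM.QExtA

/-!
# `F[√c]`-linear maps are the `F`-linear maps commuting with `g` (helper7)

Pure Mathlib.
-/

set_option autoImplicit false
set_option linter.unusedSectionVars false

namespace Cfsg.Agent.Lib.H7BalM

open Module

variable {F : Type*} [Field F] {V : Type*} [AddCommGroup V] [Module F V]
  (g : V →ₗ[F] V) (c : F) (hg : ∀ v, g (g v) = c • v)

/-- an `F`-linear automorphism commuting with `g`, as an `F[√c]`-linear automorphism -/
def liftE (h : V ≃ₗ[F] V) (hc : ∀ v, h (g v) = g (h v)) :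
    VQ g c hg ≃ₗ[QuadraticAlgebra F c 0] VQ g c hg where
  toFun v := toQ g c hg (h (ofQ g c hg v))
  invFun v := toQ g c hg (h.symm (ofQ g c hg v))
  map_add' u v := by
    apply ofQ_injective g c hg
    show h (ofQ g c hg u + ofQ g c hg v) = h (ofQ g c hg u) + h (ofQ g c hg v)
    rw [map_add]
  map_smul' e v := by
    apply ofQ_injective g c hg
    show h (e.re • ofQ g c hg v + e.im • g (ofQ g c hg v)) =
      e.re • h (ofQ g c hg v) + e.im • g (h (ofQ g c hg v))
    rw [map_add, map_smul, map_smul, hc]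
  left_inv v := by
    apply ofQ_injective g c hg
    show h.symm (h (ofQ g c hg v)) = ofQ g c hg v
    rw [LinearEquiv.symm_apply_apply]
  right_inv v := by
    apply ofQ_injective g c hg
    show h (h.symm (ofQ g c hg v)) = ofQ g c hg v
    rw [LinearEquiv.apply_symm_apply]

theorem ofQ_liftE (h : V ≃ₗ[F] V) (hc : ∀ v, h (g v) = g (h v)) (v : VQ g c hg) :
    ofQ g c hg (liftE g c hg h hc v) = h (ofQ g c hg v) := rfl

/-- restriction of scalars to `F` -/
def resF : (VQ g c hg ≃ₗ[QuadraticAlgebra F c 0] VQ g c hg) →* (V ≃ₗ[F] V) where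
  toFun e :=
    { toFun := fun v => ofQ g c hg (e (toQ g c hg v))
      invFun := fun v => ofQ g c hg (e.symm (toQ g c hg v))
      map_add' := fun u v => by
        rw [toQ_add, map_add, ofQ_add]
      map_smul' := fun a v => by
        have h1 : toQ g c hg (a • v) =
            algebraMap F (QuadraticAlgebra F c 0) a • toQ g c hg v := by
          apply ofQ_injective g c hg
          rw [ofQ_algebraMap_smul]
          rfl
        rw [h1, map_smul, ofQ_algebraMap_smul]
        rfl
      left_inv := fun v => by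
        show ofQ g c hg (e.symm (e (toQ g c hg v))) = v
        rw [LinearEquiv.symm_apply_apply]
        rfl
      right_inv := fun v => by
        show ofQ g c hg (e (e.symm (toQ g c hg v))) = v
        rw [LinearEquiv.apply_symm_apply]
        rfl }
  map_one' := by
    ext v
    rfl
  map_mul' e e' := by
    ext v
    rfl

theorem resF_apply (e : VQ g c hg ≃ₗ[QuadraticAlgebra F c 0] VQ g c hg) (v : V) :
    resF g c hg e v = ofQ g c hg (e (toQ g c hg v)) := rfl

theorem resF_comm (e : VQ g c hg ≃ₗ[QuadraticAlgebra F c 0] VQ g c hg) (v : V) :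
    resF g c hg e (g v) = g (resF g c hg e v) := by
  rw [resF_apply, resF_apply]
  have h1 : toQ g c hg (g v) =
      (QuadraticAlgebra.omega : QuadraticAlgebra F c 0) • toQ g c hg v := by
    apply ofQ_injective g c hg
    rw [ofQ_omega_smul]
    rfl
  rw [h1, map_smul, ofQ_omega_smul]

theorem resF_liftE (h : V ≃ₗ[F] V) (hc : ∀ v, h (g v) = g (h v)) :
    resF g c hg (liftE g c hg h hc) = h := by
  ext v
  rfl

theorem resF_injective : Function.Injective (resF g c hg) := by
  intro e e' h
  ext v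
  have := congrArg (fun f : V ≃ₗ[F] V => f (ofQ g c hg v)) h
  exact this

theorem liftE_resF (e : VQ g c hg ≃ₗ[QuadraticAlgebra F c 0] VQ g c hg) :
    liftE g c hg (resF g c hg e) (resF_comm g c hg e) = e := by
  apply resF_injective g c hg
  rw [resF_liftE]

section form

variable (B : LinearMap.BilinForm F V) (hsa : ∀ u v, B (g u) v = B u (g v))
  [Fact (∀ r : F, r ^ 2 ≠ c + 0 * r)]

theorem resF_mem_isoB (e : VQ g c hg ≃ₗ[QuadraticAlgebra F c 0] VQ g c hg)
    (he : e ∈ isoB (BE g c hg B hsa)) : resF g c hg e ∈ isoB B := by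
  intro u v
  have h1 := congrArg QuadraticAlgebra.im (he (toQ g c hg u) (toQ g c hg v))
  rw [BE_im, BE_im] at h1
  exact h1

theorem liftE_mem_isoB (h : V ≃ₗ[F] V) (hc : ∀ v, h (g v) = g (h v)) (hh : h ∈ isoB B) :
    liftE g c hg h hc ∈ isoB (BE g c hg B hsa) := by
  intro u v
  ext
  · rw [BE_re, BE_re, ofQ_liftE, ofQ_liftE, ← hc, hh]
  · rw [BE_im, BE_im, ofQ_liftE, ofQ_liftE, hh]

theorem mem_isoB_BE_iff (e : VQ g c hg ≃ₗ[QuadraticAlgebra F c 0] VQ g c hg) :
    e ∈ isoB (BE g c hg B hsa) ↔ resF g c hg e ∈ isoB B := by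
  constructor
  · exact resF_mem_isoB g c hg B hsa e
  · intro h
    have := liftE_mem_isoB g c hg B hsa (resF g c hg e) (resF_comm g c hg e) h
    rwa [liftE_resF] at this

/-- nondegeneracy passes to `BE` -/
theorem BE_separating (hB : ∀ u, (∀ v, B u v = 0) → u = 0) (u : VQ g c hg)
    (hu : ∀ v, BE g c hg B hsa u v = 0) : u = 0 := by
  apply ofQ_injective g c hg
  rw [ofQ_zero]
  apply hB
  intro v
  have := congrArg QuadraticAlgebra.im (hu (toQ g c hg v))
  rw [BE_im] at this
  exact this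

/-- an `F[√c]`-scalar isometry is `± 1` -/
theorem scalar_isoB_pm (e : VQ g c hg ≃ₗ[QuadraticAlgebra F c 0] VQ g c hg)
    (he : e ∈ isoB (BE g c hg B hsa)) (ε : QuadraticAlgebra F c 0) (hε : ∀ w, e w = ε • w)
    (u₀ : VQ g c hg) (hu₀ : BE g c hg B hsa u₀ u₀ ≠ 0) : ε = 1 ∨ ε = -1 := by
  have h1 := he u₀ u₀
  rw [hε] at h1
  simp only [map_smul, LinearMap.smul_apply, smul_eq_mul] at h1
  have h3 : (ε - 1) * (ε + 1) * BE g c hg B hsa u₀ u₀ = 0 := by linear_combination h1
  rcases mul_eq_zero.1 h3 with h4 | h4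
  · rcases mul_eq_zero.1 h4 with h5 | h5
    · exact Or.inl (sub_eq_zero.1 h5)
    · exact Or.inr (eq_neg_of_add_eq_zero_left h5)
  · exact absurd h4 hu₀

/-- an `F[√c]`-scalar which is a similarity of `B` lies in `F` or in `F ω` -/
theorem scalar_sim_cases (h2 : (2 : F) ≠ 0) (ε : QuadraticAlgebra F c 0) (μ : F)
    (hsim : ∀ u v : V, B (ε.re • u + ε.im • g u) (ε.re • v + ε.im • g v) = μ * B u v)
    (u₀ : VQ g c hg) (hu₀ : BE g c hg B hsa u₀ u₀ ≠ 0) : ε.re = 0 ∨ ε.im = 0 := by
  have h1 : BE g c hg B hsa (ε • u₀) (ε • u₀) =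
      algebraMap F (QuadraticAlgebra F c 0) μ * BE g c hg B hsa u₀ u₀ := by
    ext
    · rw [BE_re, ofQ_smul]
      have h0 : g (ε.re • ofQ g c hg u₀ + ε.im • g (ofQ g c hg u₀)) =
          ε.re • g (ofQ g c hg u₀) + ε.im • g (g (ofQ g c hg u₀)) := by
        rw [map_add, map_smul, map_smul]
      rw [h0, hsim (g (ofQ g c hg u₀)) (ofQ g c hg u₀)]
      rw [QuadraticAlgebra.algebraMap_eq, QuadraticAlgebra.re_mul, BE_re, BE_im]
      ring
    · rw [BE_im, ofQ_smul, hsim]
      rw [QuadraticAlgebra.algebraMap_eq, QuadraticAlgebra.im_mul, BE_re, BE_im]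
      ring
  simp only [map_smul, LinearMap.smul_apply, smul_eq_mul] at h1
  have h3 : (ε * ε - algebraMap F (QuadraticAlgebra F c 0) μ) * BE g c hg B hsa u₀ u₀ = 0 := by
    linear_combination h1
  rcases mul_eq_zero.1 h3 with h4 | h4
  · have h5 := congrArg QuadraticAlgebra.im (sub_eq_zero.1 h4)
    rw [QuadraticAlgebra.im_mul, QuadraticAlgebra.algebraMap_eq] at h5
    have h6 : (2 : F) * (ε.re * ε.im) = 0 := by
      simp only at h5
      linear_combination h5
    rcases mul_eq_zero.1 h6 with h7 | h7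
    · exact absurd h7 h2
    · exact mul_eq_zero.1 h7
  · exact absurd h4 hu₀

end form

section dim

variable [Fact (∀ r : F, r ^ 2 ≠ c + 0 * r)] [FiniteDimensional F V]

instance : Module.Finite F (VQ g c hg) := inferInstanceAs (Module.Finite F V)

instance : FiniteDimensional (QuadraticAlgebra F c 0) (VQ g c hg) :=
  Module.Finite.of_restrictScalars_finite F (QuadraticAlgebra F c 0) (VQ g c hg)

theorem finrank_VQ :
    2 * Module.finrank (QuadraticAlgebra F c 0) (VQ g c hg) = Module.finrank F V := by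
  have h1 := Module.finrank_mul_finrank F (QuadraticAlgebra F c 0) (VQ g c hg)
  rw [QuadraticAlgebra.finrank_eq_two] at h1
  exact h1

end dim

end Cfsg.Agent.Lib.H7BalM
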