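import Cfsg.Agent.Lib.Helper7.AutPM.BaseM
import Cfsg.Agent.Lib.Helper5.Orth.OmegaCenter
import Mathlib

/-!
# Base change of orthogonal groups along a subfield (helper7)

For a ring homomorphism `j : F₀ →+* F` and forms `Q₀`, `Q` with `Q (j v) = j (Q₀ v)`: the polar
forms, the action, the long root elements, the induced map `Ω(Q₀) → Ω(Q) → PΩ(Q)`.
-/

set_option autoImplicit false
set_option linter.unusedSectionVars false
set_option linter.style.haveILetI false

namespace Cfsg.Agent.Lib.H7BalM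

open Matrix Cfsg Cfsg.Agent.Lib.H7AutPSp Cfsg.Agent.Lib.H7AutPO Cfsg.Agent.Lib.H7AutPM
  Cfsg.Agent.H9.Orth Cfsg.Agent.Lib.Helper5.OrthSN

universe u v

section generic

variable {ι : Type} [Fintype ι] [DecidableEq ι] {F : Type u} [Field F] {F₀ : Type v} [Field F₀]
  (j : F₀ →+* F) {Q₀ : (ι → F₀) → F₀} {Q : (ι → F) → F}
  (hQ₀ : Cfsg.Geo.IsNondegenerateQuadraticForm Q₀) (hQ : Cfsg.Geo.IsNondegenerateQuadraticForm Q)
  (hcomp : ∀ v₀ : ι → F₀, Q (vpush j v₀) = j (Q₀ v₀))

theorem vpush_sub (x y : ι → F₀) : vpush j (x - y) = vpush j x - vpush j y := by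
  ext i
  simp [vpush]

theorem vpush_neg (x : ι → F₀) : vpush j (-x) = -vpush j x := by
  ext i
  simp [vpush]

theorem vpush_injective : Function.Injective (vpush j : (ι → F₀) → (ι → F)) := by
  intro x y h
  ext i
  have := congrFun h i
  rw [vpush_apply, vpush_apply] at this
  exact j.injective this

include hcomp in
theorem pol_vpush (u v : ι → F₀) : pol Q (vpush j u) (vpush j v) = j (pol Q₀ u v) := by
  unfold pol QuadraticMap.polar
  rw [← vpush_add, hcomp, hcomp, hcomp, map_sub, map_sub]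

theorem act_map_vpush (g : GL ι F₀) (v : ι → F₀) :
    act (Matrix.GeneralLinearGroup.map j g) (vpush j v) = vpush j (act g v) := by
  show (g.val.map j) *ᵥ vpush j v = vpush j (g.val *ᵥ v)
  rw [vpush_mulVec]

theorem gl_ext_single (g h : GL ι F)
    (H : ∀ k, act g (Pi.single k 1) = act h (Pi.single k 1)) : g = h := by
  apply gl_ext
  intro x
  have hx : x = ∑ k, x k • (Pi.single k (1 : F) : ι → F) := by
    ext i
    simp [Finset.sum_apply, Pi.single_apply]
  rw [hx]
  show g.val *ᵥ _ = h.val *ᵥ _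
  rw [Matrix.mulVec_sum, Matrix.mulVec_sum]
  apply Finset.sum_congr rfl
  intro k _
  rw [Matrix.mulVec_smul, Matrix.mulVec_smul]
  congr 1
  exact H k

include hcomp in
theorem map_sg (u w : ι → F₀) (hu : Q₀ u = 0) (huw : pol Q₀ u w = 0) :
    Matrix.GeneralLinearGroup.map j (sg hQ₀ u w) = sg hQ (vpush j u) (vpush j w) := by
  have hu' : Q (vpush j u) = 0 := by rw [hcomp, hu, map_zero]
  have huw' : pol Q (vpush j u) (vpush j w) = 0 := by rw [pol_vpush j hcomp, huw, map_zero]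
  apply gl_ext_single
  intro k
  rw [← vpush_single j k, act_map_vpush, act_sg hQ₀ u w hu huw, act_sg hQ _ _ hu' huw',
    pol_vpush j hcomp, pol_vpush j hcomp, hcomp, vpush_sub, vpush_add, vpush_smul, vpush_smul,
    map_sub, map_mul]

/-! ### the maps of groups -/

variable (hmap : ∀ g₀ : GL ι F₀, g₀ ∈ Cfsg.isometryGroup F₀ Q₀ →
  Matrix.GeneralLinearGroup.map j g₀ ∈ Cfsg.isometryGroup F Q)

/-- base change of isometries -/
def isoMap : ↥(Cfsg.isometryGroup F₀ Q₀) →* ↥(Cfsg.isometryGroup F Q) :=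
  ((Matrix.GeneralLinearGroup.map j).comp (Cfsg.isometryGroup F₀ Q₀).subtype).codRestrict _
    (fun g => hmap g.1 g.2)

theorem isoMap_val (g : ↥(Cfsg.isometryGroup F₀ Q₀)) :
    (isoMap j hmap g).1 = Matrix.GeneralLinearGroup.map j g.1 := rfl

/-- base change on `Ω` -/
def omMap : ↥(Cfsg.Omega F₀ Q₀) →* ↥(Cfsg.Omega F Q) :=
  ((isoMap j hmap).comp (Cfsg.Omega F₀ Q₀).subtype).codRestrict _
    (fun s => hom_mem_commutator (isoMap j hmap) s.2)

theorem omMap_val (s : ↥(Cfsg.Omega F₀ Q₀)) :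
    (omMap j hmap s).1.1 = Matrix.GeneralLinearGroup.map j s.1.1 := rfl

/-- the subfield subgroup `Ω(Q₀) → PΩ(Q)` -/
noncomputable def jSub : ↥(Cfsg.Omega F₀ Q₀) →* Cfsg.POmega F Q := prC.comp (omMap j hmap)

theorem jSub_apply (s : ↥(Cfsg.Omega F₀ Q₀)) : jSub j hmap s = prC (omMap j hmap s) := rfl

end generic

end Cfsg.Agent.Lib.H7BalM
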