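import Cfsg.Agent.Lib.Helper7.BalM.SubA
import Cfsg.Agent.Lib.Helper7.AutPM.KerPs
import Mathlib

/-!
# Rigidity of the subfield subgroup (helper7)

A semisimilarity of `Q` whose automorphism of `PΩ(Q)` fixes the image of `Ω(Q₀)` pointwise is a
scalar times a field automorphism fixing the subfield.
-/

set_option autoImplicit false
set_option linter.unusedSectionVars false
set_option linter.style.haveILetI false

namespace Cfsg.Agent.Lib.H7BalM

open Matrix Cfsg Cfsg.Agent.Lib.H7AutPSp Cfsg.Agent.Lib.H7AutPO Cfsg.Agent.Lib.H7AutPM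
  Cfsg.Agent.H9.Orth Cfsg.Agent.Lib.Helper5.OrthSN

universe u v

section generic

variable {ι : Type} [Fintype ι] [DecidableEq ι] {F : Type u} [Field F] {F₀ : Type v} [Field F₀]
  (j : F₀ →+* F) {Q₀ : (ι → F₀) → F₀} {Q : (ι → F) → F}
  (hQ₀ : Cfsg.Geo.IsNondegenerateQuadraticForm Q₀) (hQ : Cfsg.Geo.IsNondegenerateQuadraticForm Q)
  (hcomp : ∀ v₀ : ι → F₀, Q (vpush j v₀) = j (Q₀ v₀))

theorem act_eq_smul_of_single (n : GL ι F) (l : F)
    (H : ∀ k, act n (Pi.single k 1) = l • (Pi.single k (1 : F) : ι → F)) (x : ι → F) :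
    act n x = l • x := by
  have hx : x = ∑ k, x k • (Pi.single k (1 : F) : ι → F) := by
    ext i
    simp [Finset.sum_apply, Pi.single_apply]
  rw [hx]
  show n.val *ᵥ _ = _
  rw [Matrix.mulVec_sum, Finset.smul_sum]
  apply Finset.sum_congr rfl
  intro k _
  rw [Matrix.mulVec_smul, smul_comm]
  congr 1
  exact H k

variable [Fintype F₀]

include hQ₀ hcomp in
/-- an additive map commuting with the rational long root elements fixes every rational singular
line -/
theorem add_singular_of_comm_rat (hn : 5 ≤ Fintype.card ι) (T : (ι → F) → (ι → F))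
    (hadd : ∀ a b, T (a + b) = T a + T b)
    (hT : ∀ u w : ι → F₀, Q₀ u = 0 → Q₀ w = 0 → pol Q₀ u w = 0 →
      ∀ v, T (act (sg hQ (vpush j u) (vpush j w)) v) =
        act (sg hQ (vpush j u) (vpush j w)) (T v))
    (u₀ : ι → F₀) (hu₀ : Q₀ u₀ = 0) : ∃ c : F, T (vpush j u₀) = c • vpush j u₀ := by
  obtain ⟨e₀, f₀, hue₀, huf₀, hqe₀, hqf₀, hef₀⟩ := exists_hyperbolic_perp1 hQ₀ hn u₀
  have hpv := pol_vpush j hcomp
  obtain ⟨u, hu_def⟩ : ∃ u, u = vpush j u₀ := ⟨_, rfl⟩
  obtain ⟨e, he_def⟩ : ∃ e, e = vpush j e₀ := ⟨_, rfl⟩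
  obtain ⟨f, hf_def⟩ : ∃ f, f = vpush j f₀ := ⟨_, rfl⟩
  have hu : Q u = 0 := by rw [hu_def, hcomp, hu₀, map_zero]
  have hqe : Q e = 0 := by rw [he_def, hcomp, hqe₀, map_zero]
  have hqf : Q f = 0 := by rw [hf_def, hcomp, hqf₀, map_zero]
  have hue : pol Q u e = 0 := by rw [hu_def, he_def, hpv, hue₀, map_zero]
  have huf : pol Q u f = 0 := by rw [hu_def, hf_def, hpv, huf₀, map_zero]
  have hef : pol Q e f = 1 := by rw [he_def, hf_def, hpv, hef₀, map_one]
  have hfe : pol Q f e = 1 := by rw [pol_comm]; exact hef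
  have hfu : pol Q f u = 0 := by rw [pol_comm]; exact huf
  have heu : pol Q e u = 0 := by rw [pol_comm]; exact hue
  have h1 : T u = pol Q (T f) e • u - pol Q (T f) u • e := by
    have h := hT u₀ e₀ hu₀ hqe₀ hue₀ f
    rw [← hu_def, ← he_def, act_sg hQ u e hu hue, act_sg hQ u e hu hue, hfe, hfu, hqe] at h
    simp only [zero_mul, mul_zero, sub_zero, zero_smul, one_smul] at h
    rw [hadd] at h
    have h' : T u = (T f + pol Q (T f) e • u - pol Q (T f) u • e) - T f := by
      rw [← h]; abel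
    rw [h']; abel
  have h2 : T u = pol Q (T e) f • u - pol Q (T e) u • f := by
    have h := hT u₀ f₀ hu₀ hqf₀ huf₀ e
    rw [← hu_def, ← hf_def, act_sg hQ u f hu huf, act_sg hQ u f hu huf, hef, heu, hqf] at h
    simp only [zero_mul, mul_zero, sub_zero, zero_smul, one_smul] at h
    rw [hadd] at h
    have h' : T u = (T e + pol Q (T e) f • u - pol Q (T e) u • f) - T e := by
      rw [← h]; abel
    rw [h']; abel
  have h3 : pol Q (T f) u = 0 := by
    have h := congrArg (fun v => pol Q v f) (h1.symm.trans h2)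
    rw [pol_sub_left hQ, pol_sub_left hQ, pol_smul_left hQ, pol_smul_left hQ, pol_smul_left hQ,
      pol_smul_left hQ, huf, hef, pol_self hQ, hqf] at h
    simp only [mul_zero, mul_one, zero_sub, sub_zero] at h
    exact neg_eq_zero.1 h
  refine ⟨pol Q (T f) e, ?_⟩
  rw [← hu_def, h1, h3, zero_smul, sub_zero]

include hQ₀ hQ hcomp in
/-- a semilinear map fixing every rational singular line fixes the subfield -/
theorem right_fix_of_singular_rat (hn : 5 ≤ Fintype.card ι) (x : GamL ι F)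
    (h : ∀ u : ι → F₀, Q₀ u = 0 → ∃ c : F, sact x (vpush j u) = c • vpush j u) (t : F₀) :
    x.right (j t) = j t := by
  obtain ⟨e₀, f₀, -, -, hqe₀, hqf₀, hef₀⟩ := exists_hyperbolic_perp1 hQ₀ hn (0 : ι → F₀)
  obtain ⟨e₀', f₀', hee₀', hef₀', hqe₀', hqf₀', hef₀''⟩ := exists_hyperbolic_perp1 hQ₀ hn e₀
  have hpv := pol_vpush j hcomp
  obtain ⟨e, he_def⟩ : ∃ e, e = vpush j e₀ := ⟨_, rfl⟩
  obtain ⟨f, hf_def⟩ : ∃ f, f = vpush j f₀ := ⟨_, rfl⟩
  obtain ⟨e', he'_def⟩ : ∃ e', e' = vpush j e₀' := ⟨_, rfl⟩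
  obtain ⟨f', hf'_def⟩ : ∃ f', f' = vpush j f₀' := ⟨_, rfl⟩
  have hef : pol Q e f = 1 := by rw [he_def, hf_def, hpv, hef₀, map_one]
  have hef' : pol Q e f' = 0 := by rw [he_def, hf'_def, hpv, hef₀', map_zero]
  have hef'' : pol Q e' f' = 1 := by rw [he'_def, hf'_def, hpv, hef₀'', map_one]
  have he0 : e ≠ 0 := by
    rintro rfl
    rw [pol_zero_left hQ] at hef
    exact zero_ne_one hef
  obtain ⟨c₀, hc₀⟩ := h e₀ hqe₀
  obtain ⟨c₁, hc₁⟩ := h e₀' hqe₀'
  rw [← he_def] at hc₀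
  rw [← he'_def] at hc₁
  have hc₀0 : c₀ ≠ 0 := by
    rintro rfl
    rw [zero_smul] at hc₀
    exact sact_ne_zero x e he0 hc₀
  have key : ∀ t : F₀, x.right (j t) * c₁ = c₀ * j t := by
    intro t
    have hs : Q₀ (e₀ + t • e₀') = 0 := by
      rw [Q_add Q₀, hqe₀, Q_smul hQ₀, hqe₀', pol_smul_right hQ₀, hee₀']; ring
    obtain ⟨c, hc⟩ := h (e₀ + t • e₀') hs
    rw [vpush_add, vpush_smul, ← he_def, ← he'_def, sact_add, sact_smul, hc₀, hc₁, smul_add,
      smul_smul, smul_smul] at hc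
    have h1 := congrArg (fun v => pol Q v f') hc
    beta_reduce at h1
    rw [pol_add_left hQ, pol_add_left hQ, pol_smul_left hQ, pol_smul_left hQ, pol_smul_left hQ,
      pol_smul_left hQ, hef', hef'', mul_zero, mul_zero, zero_add, zero_add, mul_one, mul_one]
      at h1
    have h2 : (c₀ - c) • e = 0 := by
      rw [sub_smul]
      have : c₀ • e = c • e + ((c * j t) • e' - (x.right (j t) * c₁) • e') := by
        have h5 := eq_sub_of_add_eq hc
        rw [h5]; abel
      rw [this, h1, sub_self, add_zero, sub_self]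
    rcases smul_eq_zero.1 h2 with h3 | h3
    · rw [h1, ← sub_eq_zero.1 h3]
    · exact absurd h3 he0
  have h1 := key 1
  rw [map_one, map_one, one_mul, mul_one] at h1
  have h2 := key t
  rw [h1, mul_comm] at h2
  exact mul_left_cancel₀ hc₀0 h2

include hQ₀ hQ hcomp in
/-- a linear map acting as a scalar on every rational singular vector is a scalar -/
theorem scalar_of_singular_rat (hn : 7 ≤ Fintype.card ι) (n : GL ι F)
    (h : ∀ v : ι → F₀, Q₀ v = 0 → v ≠ 0 → ∃ c : F, act n (vpush j v) = c • vpush j v) :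
    ∃ l : F, ∀ x, act n x = l • x := by
  have hpv := pol_vpush j hcomp
  -- orthogonal independent singular vectors have the same scalar
  have step1 : ∀ v₁ v₂ : ι → F₀, Q₀ v₁ = 0 → Q₀ v₂ = 0 → v₁ ≠ 0 → pol Q₀ v₁ v₂ = 0 →
      vpush j v₂ ∉ Submodule.span F {vpush j v₁} → ∀ c₁ c₂ : F,
        act n (vpush j v₁) = c₁ • vpush j v₁ → act n (vpush j v₂) = c₂ • vpush j v₂ →
        c₁ = c₂ := by
    intro v₁ v₂ h1 h2 h10 h12 hind c₁ c₂ hc1 hc2
    have h10' : vpush j v₁ ≠ 0 := fun h0 => h10 (vpush_eq_zero j v₁ h0)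
    have hs : Q₀ (v₁ + v₂) = 0 := by rw [Q_add Q₀, h1, h2, h12]; ring
    have hs0 : v₁ + v₂ ≠ 0 := by
      intro h0
      apply hind
      rw [Submodule.mem_span_singleton]
      refine ⟨-1, ?_⟩
      rw [neg_one_smul, ← vpush_neg]
      congr 1
      exact (eq_neg_of_add_eq_zero_right h0).symm
    obtain ⟨c, hc⟩ := h _ hs hs0
    rw [vpush_add, act_add, hc1, hc2, smul_add] at hc
    have e : (c₁ - c) • vpush j v₁ = (c - c₂) • vpush j v₂ := by
      rw [sub_smul, sub_smul]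
      have := hc
      calc c₁ • vpush j v₁ - c • vpush j v₁
          = (c₁ • vpush j v₁ + c₂ • vpush j v₂) - c₂ • vpush j v₂ - c • vpush j v₁ := by abel
        _ = (c • vpush j v₁ + c • vpush j v₂) - c₂ • vpush j v₂ - c • vpush j v₁ := by rw [this]
        _ = c • vpush j v₂ - c₂ • vpush j v₂ := by abel
    have hcc : c - c₂ = 0 := by
      by_contra hne
      apply hind
      rw [Submodule.mem_span_singleton]
      refine ⟨(c - c₂)⁻¹ * (c₁ - c), ?_⟩
      rw [mul_smul, e, smul_smul, inv_mul_cancel₀ hne, one_smul]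
    rw [hcc, zero_smul] at e
    have hcc1 : c₁ - c = 0 := by
      rcases smul_eq_zero.1 e with h' | h'
      · exact h'
      · exact absurd h' h10'
    rw [sub_eq_zero] at hcc hcc1
    rw [hcc1, hcc]
  obtain ⟨e₀, f₀, -, -, he₀, hf₀, hef₀⟩ := exists_hyperbolic_perp1 hQ₀ (by omega) (0 : ι → F₀)
  have he₀0 : e₀ ≠ 0 := by
    rintro rfl
    rw [pol_zero_left hQ₀] at hef₀
    exact zero_ne_one hef₀
  obtain ⟨l, hl⟩ := h e₀ he₀ he₀0
  have step2 : ∀ v : ι → F₀, Q₀ v = 0 → act n (vpush j v) = l • vpush j v := by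
    intro v hv
    by_cases hv0 : v = 0
    · rw [hv0, vpush_zero, act_zero, smul_zero]
    obtain ⟨c, hc⟩ := h v hv hv0
    obtain ⟨e, f, hve, hvf, hee, hef', hqe, hqf, hef⟩ := exists_hyperbolic_perp2 hQ₀ hn v e₀
    have he0 : e ≠ 0 := by
      rintro rfl
      rw [pol_zero_left hQ₀] at hef
      exact zero_ne_one hef
    obtain ⟨c', hc'⟩ := h e hqe he0
    have hef1 : pol Q (vpush j e) (vpush j f) = 1 := by rw [hpv, hef, map_one]
    have h1 : vpush j e ∉ Submodule.span F {vpush j v} := by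
      intro h'
      obtain ⟨a, ha⟩ := Submodule.mem_span_singleton.1 h'
      rw [← ha, pol_smul_left hQ, hpv, hvf, map_zero, mul_zero] at hef1
      exact zero_ne_one hef1
    have h2 : vpush j e ∉ Submodule.span F {vpush j e₀} := by
      intro h'
      obtain ⟨a, ha⟩ := Submodule.mem_span_singleton.1 h'
      rw [← ha, pol_smul_left hQ, hpv, hef', map_zero, mul_zero] at hef1
      exact zero_ne_one hef1
    have e1 := step1 v e hv hqe hv0 hve h1 c c' hc hc'
    have e2 := step1 e₀ e he₀ hqe he₀0 hee h2 l c' hl hc'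
    rw [hc, e1, ← e2]
  have step3 : ∀ x : ι → F₀, act n (vpush j x) = l • vpush j x := by
    intro x
    obtain ⟨e, f, hxe, hxf, hqe, hqf, hef⟩ := exists_hyperbolic_perp1 hQ₀ (by omega) (0 : ι → F₀)
    obtain ⟨s, hs1, -, hs3⟩ :=
      sum_singular hQ₀ 0 e f x hxe hxf hqe hqf hef (pol_zero_left hQ₀ x)
    rw [hs3, Fin.sum_univ_five]
    simp only [vpush_add, act_add, smul_add, step2 _ (hs1 _)]
  refine ⟨l, act_eq_smul_of_single n l (fun k => ?_)⟩
  rw [← vpush_single j k]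
  exact step3 _

end generic

end Cfsg.Agent.Lib.H7BalM
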