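import Cfsg.Agent.Lib.Helper7.BalM.SubB
import Mathlib

/-!
# Rigidity of the subfield subgroup, main statement (helper7)
-/

set_option autoImplicit false
set_option linter.unusedSectionVars false
set_option linter.style.haveILetI false

namespace Cfsg.Agent.Lib.H7BalM

open Matrix Cfsg Cfsg.Agent.Lib.H7AutPSp Cfsg.Agent.Lib.H7AutPO Cfsg.Agent.Lib.H7AutPM
  Cfsg.Agent.H9.Orth Cfsg.Agent.Lib.Helper5.OrthSN

universe u v

section generic

variable {ι : Type} [Fintype ι] [DecidableEq ι] {F : Type u} [Field F] [Fintype F]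
  {F₀ : Type v} [Field F₀] [Fintype F₀]
  (j : F₀ →+* F) {Q₀ : (ι → F₀) → F₀} {Q : (ι → F) → F}
  (hQ₀ : Cfsg.Geo.IsNondegenerateQuadraticForm Q₀) (hQ : Cfsg.Geo.IsNondegenerateQuadraticForm Q)
  (hcomp : ∀ v₀ : ι → F₀, Q (vpush j v₀) = j (Q₀ v₀))
  (hmap : ∀ g₀ : GL ι F₀, g₀ ∈ Cfsg.isometryGroup F₀ Q₀ →
    Matrix.GeneralLinearGroup.map j g₀ ∈ Cfsg.isometryGroup F Q)

include hQ₀ hcomp in
/-- a semisimilarity fixing the subfield subgroup pointwise commutes with the rational long root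
elements -/
theorem conjG_sg_of_fix (hn : 7 ≤ Fintype.card ι) (x : ↥(GammaO Q))
    (hx : ∀ s : ↥(Cfsg.Omega F₀ Q₀), PsO Q x (jSub j hmap s) = jSub j hmap s)
    (u w : ι → F₀) (hu : Q₀ u = 0) (hw : Q₀ w = 0) (huw : pol Q₀ u w = 0) :
    conjG x.1 (sg hQ (vpush j u) (vpush j w)) = sg hQ (vpush j u) (vpush j w) := by
  have hu' : Q (vpush j u) = 0 := by rw [hcomp, hu, map_zero]
  -- up to sign
  have hpm : ∀ w : ι → F₀, Q₀ w = 0 → pol Q₀ u w = 0 →
      conjG x.1 (sg hQ (vpush j u) (vpush j w)) = sg hQ (vpush j u) (vpush j w) ∨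
      conjG x.1 (sg hQ (vpush j u) (vpush j w)) = -sg hQ (vpush j u) (vpush j w) := by
    intro w hw huw
    obtain ⟨y, hy, hyx⟩ := exists_omega_sg hQ₀ hn u w hu hw huw
    have e := hx ⟨y, hy⟩
    rw [jSub_apply, PsO_pr, prC_eq_iff] at e
    have hz := center_omega_val hQ hn _ e
    rw [Subgroup.coe_mul, Subgroup.coe_mul, Subgroup.coe_inv, Subgroup.coe_inv] at hz
    have eb : (((omMap j hmap (⟨y, hy⟩ : ↥(Cfsg.Omega F₀ Q₀)) : ↥(Cfsg.Omega F Q)) :
        ↥(Cfsg.isometryGroup F Q)) : GL ι F) = sg hQ (vpush j u) (vpush j w) := by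
      rw [omMap_val]
      show Matrix.GeneralLinearGroup.map j (y : GL ι F₀) = _
      rw [hyx, map_sg j hQ₀ hQ hcomp u w hu huw]
    have ea : (((commAut (semiIso Q x) (omMap j hmap (⟨y, hy⟩ : ↥(Cfsg.Omega F₀ Q₀))) :
        ↥(Cfsg.Omega F Q)) : ↥(Cfsg.isometryGroup F Q)) : GL ι F) =
        conjG x.1 (sg hQ (vpush j u) (vpush j w)) := by
      rw [commAut_val, semiIso_val, eb]
    rw [ea, eb] at hz
    rcases hz with hz | hz
    · left
      exact inv_mul_eq_one.1 hz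
    · right
      have : conjG x.1 (sg hQ (vpush j u) (vpush j w)) =
          sg hQ (vpush j u) (vpush j w) * (-1)⁻¹ := by
        have h3 : (conjG x.1 (sg hQ (vpush j u) (vpush j w)))⁻¹ =
            -1 * (sg hQ (vpush j u) (vpush j w))⁻¹ := by
          rw [← hz]; group
        have h4 := congrArg (fun t => t⁻¹) h3
        simp only [inv_inv, _root_.mul_inv_rev] at h4
        exact h4
      rw [this, inv_neg, inv_one, mul_neg, mul_one]
  by_cases h2 : (2 : F₀) = 0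
  · have h2' : (2 : F) = 0 := by
      have := congrArg j h2
      rwa [map_ofNat, map_zero] at this
    rcases hpm w hw huw with h | h
    · exact h
    · rw [h]
      apply Units.ext
      rw [Units.val_neg]
      have : (-1 : F) = 1 := by
        rw [neg_eq_iff_add_eq_zero]
        linear_combination h2'
      rw [← neg_one_smul F, this, one_smul]
  · have h1 : pol Q₀ u ((2 : F₀)⁻¹ • w) = 0 := by rw [pol_smul_right hQ₀, huw, mul_zero]
    have h3 : Q₀ ((2 : F₀)⁻¹ • w) = 0 := by rw [Q_smul hQ₀, hw, mul_zero]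
    have h1' : pol Q (vpush j u) (vpush j ((2 : F₀)⁻¹ • w)) = 0 := by
      rw [pol_vpush j hcomp, h1, map_zero]
    have hsq : sg hQ (vpush j u) (vpush j w) =
        sg hQ (vpush j u) (vpush j ((2 : F₀)⁻¹ • w)) *
          sg hQ (vpush j u) (vpush j ((2 : F₀)⁻¹ • w)) := by
      rw [sg_mul hQ _ _ _ h1' h1', ← vpush_add, ← add_smul]
      congr 2
      have : (2 : F₀)⁻¹ + (2 : F₀)⁻¹ = 1 := by field_simp; norm_num
      rw [this, one_smul]
    have : conjG x.1 (sg hQ (vpush j u) (vpush j w)) =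
        conjG x.1 (sg hQ (vpush j u) (vpush j ((2 : F₀)⁻¹ • w))) *
        conjG x.1 (sg hQ (vpush j u) (vpush j ((2 : F₀)⁻¹ • w))) := by
      rw [← map_mul, ← hsq]
    rw [this]
    rcases hpm _ h3 h1 with h6 | h6
    · rw [h6, ← hsq]
    · rw [h6, neg_mul_neg, ← hsq]

include hQ₀ hQ hcomp in
/-- **rigidity of the subfield subgroup** -/
theorem rigid_sub (hn : 7 ≤ Fintype.card ι) (x : ↥(GammaO Q))
    (hx : ∀ s : ↥(Cfsg.Omega F₀ Q₀), PsO Q x (jSub j hmap s) = jSub j hmap s) :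
    (∀ t : F₀, x.1.right (j t) = j t) ∧ ∃ l : F, ∀ v, act x.1.left v = l • v := by
  have hsing : ∀ u : ι → F₀, Q₀ u = 0 → ∃ c : F, sact x.1 (vpush j u) = c • vpush j u := by
    apply add_singular_of_comm_rat j hQ₀ hQ hcomp (by omega) (sact x.1) (sact_add x.1)
    intro u w hu hw huw v
    rw [sact_act, conjG_sg_of_fix j hQ₀ hQ hcomp hmap hn x hx u w hu hw huw]
  have hr := right_fix_of_singular_rat j hQ₀ hQ hcomp (by omega) x.1 hsing
  refine ⟨hr, ?_⟩
  apply scalar_of_singular_rat j hQ₀ hQ hcomp hn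
  intro v hv _
  obtain ⟨c, hc⟩ := hsing v hv
  refine ⟨c, ?_⟩
  rw [← hc, sact_def]
  show x.1.left.val *ᵥ vpush j v = _
  congr 1
  ext i
  rw [vpush_apply, hr]

end generic

end Cfsg.Agent.Lib.H7BalM
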