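import Cfsg.Agent.Lib.Helper7.BalM.SubC
import Cfsg.Agent.Lib.Helper8.Bal.SubO
import Mathlib

/-!
# The subfield subgroup and a standard field automorphism (helper7)

Generic part: `xσ` is a semisimilarity `(1, σ)` of `Q`; the image of `Ω(Q₀)` is fixed pointwise by
its automorphism, and the fixed points of that automorphism come from rational isometries.
-/

set_option autoImplicit false
set_option linter.unusedSectionVars false
set_option linter.style.haveILetI false

namespace Cfsg.Agent.Lib.H7BalM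

open Matrix Cfsg Cfsg.Agent.Lib.H7AutPSp Cfsg.Agent.Lib.H7AutPO Cfsg.Agent.Lib.H7AutPM
  Cfsg.Agent.H9.Orth Cfsg.Agent.Lib.Helper5.OrthSN

universe u v

section generic

variable {ι : Type} [Fintype ι] [DecidableEq ι] {F : Type u} [Field F] [Fintype F]
  {F₀ : Type v} [Field F₀] [Fintype F₀]
  (j : F₀ →+* F) {Q₀ : (ι → F₀) → F₀} {Q : (ι → F) → F}
  (hQ₀ : Cfsg.Geo.IsNondegenerateQuadraticForm Q₀) (hQ : Cfsg.Geo.IsNondegenerateQuadraticForm Q)
  (hcomp : ∀ v₀ : ι → F₀, Q (vpush j v₀) = j (Q₀ v₀))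
  (hmap : ∀ g₀ : GL ι F₀, g₀ ∈ Cfsg.isometryGroup F₀ Q₀ →
    Matrix.GeneralLinearGroup.map j g₀ ∈ Cfsg.isometryGroup F Q)
  (σ : RingAut F) (hfixed : ∀ t : F₀, σ (j t) = j t)
  (hsurj : ∀ t : F, σ t = t → ∃ s : F₀, j s = t)
  (xσ : ↥(GammaO Q)) (hxl : xσ.1.left = 1) (hxr : xσ.1.right = σ)

include hfixed hxl hxr in
/-- the subfield subgroup is fixed pointwise by the field automorphism -/
theorem jSub_fix (s : ↥(Cfsg.Omega F₀ Q₀)) : PsO Q xσ (jSub j hmap s) = jSub j hmap s := by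
  rw [jSub_apply, PsO_pr]
  congr 1
  apply om_ext
  rw [PsO_val, hxl, hxr, inv_one, Units.val_one, Matrix.one_mul, Matrix.mul_one, omMap_val]
  ext a b
  show σ (j _) = j _
  exact hfixed _

include hsurj in
/-- a matrix fixed by `σ` is rational -/
theorem exists_rat_of_fixed (g : GL ι F) (hg : g.val.map σ = g.val) :
    ∃ g₀ : GL ι F₀, Matrix.GeneralLinearGroup.map j g₀ = g := by
  have hent : ∀ a b, ∃ s : F₀, j s = g.val a b := by
    intro a b
    apply hsurj
    have := congrFun (congrFun hg a) b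
    rw [Matrix.map_apply] at this
    exact this
  choose M hM using hent
  have hMg : (Matrix.of M).map j = g.val := by
    ext a b
    rw [Matrix.map_apply, Matrix.of_apply, hM]
  have hdet : (Matrix.of M).det ≠ 0 := by
    intro h0
    have h1 : j (Matrix.of M).det = g.val.det := by
      rw [RingHom.map_det, RingHom.mapMatrix_apply, hMg]
    rw [h0, map_zero] at h1
    have h2 : IsUnit g.val.det := (Matrix.isUnit_iff_isUnit_det _).1 g.isUnit
    exact h2.ne_zero h1.symm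
  refine ⟨Matrix.GeneralLinearGroup.mkOfDetNeZero (Matrix.of M) hdet, ?_⟩
  apply Units.ext
  exact hMg

include hcomp in
/-- a rational matrix which is an isometry over `F` is an isometry over `F₀` -/
theorem rat_mem_iso (g₀ : GL ι F₀)
    (hg : Matrix.GeneralLinearGroup.map j g₀ ∈ Cfsg.isometryGroup F Q) :
    g₀ ∈ Cfsg.isometryGroup F₀ Q₀ := by
  rw [mem_iso_iff] at hg ⊢
  intro v
  apply j.injective
  rw [← hcomp, ← hcomp]
  have h1 := hg (vpush j v)
  have h2 := act_map_vpush j g₀ v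
  unfold act at h2
  rw [h2] at h1
  exact h1

/-- iterating a sign under a field automorphism -/
theorem map_pow_of_map_eq_smul (M : Matrix ι ι F) (ε : F) (hε : ε = 1 ∨ ε = -1)
    (h : M.map σ = ε • M) (n : ℕ) : M.map (σ ^ n : RingAut F) = ε ^ n • M := by
  have hσε : σ ε = ε := by
    rcases hε with rfl | rfl
    · exact map_one σ
    · rw [map_neg, map_one]
  induction n with
  | zero =>
    rw [pow_zero, pow_zero, one_smul]
    ext a b
    rfl
  | succ n ih =>
    have e : M.map (σ ^ (n + 1) : RingAut F) = (M.map (σ ^ n : RingAut F)).map σ := by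
      ext a b
      rw [Matrix.map_apply, Matrix.map_apply, Matrix.map_apply, pow_succ']
      rfl
    rw [e, ih]
    ext a b
    rw [Matrix.map_apply, Matrix.smul_apply, Matrix.smul_apply, smul_eq_mul, smul_eq_mul, map_mul,
      map_pow, hσε, pow_succ, mul_assoc]
    congr 1
    have := congrFun (congrFun h a) b
    rw [Matrix.map_apply, Matrix.smul_apply, smul_eq_mul] at this
    exact this

include hQ hcomp hsurj hxl hxr in
/-- a fixed point of the field automorphism (of odd order) comes from a rational isometry -/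
theorem fixed_lift (hn : 7 ≤ Fintype.card ι) {p : ℕ} (hp : Odd p) (hσp : σ ^ p = 1)
    (k : Cfsg.POmega F Q) (hk : PsO Q xσ k = k) :
    ∃ (g₀ : ↥(Cfsg.isometryGroup F₀ Q₀)) (hω : isoMap j hmap g₀ ∈ Cfsg.Omega F Q),
      k = prC (⟨isoMap j hmap g₀, hω⟩ : ↥(Cfsg.Omega F Q)) := by
  obtain ⟨g, rfl⟩ := prC_surjective k
  rw [PsO_pr, prC_eq_iff] at hk
  have hz := center_omega_val hQ hn _ hk
  rw [Subgroup.coe_mul, Subgroup.coe_mul, Subgroup.coe_inv, Subgroup.coe_inv] at hz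
  have hval : (commAut (semiIso Q xσ) g).1.1.val = g.1.1.val.map σ := by
    rw [PsO_val, hxl, hxr, inv_one, Units.val_one, Matrix.one_mul, Matrix.mul_one]
  -- `σ(g) = ε g`
  have hsign : ∃ ε : F, (ε = 1 ∨ ε = -1) ∧ g.1.1.val.map σ = ε • g.1.1.val := by
    rcases hz with hz | hz
    · refine ⟨1, Or.inl rfl, ?_⟩
      rw [one_smul, ← hval]
      have := inv_mul_eq_one.1 hz
      rw [this]
    · refine ⟨-1, Or.inr rfl, ?_⟩
      rw [← hval]
      have h3 : ((commAut (semiIso Q xσ) g : ↥(Cfsg.Omega F Q)) :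
          ↥(Cfsg.isometryGroup F Q)).1 = g.1.1 * (-1)⁻¹ := by
        have h4 : (((commAut (semiIso Q xσ) g : ↥(Cfsg.Omega F Q)) :
            ↥(Cfsg.isometryGroup F Q)) : GL ι F)⁻¹ = -1 * (g.1.1)⁻¹ := by
          rw [← hz]; group
        have h5 := congrArg (fun t => t⁻¹) h4
        simp only [inv_inv, _root_.mul_inv_rev] at h5
        exact h5
      rw [h3, inv_neg, inv_one, Units.val_mul, Units.val_neg, Units.val_one, Matrix.mul_neg,
        Matrix.mul_one, neg_smul, one_smul]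
  obtain ⟨ε, hε, hεg⟩ := hsign
  have hfix : g.1.1.val.map σ = g.1.1.val := by
    have h1 := map_pow_of_map_eq_smul σ g.1.1.val ε hε hεg p
    rw [hσp] at h1
    have h2 : g.1.1.val.map (1 : RingAut F) = g.1.1.val := by
      ext a b
      rfl
    rw [h2] at h1
    have h3 : ε ^ p = ε := by
      rcases hε with rfl | rfl
      · exact one_pow p
      · exact hp.neg_one_pow
    rw [h3] at h1
    rw [hεg, ← h1]
  obtain ⟨g₀, hg₀⟩ := exists_rat_of_fixed j σ hsurj g.1.1 hfix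
  have hg₀iso : g₀ ∈ Cfsg.isometryGroup F₀ Q₀ := by
    apply rat_mem_iso j hcomp
    rw [hg₀]
    exact g.1.2
  have e : isoMap j hmap ⟨g₀, hg₀iso⟩ = g.1 := Subtype.ext hg₀
  refine ⟨⟨g₀, hg₀iso⟩, ?_, ?_⟩
  · rw [e]
    exact g.2
  · congr 1
    apply Subtype.ext
    exact e.symm

include hQ hcomp hsurj hxl hxr in
/-- the subfield subgroup is normalised by the fixed points of the field automorphism -/
theorem jSub_norm (hn : 7 ≤ Fintype.card ι) {p : ℕ} (hp : Odd p) (hσp : σ ^ p = 1)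
    (k : Cfsg.POmega F Q) (hk : PsO Q xσ k = k) (s : ↥(Cfsg.Omega F₀ Q₀)) :
    ∃ s' : ↥(Cfsg.Omega F₀ Q₀), jSub j hmap s' = k * jSub j hmap s * k⁻¹ := by
  obtain ⟨g₀, hω, rfl⟩ := fixed_lift j hQ hcomp hmap σ hsurj xσ hxl hxr hn hp hσp k hk
  have hnorm : (Cfsg.Omega F₀ Q₀).Normal := by
    unfold Cfsg.Omega
    infer_instance
  refine ⟨⟨g₀ * s.1 * g₀⁻¹, hnorm.conj_mem s.1 s.2 g₀⟩, ?_⟩
  rw [jSub_apply, jSub_apply, ← map_inv, ← map_mul, ← map_mul]
  congr 1
  apply Subtype.ext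
  show isoMap j hmap (g₀ * s.1 * g₀⁻¹) = isoMap j hmap g₀ * isoMap j hmap s.1 * (isoMap j hmap g₀)⁻¹
  rw [map_mul, map_mul, map_inv]

include hQ₀ hQ hcomp hsurj hxl hxr in
/-- an element of order `p` in the subfield subgroup -/
theorem exists_order_p_sub (hn : 7 ≤ Fintype.card ι) {p : ℕ} [Fact p.Prime] (hp2 : p ≠ 2)
    (hσp : σ ^ p = 1)
    (hdiv : p ∣ Nat.card ↥(Cfsg.Agent.Lib.Helper8.AutSp.fixG (PsO Q xσ))) :
    ∃ s : ↥(Cfsg.Omega F₀ Q₀), orderOf (jSub j hmap s) = p := by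
  classical
  have hp : p.Prime := Fact.out
  have hodd : Odd p := hp.odd_of_ne_two hp2
  obtain ⟨y, hy⟩ := exists_prime_orderOf_dvd_card'
    (G := ↥(Cfsg.Agent.Lib.Helper8.AutSp.fixG (PsO Q xσ))) p hdiv
  have hyord : orderOf (y : Cfsg.POmega F Q) = p := by
    rw [← hy]
    exact (Subgroup.orderOf_coe y)
  obtain ⟨g₀, hω, hyg⟩ :=
    fixed_lift j hQ hcomp hmap σ hsurj xσ hxl hxr hn hodd hσp (y : Cfsg.POmega F Q) y.2
  have hsq : g₀ * g₀ ∈ Cfsg.Omega F₀ Q₀ :=
    Cfsg.Agent.Lib.Helper8.Bal.sq_mem_commutator_iso hQ₀ (Or.inr (by omega)) g₀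
  refine ⟨⟨g₀ * g₀, hsq⟩, ?_⟩
  have e : jSub j hmap ⟨g₀ * g₀, hsq⟩ = (y : Cfsg.POmega F Q) ^ 2 := by
    rw [hyg, pow_two, jSub_apply, ← map_mul]
    congr 1
    apply Subtype.ext
    show isoMap j hmap (g₀ * g₀) = isoMap j hmap g₀ * isoMap j hmap g₀
    rw [map_mul]
  rw [e]
  have hcop : (orderOf (y : Cfsg.POmega F Q)).Coprime 2 := by
    rw [hyord]
    exact (Nat.coprime_primes hp Nat.prime_two).2 hp2
  rw [hcop.orderOf_pow, hyord]

end generic

end Cfsg.Agent.Lib.H7BalM
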