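import Cfsg.Agent.Lib.Helper7.BalM.SubD
import Cfsg.Agent.Lib.Helper7.AutPM.StructM
import Cfsg.Agent.Lib.Helper7.AutPM.InndiagM
import Cfsg.Agent.Lib.Helper8.Bal.Abstract
import Cfsg.Agent.Lib.Helper8.AutSp.BalC
import Mathlib

/-!
# The subfield subgroup: normal subgroups, centraliser, automorphisms fixing it; the main
argument for a standard field automorphism of odd prime order (helper7)
-/

set_option autoImplicit false
set_option linter.unusedSectionVars false
set_option linter.style.haveILetI false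

namespace Cfsg.Agent.Lib.H7BalM

open Matrix Cfsg Cfsg.Agent.Lib.H7AutPSp Cfsg.Agent.Lib.H7AutPO Cfsg.Agent.Lib.H7AutPM
  Cfsg.Agent.H9.Orth Cfsg.Agent.Lib.Helper5.OrthSN Cfsg.Agent.Lib.Helper5.OrthAut

universe u v

section generic

variable {ι : Type} [Fintype ι] [DecidableEq ι] {F : Type u} [Field F] [Fintype F]
  {F₀ : Type v} [Field F₀] [Fintype F₀]
  (j : F₀ →+* F) {Q₀ : (ι → F₀) → F₀} {Q : (ι → F) → F}
  (hQ₀ : Cfsg.Geo.IsNondegenerateQuadraticForm Q₀) (hQ : Cfsg.Geo.IsNondegenerateQuadraticForm Q)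
  (hcomp : ∀ v₀ : ι → F₀, Q (vpush j v₀) = j (Q₀ v₀))
  (hmap : ∀ g₀ : GL ι F₀, g₀ ∈ Cfsg.isometryGroup F₀ Q₀ →
    Matrix.GeneralLinearGroup.map j g₀ ∈ Cfsg.isometryGroup F Q)

/-- an element of `Ω(Q)` acting as a scalar is central -/
theorem prC_eq_one_of_scalar (g : ↥(Cfsg.Omega F Q)) (l : F)
    (hl : ∀ v, act g.1.1 v = l • v) : (prC g : Cfsg.POmega F Q) = 1 := by
  show (QuotientGroup.mk' _ g) = 1
  rw [QuotientGroup.mk'_apply, QuotientGroup.eq_one_iff, Subgroup.mem_center_iff]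
  intro t
  apply Subtype.ext
  apply Subtype.ext
  show t.1.1 * g.1.1 = g.1.1 * t.1.1
  apply gl_ext
  intro v
  rw [act_mul, act_mul, hl, hl, act_smul]

include hQ₀ in
/-- the normal subgroups of `Ω(Q₀)` die in `PΩ(Q)` or are everything -/
theorem normal_dich (hn : 7 ≤ Fintype.card ι) (N : Subgroup ↥(Cfsg.Omega F₀ Q₀)) (hN : N.Normal) :
    (∀ n ∈ N, jSub j hmap n = 1) ∨ (⊤ : Subgroup ↥(Cfsg.Omega F₀ Q₀)) ≤ N := by
  have e1 : ↥(Cfsg.Omega F₀ Q₀) ≃* ↥(Cfsg.Geo.omegaGL Q₀) :=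
    (Cfsg.Omega F₀ Q₀).equivMapOfInjective (Cfsg.isometryGroup F₀ Q₀).subtype
      (Cfsg.isometryGroup F₀ Q₀).subtype_injective
  have e2 : ↥(Cfsg.Geo.omegaGL Q₀) ≃* ↥(NN hQ₀) :=
    MulEquiv.subgroupCongr (omegaGL_eq_NN hQ₀ hn)
  obtain ⟨e, he⟩ : ∃ e : ↥(Cfsg.Omega F₀ Q₀) ≃* ↥(NN hQ₀), e = e1.trans e2 := ⟨_, rfl⟩
  have hN' : (N.map e.toMonoidHom).Normal := hN.map e.toMonoidHom e.surjective
  rcases NN_normal_subgroups hQ₀ hn (N.map e.toMonoidHom) hN' with h | h
  · left
    intro n hn'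
    have hc : n ∈ Subgroup.center ↥(Cfsg.Omega F₀ Q₀) := by
      rw [Subgroup.mem_center_iff]
      intro t
      apply e.injective
      rw [map_mul, map_mul]
      have h1 : e n ∈ Subgroup.center ↥(NN hQ₀) := h (Subgroup.mem_map_of_mem _ hn')
      rw [Subgroup.mem_center_iff] at h1
      exact h1 (e t)
    have hv := center_omega_val hQ₀ hn n hc
    have hval : ∃ c : F, ∀ v, act (omMap j hmap n).1.1 v = c • v := by
      rcases hv with hv | hv
      · refine ⟨1, fun v => ?_⟩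
        rw [omMap_val, one_smul]
        show act (Matrix.GeneralLinearGroup.map j (n.1.1 : GL ι F₀)) v = v
        rw [hv, map_one, act_one]
      · refine ⟨-1, fun v => ?_⟩
        rw [omMap_val, neg_one_smul]
        show act (Matrix.GeneralLinearGroup.map j (n.1.1 : GL ι F₀)) v = -v
        rw [hv]
        show ((-1 : GL ι F₀).val.map j) *ᵥ v = -v
        have : ((-1 : GL ι F₀).val.map j) = -1 := by
          ext a b
          rw [Matrix.map_apply, Units.val_neg, Units.val_one, Matrix.neg_apply,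
            Matrix.neg_apply, Matrix.one_apply, Matrix.one_apply, map_neg]
          split_ifs
          · rw [map_one]
          · rw [map_zero]
        rw [this, Matrix.neg_mulVec, Matrix.one_mulVec]
    obtain ⟨c, hc⟩ := hval
    rw [jSub_apply]
    exact prC_eq_one_of_scalar _ c hc
  · right
    intro n _
    have h1 : e n ∈ N.map e.toMonoidHom := by rw [h]; exact Subgroup.mem_top _
    obtain ⟨n', hn', hnn'⟩ := h1
    have : n' = n := e.injective hnn'
    rw [← this]
    exact hn'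

include hQ₀ hQ hcomp in
/-- the centraliser of the subfield subgroup is trivial -/
theorem jSub_cent (hn : 7 ≤ Fintype.card ι) (k : Cfsg.POmega F Q)
    (hk : ∀ s : ↥(Cfsg.Omega F₀ Q₀), k * jSub j hmap s * k⁻¹ = jSub j hmap s) : k = 1 := by
  obtain ⟨g, rfl⟩ := prC_surjective k
  have hx : ∀ s : ↥(Cfsg.Omega F₀ Q₀),
      PsO Q (simIncl Q ⟨g.1.1, iso_le_sim Q g.1.2⟩) (jSub j hmap s) = jSub j hmap s := by
    intro s
    rw [PsO_simIncl, DhO_omega, MulAut.conj_apply]
    exact hk s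
  obtain ⟨-, l, hl⟩ := rigid_sub j hQ₀ hQ hcomp hmap hn _ hx
  exact prC_eq_one_of_scalar g l hl

/-- scalars in the semilinear group -/
def IsScalG (y : GamL ι F) : Prop := ∃ l : F, ∀ v, act y.left v = l • v

theorem isScalG_one : IsScalG (1 : GamL ι F) :=
  ⟨1, fun v => by rw [SemidirectProduct.one_left, act_one, one_smul]⟩

theorem isScalG_mul [Nonempty ι] {y z : GamL ι F} (hy : IsScalG y) (hz : IsScalG z) :
    IsScalG (y * z) := by
  obtain ⟨l, hl⟩ := hy
  obtain ⟨l', hl'⟩ := hz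
  have hl'0 := scalar_ne_zero_of_act _ l' hl'
  have e : z.left = scalarGL l' hl'0 := eq_scalarGL_of_act _ l' hl'0 hl'
  refine ⟨l * y.right l', fun v => ?_⟩
  rw [SemidirectProduct.mul_left, act_mul, hl, gmapAut_apply, e]
  have h3 := map_scalarGL (ι := ι) (y.right : F →+* F) l' hl'0
  have h4 : act (gmapI y.right (scalarGL l' hl'0 : GL ι F)) v = y.right l' • v := by
    show act (Matrix.GeneralLinearGroup.map (y.right : F →+* F) (scalarGL l' hl'0)) v = _
    rw [h3, act_scalarGL]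
    rfl
  rw [h4, smul_smul]

theorem isScalG_pow [Nonempty ι] {y : GamL ι F} (hy : IsScalG y) (n : ℕ) : IsScalG (y ^ n) := by
  induction n with
  | zero => rw [pow_zero]; exact isScalG_one
  | succ n ih => rw [pow_succ]; exact isScalG_mul ih hy

include hQ in
/-- a scalar semisimilarity without field part acts trivially -/
theorem PsO_eq_one_of_scal (y : ↥(GammaO Q)) (hr : y.1.right = 1) (hs : IsScalG y.1) :
    PsO Q y = 1 := by
  have hy : y ∈ (rightO Q).ker := by
    rw [MonoidHom.mem_ker, rightO_apply]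
    exact hr
  rw [rightO_ker] at hy
  obtain ⟨g, rfl⟩ := hy
  rw [PsO_simIncl]
  obtain ⟨l, hl⟩ := hs
  rw [simIncl_left] at hl
  by_cases hne : Nonempty ι
  · have hl0 := scalar_ne_zero_of_act _ l hl
    have e : g = ⟨scalarGL l hl0, scalarGL_mem_GO hQ l hl0⟩ :=
      Subtype.ext (eq_scalarGL_of_act _ l hl0 hl)
    rw [e, DhO_scalarG hQ]
  · apply autC_ext
    intro s
    rw [MulAut.one_apply, DhO_pr]
    congr 1
    apply om_ext
    ext a
    exact absurd ⟨a⟩ hne

include hQ₀ hQ hcomp in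
/-- an automorphism fixing the subfield subgroup pointwise has `p`-th power one -/
theorem pow_eq_one_of_fix_sub (hFac : FacG Q) (hn : 7 ≤ Fintype.card ι) {p : ℕ}
    (σ : RingAut F) (hsurj : ∀ t : F, σ t = t → ∃ s : F₀, j s = t) (hσp : σ ^ p = 1)
    (w : MulAut (Cfsg.POmega F Q))
    (hw : ∀ s : ↥(Cfsg.Omega F₀ Q₀), w (jSub j hmap s) = jSub j hmap s) : w ^ p = 1 := by
  haveI : Nonempty ι := by
    apply Fintype.card_pos_iff.1
    omega
  obtain ⟨x, rfl⟩ := PsO_surjective Q hFac w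
  obtain ⟨hr, hl⟩ := rigid_sub j hQ₀ hQ hcomp hmap hn x hw
  have hτ : x.1.right ∈ Subgroup.zpowers σ := by
    apply Cfsg.Agent.Lib.Helper8.AutSp.mem_zpowers_of_fix σ x.1.right
    intro t ht
    obtain ⟨s, rfl⟩ := hsurj t ht
    exact hr s
  obtain ⟨n, hn'⟩ := Subgroup.mem_zpowers_iff.1 hτ
  have hτp : x.1.right ^ p = 1 := by
    rw [← hn', ← zpow_natCast, ← _root_.zpow_mul, mul_comm, _root_.zpow_mul, zpow_natCast, hσp,
      _root_.one_zpow]
  rw [← map_pow]
  apply PsO_eq_one_of_scal hQ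
  · have : (x ^ p).1.right = rightO Q (x ^ p) := rfl
    rw [this, map_pow, rightO_apply, hτp]
  · rw [Subgroup.coe_pow]
    exact isScalG_pow hl p

end generic

end Cfsg.Agent.Lib.H7BalM
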