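import Cfsg.Agent.Lib.Helper7.BalM.SubE
import Cfsg.Agent.Lib.Helper7.AutPM.MainM
import Cfsg.Agent.Lib.Helper7.AutPO.OutO
import Cfsg.Agent.Lib.Lead.AutPM.FacM
import Mathlib

/-!
# Local balance for `PΩ⁻`: the field case (helper7)

The main argument for a standard field automorphism of odd prime order and its transport to an
arbitrary field automorphism.
-/

set_option autoImplicit false
set_option linter.unusedSectionVars false
set_option linter.style.haveILetI false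

namespace Cfsg.Agent.Lib.H7BalM

open Matrix Cfsg Cfsg.Agent.Lib.H7AutPSp Cfsg.Agent.Lib.H7AutPO Cfsg.Agent.Lib.H7AutPM
  Cfsg.Agent.H9.Orth Cfsg.Agent.Lib.Helper5.OrthSN Cfsg.Agent.Lib.Helper5.OrthAut
  Cfsg.Agent.Lib.Helper8.AutSp Cfsg.Agent.Lib.Helper8.Bal

universe u v

section generic

variable {ι : Type} [Fintype ι] [DecidableEq ι] {F : Type u} [Field F] [Fintype F]
  {F₀ : Type v} [Field F₀] [Fintype F₀]
  (j : F₀ →+* F) {Q₀ : (ι → F₀) → F₀} {Q : (ι → F) → F}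
  (hQ₀ : Cfsg.Geo.IsNondegenerateQuadraticForm Q₀) (hQ : Cfsg.Geo.IsNondegenerateQuadraticForm Q)
  (hcomp : ∀ v₀ : ι → F₀, Q (vpush j v₀) = j (Q₀ v₀))
  (hmap : ∀ g₀ : GL ι F₀, g₀ ∈ Cfsg.isometryGroup F₀ Q₀ →
    Matrix.GeneralLinearGroup.map j g₀ ∈ Cfsg.isometryGroup F Q)
  (σ : RingAut F) (hfixed : ∀ t : F₀, σ (j t) = j t)
  (hsurj : ∀ t : F, σ t = t → ∃ s : F₀, j s = t)
  (xσ : ↥(GammaO Q)) (hxl : xσ.1.left = 1) (hxr : xσ.1.right = σ)

include hQ₀ hQ hcomp hmap hfixed hsurj hxl hxr in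
/-- **Main argument, generic form.** -/
theorem core_trivial_field_gen (hFac : FacG Q) (hn : 7 ≤ Fintype.card ι)
    {p : ℕ} [Fact p.Prime] (hp2 : p ≠ 2) (hσp : σ ^ p = 1)
    (W : Subgroup (MulAut (Cfsg.POmega F Q)))
    (hWcop : (Nat.card ↥W).Coprime p)
    (hWcent : ∀ w ∈ W, w * PsO Q xσ = PsO Q xσ * w)
    (hWnorm : ∀ k : Cfsg.POmega F Q, PsO Q xσ k = k →
      ∀ w ∈ W, MulAut.conj k * w * (MulAut.conj k)⁻¹ ∈ W)
    (hdiv : p ∣ Nat.card ↥(fixG (PsO Q xσ))) :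
    W = ⊥ := by
  classical
  have hp : p.Prime := Fact.out
  have hZ : Subgroup.center (Cfsg.POmega F Q) = ⊥ := center_pomega hQ hn
  obtain ⟨s, hs⟩ :=
    exists_order_p_sub j hQ₀ hQ hcomp hmap σ hsurj xσ hxl hxr hn hp2 hσp hdiv
  exact core_trivial_abstract hZ (PsO Q xσ) (jSub j hmap)
    (jSub_fix j hmap σ hfixed xσ hxl hxr)
    (jSub_norm j hQ hcomp hmap σ hsurj xσ hxl hxr hn (hp.odd_of_ne_two hp2) hσp)
    ⊤ (normal_dich j hQ₀ hmap hn) (jSub_cent j hQ₀ hQ hcomp hmap hn) W hWcop hWcent hWnorm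
    (fun w _ hw => pow_eq_one_of_fix_sub j hQ₀ hQ hcomp hmap hFac hn σ hsurj hσp w hw)
    ⟨s, Subgroup.mem_top s, hs⟩

end generic

/-! ### transport along an isomorphism -/

section transport

variable {K K' : Type*} [Group K] [Group K']

theorem fixG_congr (ψ : K ≃* K') (x : MulAut K) :
    fixG (MulAut.congr ψ x) = (fixG x).map ψ.toMonoidHom := by
  ext k
  rw [mem_fixG, Subgroup.mem_map]
  constructor
  · intro hk
    refine ⟨ψ.symm k, ?_, ψ.apply_symm_apply k⟩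
    rw [mem_fixG]
    have : ψ (x (ψ.symm k)) = k := hk
    apply ψ.injective
    rw [this, ψ.apply_symm_apply]
  · rintro ⟨k', hk', rfl⟩
    rw [mem_fixG] at hk'
    show ψ (x (ψ.symm (ψ k'))) = ψ k'
    rw [ψ.symm_apply_apply, hk']

theorem card_fixG_congr (ψ : K ≃* K') (x : MulAut K) :
    Nat.card ↥(fixG (MulAut.congr ψ x)) = Nat.card ↥(fixG x) := by
  rw [fixG_congr, Subgroup.card_map_of_injective ψ.injective]

/-- transport of the main argument along an isomorphism of groups -/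
theorem core_trivial_transport_iso {p : ℕ} (ψ : K ≃* K') (x : MulAut K) (φ : MulAut K')
    (hφ : MulAut.congr ψ x = φ)
    (main : ∀ W' : Subgroup (MulAut K'), (Nat.card ↥W').Coprime p →
      (∀ w ∈ W', w * φ = φ * w) →
      (∀ k : K', φ k = k → ∀ w ∈ W', MulAut.conj k * w * (MulAut.conj k)⁻¹ ∈ W') → W' = ⊥)
    (W : Subgroup (MulAut K))
    (hWcop : (Nat.card ↥W).Coprime p)
    (hWcent : ∀ w ∈ W, w * x = x * w)
    (hWnorm : ∀ k : K, x k = k → ∀ w ∈ W, MulAut.conj k * w * (MulAut.conj k)⁻¹ ∈ W) :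
    W = ⊥ := by
  have hinj : Function.Injective (MulAut.congr ψ : MulAut K ≃* MulAut K') :=
    (MulAut.congr ψ).injective
  have hW1 : W.map (MulAut.congr ψ).toMonoidHom = ⊥ := by
    apply main
    · rw [Subgroup.card_map_of_injective hinj]
      exact hWcop
    · rintro _ ⟨w, hw, rfl⟩
      show MulAut.congr ψ w * φ = φ * MulAut.congr ψ w
      rw [← hφ, ← map_mul, ← map_mul, hWcent w hw]
    · rintro k₁ hk₁ _ ⟨w, hw, rfl⟩
      have hk : x (ψ.symm k₁) = ψ.symm k₁ := by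
        rw [← hφ] at hk₁
        have : ψ (x (ψ.symm k₁)) = k₁ := hk₁
        apply ψ.injective
        rw [this, ψ.apply_symm_apply]
      have h2 := hWnorm _ hk w hw
      refine ⟨_, h2, ?_⟩
      show MulAut.congr ψ (MulAut.conj (ψ.symm k₁) * w * (MulAut.conj (ψ.symm k₁))⁻¹) =
        MulAut.conj k₁ * MulAut.congr ψ w * (MulAut.conj k₁)⁻¹
      rw [map_mul, map_mul, map_inv, congr_conj, ψ.apply_symm_apply]
  rwa [Subgroup.map_eq_bot_iff_of_injective _ hinj] at hW1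

end transport

/-! ### the minus-type form -/

section minus

variable {F : Type u} [Field F] [Fintype F] {m : ℕ}

/-- an automorphism of order two of the field does not fix the coefficients of an anisotropic
binary form -/
theorem orderOf_ne_two_of_aniso {a b : F}
    (hab : ∀ z₁ z₂ : F, z₁ ^ 2 + a * z₁ * z₂ + b * z₂ ^ 2 = 0 → z₁ = 0 ∧ z₂ = 0)
    (σ : RingAut F) (ha : σ a = a) (hb : σ b = b) : orderOf σ ≠ 2 := by
  classical
  intro hσ
  have hfo : IsOfFinOrder σ := orderOf_pos_iff.1 (by omega)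
  have hfin : Finite (Subgroup.zpowers σ) := Set.finite_coe_iff.2 hfo.finite_zpowers
  let _ : Fintype (Subgroup.zpowers σ) := Fintype.ofFinite _
  let _ : Fintype (FixedPoints.subfield (Subgroup.zpowers σ) F) := Fintype.ofFinite _
  have h1 : Module.finrank (FixedPoints.subfield (Subgroup.zpowers σ) F) F = 2 := by
    rw [FixedPoints.finrank_eq_card, ← Nat.card_eq_fintype_card, Nat.card_zpowers, hσ]
  have h2 := Module.card_eq_pow_finrank (K := FixedPoints.subfield (Subgroup.zpowers σ) F) (V := F)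
  rw [h1] at h2
  have ha' : a ∈ FixedPoints.subfield (Subgroup.zpowers σ) F :=
    (Cfsg.Agent.Lib.H7AutPSL.mem_fixed_iff σ a).2 ha
  have hb' : b ∈ FixedPoints.subfield (Subgroup.zpowers σ) F :=
    (Cfsg.Agent.Lib.H7AutPSL.mem_fixed_iff σ b).2 hb
  exact not_aniso_of_card_sq (FixedPoints.subfield (Subgroup.zpowers σ) F).subtype
    ⟨a, ha'⟩ ⟨b, hb'⟩ hab h2

/-- **Main argument for `PΩ⁻`, standard field automorphism.** -/
theorem core_trivial_field_M (hm : 3 ≤ m) {a b : F}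
    (hab : ∀ z₁ z₂ : F, z₁ ^ 2 + a * z₁ * z₂ + b * z₂ ^ 2 = 0 → z₁ = 0 ∧ z₂ = 0)
    (σ : RingAut F) (ha : σ a = a) (hb : σ b = b)
    {p : ℕ} [Fact p.Prime] (hp2 : p ≠ 2) (hσp : σ ^ p = 1)
    (W : Subgroup (MulAut (Cfsg.POmega F (Cfsg.quadFormMinus m F a b))))
    (hWcop : (Nat.card ↥W).Coprime p)
    (hWcent : ∀ w ∈ W, w * PhiM σ ha hb = PhiM σ ha hb * w)
    (hWnorm : ∀ k : Cfsg.POmega F (Cfsg.quadFormMinus m F a b), PhiM σ ha hb k = k →
      ∀ w ∈ W, MulAut.conj k * w * (MulAut.conj k)⁻¹ ∈ W)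
    (hdiv : p ∣ Nat.card ↥(fixG (PhiM σ ha hb :
      MulAut (Cfsg.POmega F (Cfsg.quadFormMinus m F a b))))) :
    W = ⊥ := by
  classical
  haveI : Fintype ↥(fixSub σ) := Fintype.ofFinite _
  obtain ⟨a₀, ha₀⟩ : ∃ a₀ : ↥(fixSub σ), fixι σ a₀ = a := ⟨⟨a, ha⟩, rfl⟩
  obtain ⟨b₀, hb₀⟩ : ∃ b₀ : ↥(fixSub σ), fixι σ b₀ = b := ⟨⟨b, hb⟩, rfl⟩
  subst ha₀ hb₀
  have hab₀ := aniso_of_push (fixι σ) a₀ b₀ hab
  exact core_trivial_field_gen (fixι σ) (hQM a₀ b₀ hab₀) (hQM _ _ hab)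
    (quadFormMinus_vpush (fixι σ) m a₀ b₀) (map_mem_iso (fixι σ) a₀ b₀) σ (fixι_fixed σ)
    (fixι_surj σ) (stdG σ ha hb) rfl rfl
    (fun β => Cfsg.Agent.AutPM.FacM_core hm _ _ hab β) (hnM hm) hp2 hσp W hWcop hWcent hWnorm hdiv

end minus

end Cfsg.Agent.Lib.H7BalM
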