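import Cfsg.Agent.Lib.Helper7.BalM.SubF
import Cfsg.Agent.Lib.Helper7.AutPM.HilbertP
import Mathlib

/-!
# Local balance for `PΩ⁻`: automorphisms of odd prime order outside `Inndiag` are field
automorphisms (helper7)
-/

set_option autoImplicit false
set_option linter.unusedSectionVars false
set_option linter.style.haveILetI false

namespace Cfsg.Agent.Lib.H7BalM

open Matrix Cfsg Cfsg.Agent.Lib.H7AutPSp Cfsg.Agent.Lib.H7AutPO Cfsg.Agent.Lib.H7AutPM
  Cfsg.Agent.H9.Orth Cfsg.Agent.Lib.Helper5.OrthSN Cfsg.Agent.Lib.Helper5.OrthAut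
  Cfsg.Agent.Lib.Helper5.OrthPar Cfsg.Agent.Lib.Helper5.OrthCls Cfsg.Agent.Lib.Helper5.OrthPM
  Cfsg.Agent.Lib.Helper8.AutSp Cfsg.Agent.Lib.Helper8.Bal

universe u v

/-- an element of odd order in a group in which a normal subgroup has "index at most two" -/
theorem mem_of_odd_pow {G : Type*} [Group G] (D : Subgroup G) (hD : D.Normal) (x ρ : G)
    (hρ : ρ * ρ ∈ D) (hx : x ∈ D ∨ x * ρ ∈ D) {p : ℕ} (hp : Odd p) (hxp : x ^ p = 1) : x ∈ D := by
  rcases hx with hx | hx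
  · exact hx
  · have h1 : ρ⁻¹ * (x * ρ) * ρ⁻¹⁻¹ ∈ D := hD.conj_mem _ hx ρ⁻¹
    have h2 : x * x ∈ D := by
      have e : x * x = (x * ρ) * (ρ⁻¹ * (x * ρ) * ρ⁻¹⁻¹) * (ρ * ρ)⁻¹ := by group
      rw [e]
      exact D.mul_mem (D.mul_mem hx h1) (D.inv_mem hρ)
    obtain ⟨k, hk⟩ := hp
    have h3 : x = ((x * x) ^ k)⁻¹ := by
      have h4 : x ^ p = (x * x) ^ k * x := by
        rw [hk, pow_succ, pow_mul, pow_two]
      rw [hxp] at h4
      exact eq_inv_of_mul_eq_one_right h4.symm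
    rw [h3]
    exact D.inv_mem (D.pow_mem h2 k)

section semiconj

variable {ι : Type} [Fintype ι] [DecidableEq ι] {F : Type u} [Field F]
  {Q Q' : (ι → F) → F}

theorem sact_inl (h : GL ι F) (v : ι → F) :
    sact (SemidirectProduct.inl h : GamL ι F) v = h.val *ᵥ v := by
  rw [sact_def, SemidirectProduct.left_inl, SemidirectProduct.right_inl]
  rfl

/-- transport of a semisimilarity along a similarity between two forms -/
def semiConj {h : GL ι F} {c : F} (hh : IsSimBetween Q Q' h c) (y : ↥(GammaO Q)) :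
    ↥(GammaO Q') :=
  ⟨SemidirectProduct.inl h * y.1 * (SemidirectProduct.inl h)⁻¹, by
    obtain ⟨μ, hμ⟩ := y.2
    have hr : (SemidirectProduct.inl h * y.1 * (SemidirectProduct.inl h)⁻¹ : GamL ι F).right =
        y.1.right := by
      rw [SemidirectProduct.mul_right, SemidirectProduct.mul_right, SemidirectProduct.inv_right,
        SemidirectProduct.right_inl, inv_one, mul_one, one_mul]
    have hc0 : c * (μ : F) * y.1.right c⁻¹ ≠ 0 :=
      mul_ne_zero (mul_ne_zero hh.1 (Units.ne_zero μ))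
        ((map_ne_zero (y.1.right : F →+* F)).2 (inv_ne_zero hh.1))
    refine ⟨Units.mk0 _ hc0, fun v => ?_⟩
    rw [hr, sact_mul, sact_mul, sact_inl, hh.2, hμ, ← map_inv, sact_inl, hh.symm.2, map_mul,
      Units.val_mk0]
    ring⟩

theorem semiConj_val {h : GL ι F} {c : F} (hh : IsSimBetween Q Q' h c) (y : ↥(GammaO Q)) :
    (semiConj hh y).1 = SemidirectProduct.inl h * y.1 * (SemidirectProduct.inl h)⁻¹ := rfl

theorem semiConj_right {h : GL ι F} {c : F} (hh : IsSimBetween Q Q' h c) (y : ↥(GammaO Q)) :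
    (semiConj hh y).1.right = y.1.right := by
  rw [semiConj_val, SemidirectProduct.mul_right, SemidirectProduct.mul_right,
    SemidirectProduct.inv_right, SemidirectProduct.right_inl, inv_one, mul_one, one_mul]

theorem conjG_inl (h t : GL ι F) :
    conjG (SemidirectProduct.inl h : GamL ι F) t = h * t * h⁻¹ := by
  rw [conjG_apply, SemidirectProduct.left_inl, SemidirectProduct.right_inl, gmapI_one]

/-- **transport of the automorphisms induced by semisimilarities** -/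
theorem pomConj_PsO {h : GL ι F} {c : F} (hh : IsSimBetween Q Q' h c) (y : ↥(GammaO Q)) :
    MulAut.congr (pomConj hh) (PsO Q y) = PsO Q' (semiConj hh y) := by
  apply autC_ext
  intro s
  show pomConj hh (PsO Q y ((pomConj hh).symm (prC s))) = _
  rw [pomConj_symm_pr, PsO_pr, pomConj_pr, PsO_pr]
  congr 1
  apply Subtype.ext
  apply Subtype.ext
  show h * conjG y.1 (h⁻¹ * s.1.1 * h⁻¹⁻¹) * h⁻¹ = conjG (semiConj hh y).1 s.1.1
  have e : (SemidirectProduct.inl h : GamL ι F)⁻¹ = SemidirectProduct.inl h⁻¹ :=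
    (map_inv (SemidirectProduct.inl : GL ι F →* GamL ι F) h).symm
  rw [semiConj_val, e, map_mul (conjG (ι := ι) (F := F)), map_mul (conjG (ι := ι) (F := F)),
    MulAut.mul_apply, MulAut.mul_apply, conjG_inl, conjG_inl]

end semiconj

section minus

variable {F : Type u} [Field F] [Fintype F] {m : ℕ} {a b : F}

/-- membership in `Inndiag` gives the Prelude predicate -/
theorem mem_inndiag_imp_pred (hm : 3 ≤ m)
    (hab : ∀ z₁ z₂ : F, z₁ ^ 2 + a * z₁ * z₂ + b * z₂ ^ 2 = 0 → z₁ = 0 ∧ z₂ = 0)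
    (x : MulAut (Cfsg.POmega F (Cfsg.quadFormMinus m F a b)))
    (hx : x ∈ Cfsg.inndiagPOmegaMinus m F a b) : Cfsg.IsInnerDiagonalAutPOmegaMinus m a b x := by
  by_cases h2 : (2 : F) = 0
  · haveI : CharP F 2 := CharTwo.of_one_ne_zero_of_two_eq_zero one_ne_zero h2
    have hQ := hQM (m := m) a b hab
    have hcard : Fintype.card F ≠ 2 ∨ Fintype.card (IM m) ≠ 4 :=
      Or.inr (by rw [card_IM]; omega)
    rw [inndiag_eq_inn_two hm hab h2] at hx
    obtain ⟨t, rfl⟩ := hx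
    obtain ⟨s, rfl⟩ := prC_surjective t
    have hs := (mem_omega_iff_even_all hQ hcard s.1).1 s.2
    refine ⟨s.1.1, iso_le_sim _ s.1.2, ?_, ?_⟩
    · refine (preservesMinus_iff_par m a b hab s.1.1 1 one_ne_zero s.1.1 s.1.2 ?_).2 hs
      apply gl_ext
      intro v
      rw [act_mul, act_scalarGL, one_smul]
    · rw [induced_refl_iff ⟨s.1.1, iso_le_sim _ s.1.2⟩]
      exact (DhO_omega s).symm
  · have hodd := odd_card_of_two_ne_zero hm hab h2
    obtain ⟨g, rfl⟩ := inndiag_le_range hm hab hx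
    have h3 := (mem_inndiag_iff_odd hm hab hodd g).1 hx
    rw [chiDet_eq_one_iff] at h3
    exact ⟨g.1, g.2, (preserves_minus_iff m a b hodd hab g).2 h3, (induced_refl_iff g _).2 rfl⟩

/-- a similarity inducing an automorphism of odd order induces an inner-diagonal one -/
theorem DhO_mem_inndiag_of_odd_pow (hm : 3 ≤ m)
    (hab : ∀ z₁ z₂ : F, z₁ ^ 2 + a * z₁ * z₂ + b * z₂ ^ 2 = 0 → z₁ = 0 ∧ z₂ = 0)
    (g : ↥(Cfsg.Geo.quadSimilarityGroup (F := F) (Cfsg.quadFormMinus m F a b)))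
    {p : ℕ} (hp : Odd p) (hgp : DhO (Cfsg.quadFormMinus m F a b) g ^ p = 1) :
    DhO (Cfsg.quadFormMinus m F a b) g ∈ Cfsg.inndiagPOmegaMinus m F a b := by
  have hQ := hQM (m := m) a b hab
  have hD := Cfsg.Agent.S0288.disc_ne_zero a b hab
  have hnorm := inndiag_normal hm hab (fun β => Cfsg.Agent.AutPM.FacM_core hm a b hab β)
  refine mem_of_odd_pow _ hnorm _
    (DhO (Cfsg.quadFormMinus m F a b) ⟨reflM m a, reflM_mem_sim⟩) ?_ ?_ hp hgp
  · rw [← map_mul]
    have e : (⟨reflM m a, reflM_mem_sim⟩ :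
        ↥(Cfsg.Geo.quadSimilarityGroup (F := F) (Cfsg.quadFormMinus m F a b))) *
        ⟨reflM m a, reflM_mem_sim⟩ = 1 := by
      apply Subtype.ext
      show reflM m a * reflM m a = 1
      rw [reflM_eq_rf m a b hQ hD, rf_mul_self]
    rw [e, map_one]
    exact one_mem _
  · rw [← map_mul]
    exact inndiag_or_refl hm hab g

/-- **an automorphism of odd prime order outside `Inndiag` is a field automorphism** -/
theorem isFieldClass_of_not_inndiag_M (hm : 3 ≤ m)
    (hab : ∀ z₁ z₂ : F, z₁ ^ 2 + a * z₁ * z₂ + b * z₂ ^ 2 = 0 → z₁ = 0 ∧ z₂ = 0)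
    {p : ℕ} (hp : p.Prime) (hp2 : p ≠ 2)
    (x : MulAut (Cfsg.POmega F (Cfsg.quadFormMinus m F a b)))
    (hord : orderOf x = p) (hnot : ¬ Cfsg.IsInnerDiagonalAutPOmegaMinus m a b x) :
    Cfsg.IsFieldAutClassPOmegaMinus m x := by
  classical
  haveI : Fact p.Prime := ⟨hp⟩
  have hQ := hQM (m := m) a b hab
  have hn := hnM (m := m) hm
  have hpo : Odd p := hp.odd_of_ne_two hp2
  have hxp : x ^ p = 1 := by rw [← hord]; exact pow_orderOf_eq_one x
  obtain ⟨y, rfl⟩ := PsO_surjective _ (fun β => Cfsg.Agent.AutPM.FacM_core hm a b hab β) x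
  obtain ⟨τ, hτ⟩ : ∃ τ, τ = y.1.right := ⟨_, rfl⟩
  -- `τ` has order `p`
  have hτp : τ ^ p = 1 := by
    rw [← map_pow] at hxp
    have h3 := (ker_PsO hQ hn _ hxp).1
    have h4 : (y ^ p).1.right = rightO _ (y ^ p) := rfl
    rw [h4, map_pow, rightO_apply, ← hτ] at h3
    exact h3
  have hτ1 : τ ≠ 1 := by
    intro h1
    apply hnot
    apply mem_inndiag_imp_pred hm hab
    have hy : y ∈ (rightO (Cfsg.quadFormMinus m F a b)).ker := by
      rw [MonoidHom.mem_ker, rightO_apply, ← hτ]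
      exact h1
    rw [rightO_ker] at hy
    obtain ⟨g, rfl⟩ := hy
    rw [PsO_simIncl] at hxp ⊢
    exact DhO_mem_inndiag_of_odd_pow hm hab g hpo hxp
  have hτr : orderOf τ = p := orderOf_eq_prime hτp hτ1
  -- coefficients fixed by `τ`
  haveI : Fintype (FixedPoints.subfield (Subgroup.zpowers τ) F) := Fintype.ofFinite _
  obtain ⟨a₀, b₀, hab₀⟩ := exists_aniso_pair (FixedPoints.subfield (Subgroup.zpowers τ) F)
  obtain ⟨a', ha'⟩ : ∃ a' : F, a' = (a₀ : F) := ⟨_, rfl⟩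
  obtain ⟨b', hb'⟩ : ∃ b' : F, b' = (b₀ : F) := ⟨_, rfl⟩
  have hτa : τ a' = a' := by
    rw [ha']
    exact (Cfsg.Agent.Lib.H7AutPSL.mem_fixed_iff τ _).1 a₀.2
  have hτb : τ b' = b' := by
    rw [hb']
    exact (Cfsg.Agent.Lib.H7AutPSL.mem_fixed_iff τ _).1 b₀.2
  have hab' : ∀ z₁ z₂ : F, z₁ ^ 2 + a' * z₁ * z₂ + b' * z₂ ^ 2 = 0 → z₁ = 0 ∧ z₂ = 0 := by
    apply aniso_of_odd_sigma τ p hpo hτp a' b' hτa hτb
    intro z₁ z₂ h1 h2 h
    have hz1 : z₁ ∈ FixedPoints.subfield (Subgroup.zpowers τ) F :=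
      (Cfsg.Agent.Lib.H7AutPSL.mem_fixed_iff τ z₁).2 h1
    have hz2 : z₂ ∈ FixedPoints.subfield (Subgroup.zpowers τ) F :=
      (Cfsg.Agent.Lib.H7AutPSL.mem_fixed_iff τ z₂).2 h2
    have h' : ((⟨z₁, hz1⟩ : FixedPoints.subfield (Subgroup.zpowers τ) F) ^ 2 +
        a₀ * ⟨z₁, hz1⟩ * ⟨z₂, hz2⟩ + b₀ * ⟨z₂, hz2⟩ ^ 2 :
          FixedPoints.subfield (Subgroup.zpowers τ) F) = 0 := by
      apply Subtype.ext
      push_cast
      rw [← ha', ← hb']
      exact h
    have := hab₀ _ _ h'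
    exact ⟨congrArg Subtype.val this.1, congrArg Subtype.val this.2⟩
  -- transport to the form with fixed coefficients
  obtain ⟨h, hh⟩ := exists_simBetween_minus (m := m) a b a' b' hab hab'
  obtain ⟨y', hy'⟩ : ∃ y', y' = semiConj hh y := ⟨_, rfl⟩
  have hy'r : y'.1.right = τ := by rw [hy', semiConj_right, hτ]
  have hx' : MulAut.congr (pomConj hh) (PsO _ y) = PsO _ y' := by rw [hy', pomConj_PsO]
  -- split off the standard field automorphism
  have hz : y' * (stdG (m := m) τ hτa hτb)⁻¹ ∈ (rightO (Cfsg.quadFormMinus m F a' b')).ker := by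
    rw [MonoidHom.mem_ker, map_mul, map_inv, rightO_apply, rightO_apply, stdG_right, hy'r,
      mul_inv_cancel]
  rw [rightO_ker] at hz
  obtain ⟨g', hg'⟩ := hz
  have hy'' : y' = cosG τ hτa hτb g' := by
    unfold cosG
    rw [hg', inv_mul_cancel_right]
  have hx'' : MulAut.congr (pomConj hh) (PsO _ y) =
      DhO _ g' * PhiM (m := m) τ hτa hτb := by
    rw [hx', hy'', PsO_cosG]
  have hpow : (DhO (Cfsg.quadFormMinus m F a' b') g' * PhiM (m := m) τ hτa hτb) ^ p = 1 := by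
    rw [← hx'', ← map_pow, hxp, map_one]
  obtain ⟨k, hk⟩ := field_coset_conj_M hm hab' τ hτa hτb p hp hτr g' hpow
  -- assemble
  refine ⟨a', b', (pomConj hh).trans ((DhO (Cfsg.quadFormMinus m F a' b') k)⁻¹ :
    MulAut (Cfsg.POmega F (Cfsg.quadFormMinus m F a' b'))), τ, hab', hτ1, hτa, hτb, ?_⟩
  rw [fieldAut_iff τ hτa hτb]
  have e : ∀ t, (DhO (Cfsg.quadFormMinus m F a' b') k)⁻¹
      ((MulAut.congr (pomConj hh) (PsO _ y))
        ((DhO (Cfsg.quadFormMinus m F a' b') k) t)) = PhiM (m := m) τ hτa hτb t := by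
    intro t
    rw [hx'', hk]
    simp only [MulAut.mul_apply, MulAut.inv_apply_self]
  ext t
  exact e t

end minus

end Cfsg.Agent.Lib.H7BalM
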